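import Cfsg.Agent.Mrg.Omega.NO3S.Level.Claim
import Cfsg.Agent.ZN.ChoiceSit

section


/-!
# TORUS, `k ≥ 4`: the pair lemma

Two blocks `(K₁, W₁)`, `(K₂, W₂)` over `(B, X)` in a common abelian group `U = ⟨X, W₁, W₂⟩^⟨K₁,K₂⟩`; `K₁` centralises
the line `W₂ ∩ X` of `K₂`.

* `PairD` : the situation;
* `main` : **`K₁` normalises `W₁ W₂ X`.**
-/

set_option autoImplicit false
set_option linter.unusedSectionVars false

namespace Cfsg.Agent.Omega.OM.Lev.Low.TorusK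

open Subgroup Cfsg Cfsg.Agent.ZN Cfsg.Agent.ZN.ChoiceBase
open Cfsg.Agent.Omega.SQ1.Bau (mem_sup_comm Mv)
open Cfsg.Agent.Omega.NO3b.FPB.Base (cW mem_cW cW_le)
open Cfsg.Agent.Omega.NO3S.Level.Claim (Fm Bl cB mem_cB cB_le BB)
open Cfsg.Agent.Omega.NO3S.ThmB (Fam Fr DM K1 KK card_inf_relIndex relIndex_cj le_normalizer_centralizer norm_sSup
  cj_le_cj_iff mem_cj_of exists_of_mem_cj comm_le mem_comm)

universe u

variable {G : Type u} [Group G]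

section one

variable {S U H B X L V : Subgroup G} {AA : Set (Subgroup G)}

theorem DM_conj {A : Subgroup G} (hA : A ∈ DM U AA) {g : G} (hg : g ∈ normalizer (U : Set G))
    (hA' : cj g A ∈ AA) : cj g A ∈ DM U AA := by
  have e : cj g (centralizer (U : Set G)) = centralizer (U : Set G) := by
    rw [cj_centralizer, cj_eq_of_mem_normalizer hg]
  refine ⟨hA', fun h => hA.2.1 ?_, fun B hB hB' => ?_⟩
  · rw [← e] at h
    exact cj_le_cj_iff.1 h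
  · have h1 := hA.2.2 B hB hB'
    have h2 := relIndex_cj (A := A) (C := centralizer (U : Set G)) g
    rw [e] at h2
    rwa [h2]

theorem DM_K (f : Fm S U H B X AA) (k : Bl S U H B X AA L V) {A : Subgroup G} (hA : A ∈ DM U AA)
    (hc : A ≤ centralizer (V : Set G)) {h : G} (hh : h ∈ L) : cj h A ∈ DM U AA :=
  DM_conj hA (k.LY hh) (k.conj_mem f hA.1 (le_inf (f.le A hA.1) hc) hh)

/-- A smallest member of `AA` which moves `V`. -/
theorem inf_le' [Finite G] (f : Fm S U H B X AA) (k : Bl S U H B X AA L V) {A : Subgroup G} (hA : Fr V (DM U AA) A) :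
    A ⊓ cB B V ≤ centralizer (U : Set G) := by
  have hn : ¬ A ≤ cB B V := fun h => hA.2 (h.trans inf_le_right)
  obtain ⟨-, -, -, h4⟩ := k.order f k.VY le_rfl hA.1.1 hn
  have hE := f.cutW le_rfl hA.1.1 h4
  by_contra hc
  have h5 := hA.1.2.2 _ hE hc
  have e1 := card_inf_relIndex (A := A) (C := centralizer (U : Set G))
  have e2 := card_inf_relIndex (A := A ⊓ cB B V) (C := centralizer (U : Set G))
  have e3 : A ⊓ cB B V ⊓ centralizer (U : Set G) = A ⊓ centralizer (U : Set G) :=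
    le_antisymm (inf_le_inf_right _ inf_le_left) (le_inf h4.2.1 inf_le_right)
  rw [e3] at e2
  have h6 : Nat.card A ≤ Nat.card ↥(A ⊓ cB B V) := by
    rw [← e1, ← e2]
    exact Nat.mul_le_mul_right _ h5
  exact hn (inf_eq_left.1 (eq_of_le_of_card_ge inf_le_left h6))

/-- `U = V C_U(A)` -/
theorem full [Finite G] (f : Fm S U H B X AA) (k : Bl S U H B X AA L V) {A : Subgroup G} (hA : Fr V (DM U AA) A) {u : G}
    (hu : u ∈ U) : ∃ v ∈ V, ∃ c ∈ U, (∀ a ∈ A, a * c = c * a) ∧ u = v * c := by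
  have hn : ¬ A ≤ cB B V := fun h => hA.2 (h.trans inf_le_right)
  obtain ⟨-, -, h3, -⟩ := k.order f k.VY le_rfl hA.1.1 hn
  have h1 : u ∈ V ⊔ cW U A := by
    rw [← h3]
    refine mem_cW.2 ⟨hu, fun e he => ?_⟩
    exact (mem_centralizer_iff.1 (inf_le' f k hA he) u hu).symm
  obtain ⟨v, hv, c, hc, rfl⟩ := mem_sup_comm
    (fun a ha b hb => f.Yc a (k.VY ha) b (cW_le U A hb)) h1
  exact ⟨v, hv, c, cW_le U A hc, (mem_cW.1 hc).2, rfl⟩

/-- `B = A C_B(V)`. -/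
theorem dec [Finite G] (f : Fm S U H B X AA) (k : Bl S U H B X AA L V) {A : Subgroup G} (hA : Fr V (DM U AA) A) {b : G}
    (hb : b ∈ B) : ∃ a ∈ A, ∃ p ∈ cB B V, b = a * p :=
  (k.order f k.VY le_rfl hA.1.1 fun h => hA.2 (h.trans inf_le_right)).2.1 b hb

/-- `[U, A] ≤ [V, A] ≤ V ∩ X` -/
theorem comm_U [Finite G] (f : Fm S U H B X AA) (k : Bl S U H B X AA L V) {A : Subgroup G} (hA : Fr V (DM U AA) A)
    {u a : G} (hu : u ∈ U) (ha : a ∈ A) : a * u * a⁻¹ * u⁻¹ ∈ V ⊓ X := by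
  obtain ⟨v, hv, c, hc, h1, rfl⟩ := full f k hA hu
  have haB : a ∈ B := f.le A hA.1.1 ha
  have e : a * (v * c) * a⁻¹ * (v * c)⁻¹ = a * v * a⁻¹ * v⁻¹ := by
    have h2 := h1 a ha
    calc a * (v * c) * a⁻¹ * (v * c)⁻¹ = a * v * (c * a⁻¹) * c⁻¹ * v⁻¹ := by group
      _ = a * v * (a⁻¹ * c) * c⁻¹ * v⁻¹ := by
          congr 3
          have : a * c * a⁻¹ = c := by rw [h2]; group
          calc c * a⁻¹ = a⁻¹ * (a * c * a⁻¹) := by group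
            _ = a⁻¹ * c := by rw [this]
      _ = _ := by group
  rw [e]
  exact mem_inf.2 ⟨mul_mem ((mem_normalizer_iff.1 (k.LV (k.BL haB)) v).1 hv) (inv_mem hv), k.quad a haB v hv⟩

/-- A subgroup over `B` which contains `cj x A`, `x ∈ L` moving the line, contains `L`. -/
theorem le_of [Finite G] (f : Fm S U H B X AA) (k : Bl S U H B X AA L V) {A : Subgroup G} (hA : Fr V (DM U AA) A)
    {N : Subgroup G} (hB : B ≤ N) (hAN : ∀ x ∈ L, cj x A ≤ N) : L ≤ N := by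
  obtain ⟨x, hx, hm⟩ := k.ne
  refine k.gen x hx hm N hB ?_
  rintro _ ⟨b, hb, rfl⟩
  obtain ⟨a, ha, p, hp, rfl⟩ := dec f k hA hb
  rw [map_mul]
  refine mul_mem (hAN x hx ⟨a, ha, rfl⟩) (hB (cB_le B V ?_))
  exact (mem_normalizer_iff.1 (k.LP hx) p).1 hp

end one

theorem comm_cj {a k c : G} (hc : a * (k⁻¹ * c * k) = k⁻¹ * c * k * a) : k * a * k⁻¹ * c = c * (k * a * k⁻¹) := by
  calc k * a * k⁻¹ * c = k * (a * (k⁻¹ * c * k)) * k⁻¹ := by group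
    _ = k * (k⁻¹ * c * k * a) * k⁻¹ := by rw [hc]
    _ = c * (k * a * k⁻¹) := by group

theorem word_y {d g u γ δ ε : G} (hγ : γ = g⁻¹ * u * g * u⁻¹) (hδ : δ = d⁻¹ * u * d * u⁻¹) (hε : ε = g * δ * g⁻¹)
    (gγ : g * γ = γ * g) (dγ : d * γ = γ * d) (dδ : d * δ = δ * d) (dε : d * ε = ε * d) (cγε : Commute γ ε) :
    (d * g * d⁻¹ * g⁻¹) * u * (d * g * d⁻¹ * g⁻¹)⁻¹ * u⁻¹ = ε * δ⁻¹ := by
  have gγ' : Commute g γ := gγ
  have dγ' : Commute d γ := dγ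
  have dδ' : Commute d δ := dδ
  have dε' : Commute d ε := dε
  have e1 : g⁻¹ * u * g = γ * u := by rw [hγ]; group
  have e2 : d⁻¹ * u * d = δ * u := by rw [hδ]; group
  have e3 : g * u * g⁻¹ = γ⁻¹ * u := by
    have h1 : u = g * (γ * u) * g⁻¹ := by rw [← e1]; group
    have h2 : u = γ * (g * u * g⁻¹) := by
      calc u = g * (γ * u) * g⁻¹ := h1
        _ = (g * γ) * u * g⁻¹ := by group
        _ = (γ * g) * u * g⁻¹ := by rw [gγ]
        _ = _ := by group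
    calc g * u * g⁻¹ = γ⁻¹ * (γ * (g * u * g⁻¹)) := by group
      _ = γ⁻¹ * u := by rw [← h2]
  have e4 : d * u * d⁻¹ = δ⁻¹ * u := by
    have h1 : u = d * (δ * u) * d⁻¹ := by rw [← e2]; group
    have h2 : u = δ * (d * u * d⁻¹) := by
      calc u = d * (δ * u) * d⁻¹ := h1
        _ = (d * δ) * u * d⁻¹ := by group
        _ = (δ * d) * u * d⁻¹ := by rw [dδ]
        _ = _ := by group
    calc d * u * d⁻¹ = δ⁻¹ * (δ * (d * u * d⁻¹)) := by group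
      _ = δ⁻¹ * u := by rw [← h2]
  have f1 : d⁻¹ * γ * d = γ := by
    rw [mul_assoc, ← dγ]; group
  have f2 : g * γ * g⁻¹ = γ := by rw [gγ]; group
  have f3 : d * ε * d⁻¹ = ε := by rw [dε]; group
  calc (d * g * d⁻¹ * g⁻¹) * u * (d * g * d⁻¹ * g⁻¹)⁻¹ * u⁻¹
      = d * (g * (d⁻¹ * (g⁻¹ * u * g) * d) * g⁻¹) * d⁻¹ * u⁻¹ := by group
    _ = d * (g * (d⁻¹ * (γ * u) * d) * g⁻¹) * d⁻¹ * u⁻¹ := by rw [e1]
    _ = d * (g * ((d⁻¹ * γ * d) * (d⁻¹ * u * d)) * g⁻¹) * d⁻¹ * u⁻¹ := by group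
    _ = d * (g * (γ * (δ * u)) * g⁻¹) * d⁻¹ * u⁻¹ := by rw [f1, e2]
    _ = d * ((g * γ * g⁻¹) * (g * δ * g⁻¹) * (g * u * g⁻¹)) * d⁻¹ * u⁻¹ := by group
    _ = d * (γ * ε * (γ⁻¹ * u)) * d⁻¹ * u⁻¹ := by rw [f2, ← hε, e3]
    _ = d * (ε * u) * d⁻¹ * u⁻¹ := by
        have : γ * ε * (γ⁻¹ * u) = ε * u := by
          rw [cγε.eq]; group
        rw [this]
    _ = (d * ε * d⁻¹) * (d * u * d⁻¹) * u⁻¹ := by group
    _ = ε * (δ⁻¹ * u) * u⁻¹ := by rw [f3, e4]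
    _ = ε * δ⁻¹ := by group

/-- **The pair.** -/
structure PairD (S U H B X : Subgroup G) (AA : Set (Subgroup G)) (K₁ W₁ K₂ W₂ : Subgroup G) : Prop where
  fm : Fm S U H B X AA
  k₁ : Bl S U H B X AA K₁ W₁
  k₂ : Bl S U H B X AA K₂ W₂
  cen : ∀ x ∈ K₁, ∀ v ∈ W₂ ⊓ X, x * v = v * x
  gen : ∀ C : Subgroup G, X ≤ C → W₁ ≤ C → W₂ ≤ C → K₁ ≤ normalizer (C : Set G) → K₂ ≤ normalizer (C : Set G) →
    U ≤ C

namespace PairD

variable {S U H B X K₁ W₁ K₂ W₂ : Subgroup G} {AA : Set (Subgroup G)} (h : PairD S U H B X AA K₁ W₁ K₂ W₂)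

include h

theorem exists_some [Finite G] : (∃ A, Fr W₁ (DM U AA) A) ∨ ∃ A, Fr W₂ (DM U AA) A := by
  by_contra h0
  push Not at h0
  obtain ⟨h1, h2⟩ := h0
  have c1 : ∀ A ∈ DM U AA, A ≤ centralizer (W₁ : Set G) := fun A hA => by
    by_contra hc
    exact h1 A ⟨hA, hc⟩
  have c2 : ∀ A ∈ DM U AA, A ≤ centralizer (W₂ : Set G) := fun A hA => by
    by_contra hc
    exact h2 A ⟨hA, hc⟩
  obtain ⟨A, hA⟩ : ∃ A, A ∈ DM U AA := by
    obtain ⟨A1, hA1, hA1'⟩ := h.k₁.off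
    have hn : ¬ A1 ≤ centralizer (U : Set G) := fun h' => hA1' (le_inf (h.fm.le A1 hA1)
      (h'.trans (centralizer_le h.k₁.VY)))
    have h1 : ∃ n, ∃ A ∈ AA, ¬ A ≤ centralizer (U : Set G) ∧ (centralizer (U : Set G)).relIndex A = n :=
      ⟨_, A1, hA1, hn, rfl⟩
    classical
    obtain ⟨A, hA, hA', hn⟩ := Nat.find_spec h1
    refine ⟨A, hA, hA', fun B hB hB' => ?_⟩
    rw [hn]
    exact Nat.find_min' h1 ⟨B, hB, hB', rfl⟩
  refine hA.2.1 ?_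
  have h1 : U ≤ centralizer ((sSup (DM U AA) : Subgroup G) : Set G) := by
    refine h.gen _ ?_ ?_ ?_ ?_ ?_
    · rw [le_centralizer_iff]
      refine sSup_le fun A hA a ha => mem_centralizer_iff.2 fun x hx => ?_
      exact (h.fm.BZ a (h.fm.le A hA.1 ha) x hx).symm
    · rw [le_centralizer_iff]
      exact sSup_le fun B hB => c1 B hB
    · rw [le_centralizer_iff]
      exact sSup_le fun B hB => c2 B hB
    · exact le_normalizer_centralizer (norm_sSup fun B hB g hg => DM_K h.fm h.k₁ hB (c1 B hB) hg)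
    · exact le_normalizer_centralizer (norm_sSup fun B hB g hg => DM_K h.fm h.k₂ hB (c2 B hB) hg)
  exact (le_sSup hA).trans (le_centralizer_iff.1 h1)

/-- `C = W₁ W₂ X` -/
theorem le_U : W₁ ⊔ W₂ ⊔ X ≤ U := sup_le (sup_le h.k₁.VY h.k₂.VY) h.fm.ZY

theorem B_norm [Finite G] : B ≤ normalizer ((W₁ ⊔ W₂ ⊔ X : Subgroup G) : Set G) := by
  intro b hb
  refine mem_normalizer_of_cj_le ?_
  rw [cj_le_iff]
  refine sup_le (sup_le ?_ ?_) ?_
  · rw [← cj_le_iff, cj_eq_of_mem_normalizer (h.k₁.LV (h.k₁.BL hb))]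
    exact le_sup_left.trans le_sup_left
  · rw [← cj_le_iff, cj_eq_of_mem_normalizer (h.k₂.LV (h.k₂.BL hb))]
    exact le_sup_right.trans le_sup_left
  · rw [← cj_le_iff]
    rintro _ ⟨x, hx, rfl⟩
    have h1 := h.fm.BZ b hb x hx
    have e : (MulAut.conj b).toMonoidHom x = x := by
      change b * x * b⁻¹ = x
      rw [h1]; group
    rw [e]
    exact mem_sup_right hx

omit h in
theorem norm_of_comm [Finite G] {C : Subgroup G} {g : G} (hg : ∀ y ∈ C, g * y * g⁻¹ * y⁻¹ ∈ C) :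
    g ∈ normalizer (C : Set G) := by
  refine mem_normalizer_of_cj_le ?_
  rintro _ ⟨y, hy, rfl⟩
  have h1 := mul_mem (hg y hy) hy
  rwa [inv_mul_cancel_right] at h1

/-- case (1) -/
theorem case_one [Finite G] {A : Subgroup G} (hA : Fr W₁ (DM U AA) A) :
    K₁ ≤ normalizer ((W₁ ⊔ W₂ ⊔ X : Subgroup G) : Set G) := by
  refine le_of h.fm h.k₁ hA h.B_norm ?_
  rintro x hx _ ⟨a, ha, rfl⟩
  refine norm_of_comm fun y hy => ?_
  change x * a * x⁻¹ * y * (x * a * x⁻¹)⁻¹ * y⁻¹ ∈ _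
  have hy' : x⁻¹ * y * x ∈ U := by
    have := (mem_normalizer_iff.1 (h.k₁.LY (inv_mem hx)) y).1 (h.le_U hy)
    rwa [inv_inv] at this
  have h1 := (comm_U h.fm h.k₁ hA hy' ha).1
  have h2 := (mem_normalizer_iff.1 (h.k₁.LV hx) _).1 h1
  have e : x * (a * (x⁻¹ * y * x) * a⁻¹ * (x⁻¹ * y * x)⁻¹) * x⁻¹ = x * a * x⁻¹ * y * (x * a * x⁻¹)⁻¹ * y⁻¹ := by
    group
  rw [e] at h2
  exact mem_sup_left (mem_sup_left h2)

/-- case (2): a subgroup `C` of `U` over `W₂` normalised by `K₁` is normalised by `K₂`. -/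
theorem K₂_norm [Finite G] {A : Subgroup G} (hA : Fr W₂ (DM U AA) A) {C : Subgroup G} (hCU : C ≤ U) (hC : W₂ ≤ C)
    (hn : K₁ ≤ normalizer (C : Set G)) : K₂ ≤ normalizer (C : Set G) := by
  refine le_of h.fm h.k₂ hA (h.k₁.BL.trans hn) ?_
  rintro x hx _ ⟨a, ha, rfl⟩
  refine norm_of_comm fun y hy => ?_
  change x * a * x⁻¹ * y * (x * a * x⁻¹)⁻¹ * y⁻¹ ∈ _
  have hy' : x⁻¹ * y * x ∈ U := by
    have := (mem_normalizer_iff.1 (h.k₂.LY (inv_mem hx)) y).1 (hCU hy)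
    rwa [inv_inv] at this
  have h1 := (comm_U h.fm h.k₂ hA hy' ha).1
  have h2 := (mem_normalizer_iff.1 (h.k₂.LV hx) _).1 h1
  have e : x * (a * (x⁻¹ * y * x) * a⁻¹ * (x⁻¹ * y * x)⁻¹) * x⁻¹ = x * a * x⁻¹ * y * (x * a * x⁻¹)⁻¹ * y⁻¹ := by
    group
  rw [e] at h2
  exact hC h2

theorem top_of [Finite G] {A : Subgroup G} (hA : Fr W₂ (DM U AA) A) {C : Subgroup G} (hCU : C ≤ U) (hX : X ≤ C)
    (h1 : W₁ ≤ C) (h2 : W₂ ≤ C) (hn : K₁ ≤ normalizer (C : Set G)) : U ≤ C :=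
  h.gen C hX h1 h2 hn (h.K₂_norm hA hCU h2 hn)

/-- `[U, C_B(W₁)] ≤ W₂ ∩ X` -/
theorem comm_E [Finite G] {A : Subgroup G} (hA : Fr W₂ (DM U AA) A) :
    ∀ u ∈ U, ∀ e ∈ cB B W₁, e * u * e⁻¹ * u⁻¹ ∈ W₂ ⊓ X := by
  have hc : ∀ a ∈ U, ∀ b ∈ W₂ ⊓ X, a * b = b * a := fun a ha b hb =>
    h.fm.Yc a ha b (h.k₂.VY hb.1)
  let C : Subgroup G :=
    { carrier := {u | u ∈ U ∧ ∀ e ∈ cB B W₁, e * u * e⁻¹ * u⁻¹ ∈ W₂ ⊓ X}
      one_mem' := ⟨one_mem _, fun e _ => by simp⟩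
      mul_mem' := by
        rintro a b ⟨ha, ha'⟩ ⟨hb, hb'⟩
        refine ⟨mul_mem ha hb, fun e he => ?_⟩
        have e1 : e * (a * b) * e⁻¹ * (a * b)⁻¹ = e * a * e⁻¹ * ((e * b * e⁻¹ * b⁻¹) * a⁻¹) := by group
        rw [e1, ← hc _ (inv_mem ha) _ (hb' e he), ← mul_assoc]
        exact mul_mem (ha' e he) (hb' e he)
      inv_mem' := by
        rintro a ⟨ha, ha'⟩
        refine ⟨inv_mem ha, fun e he => ?_⟩
        have e1 : e * a⁻¹ * e⁻¹ * a⁻¹⁻¹ = a⁻¹ * ((e * a * e⁻¹ * a⁻¹)⁻¹ * a) := by group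
        rw [e1, ← hc _ ha _ (inv_mem (ha' e he)), inv_mul_cancel_left]
        exact inv_mem (ha' e he) }
  have hC : ∀ u, u ∈ C ↔ u ∈ U ∧ ∀ e ∈ cB B W₁, e * u * e⁻¹ * u⁻¹ ∈ W₂ ⊓ X := fun u => Iff.rfl
  have h0 : U ≤ C := by
    refine h.top_of hA (fun u hu => hu.1) ?_ ?_ ?_ ?_
    · intro x hx
      refine (hC x).2 ⟨h.fm.ZY hx, fun e he => ?_⟩
      have e1 : e * x * e⁻¹ * x⁻¹ = 1 := by
        rw [h.fm.BZ e (cB_le B W₁ he) x hx]; group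
      rw [e1]; exact one_mem _
    · intro x hx
      refine (hC x).2 ⟨h.k₁.VY hx, fun e he => ?_⟩
      have e1 : e * x * e⁻¹ * x⁻¹ = 1 := by
        rw [(mem_cB.1 he).2 x hx]; group
      rw [e1]; exact one_mem _
    · intro x hx
      refine (hC x).2 ⟨h.k₂.VY hx, fun e he => ?_⟩
      have he' := cB_le B W₁ he
      exact mem_inf.2 ⟨mul_mem ((mem_normalizer_iff.1 (h.k₂.LV (h.k₂.BL he')) x).1 hx) (inv_mem hx),
        h.k₂.quad e he' x hx⟩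
    · intro y hy
      refine mem_normalizer_of_cj_le ?_
      rintro _ ⟨u, hu, rfl⟩
      change y * u * y⁻¹ ∈ C
      refine (hC _).2 ⟨(mem_normalizer_iff.1 (h.k₁.LY hy) u).1 hu.1, fun e he => ?_⟩
      have he' : y⁻¹ * e * y ∈ cB B W₁ := by
        have := (mem_normalizer_iff.1 (h.k₁.LP (inv_mem hy)) e).1 he
        rwa [inv_inv] at this
      have h1 := hu.2 _ he'
      have h2 := h.cen y hy _ h1
      have e1 : e * (y * u * y⁻¹) * e⁻¹ * (y * u * y⁻¹)⁻¹ =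
          y * (y⁻¹ * e * y * u * (y⁻¹ * e * y)⁻¹ * u⁻¹) * y⁻¹ := by group
      rw [e1, h2, mul_inv_cancel_right]
      exact h1
  exact fun u hu => (h0 hu).2

/-- The commutator `[d, g]` on `U`. -/
theorem calc_y [Finite G] {A : Subgroup G} (hA : Fr W₂ (DM U AA) A) {d : G} (hd : d ∈ cB B W₁)
    (hd2 : d ∈ cB B W₂) {k a : G} (hk : k ∈ K₂) (ha : a ∈ A) {g : G} (hg : g = k * a * k⁻¹) {u : G} (hu : u ∈ U) :
    (d * g * d⁻¹ * g⁻¹) * u * (d * g * d⁻¹ * g⁻¹)⁻¹ * u⁻¹ =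
      g * (d⁻¹ * u * d * u⁻¹) * g⁻¹ * (d⁻¹ * u * d * u⁻¹)⁻¹ := by
  have haB : a ∈ B := h.fm.le A hA.1.1 ha
  have hgK : g ∈ K₂ := by rw [hg]; exact mul_mem (mul_mem hk (h.k₂.BL haB)) (inv_mem hk)
  -- `γ = g⁻¹ u g u⁻¹`
  have hγ0 : (k⁻¹ * (g⁻¹ * u * g * u⁻¹) * k) ∈ W₂ ⊓ X := by
    have hu' : k⁻¹ * u * k ∈ U := by
      have := (mem_normalizer_iff.1 (h.k₂.LY (inv_mem hk)) u).1 hu
      rwa [inv_inv] at this
    have h1 := comm_U h.fm h.k₂ hA hu' (inv_mem ha)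
    have e : a⁻¹ * (k⁻¹ * u * k) * a⁻¹⁻¹ * (k⁻¹ * u * k)⁻¹ = k⁻¹ * (g⁻¹ * u * g * u⁻¹) * k := by
      rw [hg]; group
    rwa [e] at h1
  have hγW : g⁻¹ * u * g * u⁻¹ ∈ W₂ := by
    have h1 := (mem_normalizer_iff.1 (h.k₂.LV hk) _).1 hγ0.1
    have e : k * (k⁻¹ * (g⁻¹ * u * g * u⁻¹) * k) * k⁻¹ = g⁻¹ * u * g * u⁻¹ := by group
    rwa [e] at h1
  have hγg : g * (g⁻¹ * u * g * u⁻¹) = g⁻¹ * u * g * u⁻¹ * g := by
    have h1 := comm_cj (h.fm.BZ a haB _ hγ0.2)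
    rwa [← hg] at h1
  have hγd : d * (g⁻¹ * u * g * u⁻¹) = g⁻¹ * u * g * u⁻¹ * d := (mem_cB.1 hd2).2 _ hγW
  -- `δ = d⁻¹ u d u⁻¹`
  have hδ : d⁻¹ * u * d * u⁻¹ ∈ W₂ ⊓ X := by
    have := h.comm_E hA u hu d⁻¹ (inv_mem hd)
    rwa [inv_inv] at this
  have hδd : d * (d⁻¹ * u * d * u⁻¹) = d⁻¹ * u * d * u⁻¹ * d := (mem_cB.1 hd2).2 _ hδ.1
  have hε : g * (d⁻¹ * u * d * u⁻¹) * g⁻¹ ∈ W₂ := (mem_normalizer_iff.1 (h.k₂.LV hgK) _).1 hδ.1
  have hεd := (mem_cB.1 hd2).2 _ hε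
  have cγε : Commute (g⁻¹ * u * g * u⁻¹) (g * (d⁻¹ * u * d * u⁻¹) * g⁻¹) :=
    h.fm.Yc _ (h.k₂.VY hγW) _ (h.k₂.VY hε)
  exact word_y rfl rfl rfl hγg hγd hδd hεd cγε

/-- If `d ∈ C_B(W₁)` centralises all `K₁`-conjugates of `W₂`, then `d` centralises `U`. -/
theorem cent_of [Finite G] {A : Subgroup G} (hA : Fr W₂ (DM U AA) A) {d : G} (hd : d ∈ cB B W₁)
    (hc : ∀ x ∈ K₁, ∀ w ∈ W₂, d * (x * w * x⁻¹) = x * w * x⁻¹ * d) : ∀ u ∈ U, d * u = u * d := by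
  let C : Subgroup G :=
    { carrier := {u | u ∈ U ∧ ∀ x ∈ K₁, Commute (x * d * x⁻¹) u}
      one_mem' := ⟨one_mem _, fun x _ => Commute.one_right _⟩
      mul_mem' := by
        rintro a b ⟨ha, ha'⟩ ⟨hb, hb'⟩
        exact ⟨mul_mem ha hb, fun x hx => (ha' x hx).mul_right (hb' x hx)⟩
      inv_mem' := by
        rintro a ⟨ha, ha'⟩
        exact ⟨inv_mem ha, fun x hx => (ha' x hx).inv_right⟩ }
  have hC : ∀ u, u ∈ C ↔ u ∈ U ∧ ∀ x ∈ K₁, Commute (x * d * x⁻¹) u := fun u => Iff.rfl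
  have hdx : ∀ x ∈ K₁, x * d * x⁻¹ ∈ cB B W₁ := fun x hx => (mem_normalizer_iff.1 (h.k₁.LP hx) d).1 hd
  have h0 : U ≤ C := by
    refine h.top_of hA (fun u hu => hu.1) ?_ ?_ ?_ ?_
    · intro y hy
      exact (hC y).2 ⟨h.fm.ZY hy, fun x hx => h.fm.BZ _ (cB_le B W₁ (hdx x hx)) y hy⟩
    · intro y hy
      exact (hC y).2 ⟨h.k₁.VY hy, fun x hx => (mem_cB.1 (hdx x hx)).2 y hy⟩
    · intro y hy
      refine (hC y).2 ⟨h.k₂.VY hy, fun x hx => ?_⟩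
      refine comm_cj ?_
      have := hc x⁻¹ (inv_mem hx) y hy
      rwa [inv_inv] at this
    · intro y hy
      refine mem_normalizer_of_cj_le ?_
      rintro _ ⟨u, hu, rfl⟩
      change y * u * y⁻¹ ∈ C
      refine (hC _).2 ⟨(mem_normalizer_iff.1 (h.k₁.LY hy) u).1 hu.1, fun x hx => ?_⟩
      have h1 := hu.2 (y⁻¹ * x) (mul_mem (inv_mem hy) hx)
      have h2 : Commute (y * (y⁻¹ * x * d * (y⁻¹ * x)⁻¹) * y⁻¹) (y * u * y⁻¹) := by
        have e1 := h1.eq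
        rw [Commute, SemiconjBy]
        calc y * (y⁻¹ * x * d * (y⁻¹ * x)⁻¹) * y⁻¹ * (y * u * y⁻¹)
            = y * ((y⁻¹ * x * d * (y⁻¹ * x)⁻¹) * u) * y⁻¹ := by group
          _ = y * (u * (y⁻¹ * x * d * (y⁻¹ * x)⁻¹)) * y⁻¹ := by rw [e1]
          _ = _ := by group
      have e : y * (y⁻¹ * x * d * (y⁻¹ * x)⁻¹) * y⁻¹ = x * d * x⁻¹ := by group
      rwa [e] at h2
  intro u hu
  have h1 := ((hC u).1 (h0 hu)).2 1 (one_mem _)
  simpa using h1.eq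

/-- **(2b)** : `C_B(W₁ W₂)` centralises `U`. -/
theorem two_b [Finite G] {A : Subgroup G} (hA : Fr W₂ (DM U AA) A) {d : G} (hd : d ∈ cB B W₁)
    (hd2 : d ∈ cB B W₂) : ∀ u ∈ U, d * u = u * d := by
  obtain ⟨k, hk, hm⟩ := h.k₂.ne
  obtain ⟨a, ha, han⟩ := SetLike.not_le_iff_exists.1 hA.2
  have haB : a ∈ B := h.fm.le A hA.1.1 ha
  have hac : a ∉ cB B W₂ := fun h => han h.2
  set g : G := k * a * k⁻¹ with hg
  have hgK : g ∈ K₂ := mul_mem (mul_mem hk (h.k₂.BL haB)) (inv_mem hk)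
  have hcalc := fun u hu => h.calc_y hA hd hd2 hk ha hg (u := u) hu
  set y : G := d * g * d⁻¹ * g⁻¹ with hy
  have hyB : y ∈ B := by
    have h1 : g * d⁻¹ * g⁻¹ ∈ cB B W₂ := (mem_normalizer_iff.1 (h.k₂.LP hgK) _).1 (inv_mem hd2)
    have h2 := mul_mem (cB_le _ _ hd2) (cB_le _ _ h1)
    have e : d * (g * d⁻¹ * g⁻¹) = y := by rw [hy]; group
    rwa [e] at h2
  have hyE : y ∈ cB B W₁ := by
    refine mem_cB.2 ⟨hyB, fun w hw => ?_⟩
    have h1 := hcalc w (h.k₁.VY hw)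
    have h2 := (mem_cB.1 (inv_mem hd)).2 w hw
    have e1 : d⁻¹ * w * d * w⁻¹ = 1 := by rw [h2]; group
    rw [e1] at h1
    have e2 : y * w * y⁻¹ * w⁻¹ = 1 := by rw [h1]; group
    calc y * w = y * w * y⁻¹ * w⁻¹ * (w * y) := by group
      _ = w * y := by rw [e2, one_mul]
  -- `d⁻¹ u d u⁻¹ ∈ C(K₂)`
  have hcen : ∀ u ∈ U, d⁻¹ * u * d * u⁻¹ ∈ centralizer (K₂ : Set G) := by
    intro u hu
    have h1 := h.comm_E hA u hu y hyE
    rw [hcalc u hu] at h1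
    have hδ : d⁻¹ * u * d * u⁻¹ ∈ W₂ ⊓ X := by
      have := h.comm_E hA u hu d⁻¹ (inv_mem hd)
      rwa [inv_inv] at this
    set δ : G := d⁻¹ * u * d * u⁻¹ with hδe
    have hw' : k⁻¹ * δ * k ∈ W₂ := by
      have := (mem_normalizer_iff.1 (h.k₂.LV (inv_mem hk)) δ).1 hδ.1
      rwa [inv_inv] at this
    have e1 : k⁻¹ * (g * δ * g⁻¹ * δ⁻¹) * k = a * (k⁻¹ * δ * k) * a⁻¹ * (k⁻¹ * δ * k)⁻¹ := by
      rw [hg]; group
    have h2 : k⁻¹ * (g * δ * g⁻¹ * δ⁻¹) * k ∈ X := by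
      rw [e1]; exact h.k₂.quad a haB _ hw'
    have h3 := h.k₂.inter h.fm hk hm h1.2 h2
    have h4 : k⁻¹ * (g * δ * g⁻¹ * δ⁻¹) * k = g * δ * g⁻¹ * δ⁻¹ := by
      have := mem_centralizer_iff.1 h3 k hk
      rw [mul_assoc, ← this]; group
    have h5 : a * (k⁻¹ * δ * k) * a⁻¹ * (k⁻¹ * δ * k)⁻¹ = g * δ * g⁻¹ * δ⁻¹ := by rw [← e1, h4]
    have h6 := h.k₂.faith _ hw' a haB fun l hl => by
      rw [h5]
      exact mem_centralizer_iff.1 h3 l hl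
    have h7 := h.k₂.cent a haB hac _ hw' h6
    exact h.k₂.inter h.fm hk hm hδ.2 h7
  refine h.cent_of hA hd fun x hx w hw => ?_
  have hu : x * w * x⁻¹ ∈ U := (mem_normalizer_iff.1 (h.k₁.LY hx) w).1 (h.k₂.VY hw)
  have h1 := hcen _ hu
  have he : x⁻¹ * d⁻¹ * x ∈ cB B W₁ := by
    have := (mem_normalizer_iff.1 (h.k₁.LP (inv_mem hx)) d⁻¹).1 (inv_mem hd)
    rwa [inv_inv] at this
  have heB := cB_le B W₁ he
  have h2 : x⁻¹ * d⁻¹ * x * w * (x⁻¹ * d⁻¹ * x)⁻¹ * w⁻¹ ∈ W₂ ⊓ X :=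
    mem_inf.2 ⟨mul_mem ((mem_normalizer_iff.1 (h.k₂.LV (h.k₂.BL heB)) w).1 hw) (inv_mem hw),
      h.k₂.quad _ heB w hw⟩
  have h3 := h.cen x hx _ h2
  have e1 : d⁻¹ * (x * w * x⁻¹) * d * (x * w * x⁻¹)⁻¹ =
      x⁻¹ * d⁻¹ * x * w * (x⁻¹ * d⁻¹ * x)⁻¹ * w⁻¹ := by
    calc d⁻¹ * (x * w * x⁻¹) * d * (x * w * x⁻¹)⁻¹
        = x * (x⁻¹ * d⁻¹ * x * w * (x⁻¹ * d⁻¹ * x)⁻¹ * w⁻¹) * x⁻¹ := by group
      _ = _ := by rw [h3]; group
  rw [e1] at h1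
  have h4 := h.k₂.faith w hw _ heB fun l hl => mem_centralizer_iff.1 h1 l hl
  calc d * (x * w * x⁻¹) = d * x * (w * (x⁻¹ * d⁻¹ * x)) * x⁻¹ * d := by group
    _ = d * x * (x⁻¹ * d⁻¹ * x * w) * x⁻¹ * d := by rw [h4]
    _ = x * w * x⁻¹ * d := by group

/-- case (2) -/
theorem case_two [Finite G] {A : Subgroup G} (hA : Fr W₂ (DM U AA) A) (hA1 : A ≤ centralizer (W₁ : Set G)) :
    K₁ ≤ normalizer ((W₁ ⊔ W₂ ⊔ X : Subgroup G) : Set G) := by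
  have h0 : W₁ ⊔ W₂ ⊔ X = U := by
    refine le_antisymm h.le_U fun u hu => ?_
    obtain ⟨v, hv, c, hc, hAc, rfl⟩ := full h.fm h.k₂ hA hu
    have h1 : ∀ e ∈ cB B W₁, e * c = c * e := by
      intro e he
      obtain ⟨a, ha, p, hp, rfl⟩ := dec h.fm h.k₂ hA (cB_le _ _ he)
      have haE : a ∈ cB B W₁ := mem_inf.2 ⟨h.fm.le A hA.1.1 ha, hA1 ha⟩
      have hpE : p ∈ cB B W₁ := by
        have := mul_mem (inv_mem haE) he
        rwa [inv_mul_cancel_left] at this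
      have h2 := h.two_b hA hpE hp c hc
      rw [mul_assoc, h2, ← mul_assoc, hAc a ha, mul_assoc]
    obtain ⟨v1, hv1, z, hz, rfl⟩ := h.k₁.cY_P h.fm c hc h1
    exact mul_mem (mem_sup_left (mem_sup_right hv)) (mul_mem (mem_sup_left (mem_sup_left hv1)) (mem_sup_right hz))
  rw [h0]
  exact h.k₁.LY

/-- **THE PAIR LEMMA.** -/
theorem main [Finite G] : K₁ ≤ normalizer ((W₁ ⊔ W₂ ⊔ X : Subgroup G) : Set G) := by
  by_cases h1 : ∃ A, Fr W₁ (DM U AA) A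
  · obtain ⟨A, hA⟩ := h1
    exact h.case_one hA
  · obtain ⟨A, hA⟩ := h.exists_some.resolve_left h1
    refine h.case_two hA ?_
    by_contra hc
    exact h1 ⟨A, hA.1, hc⟩

end PairD

end Cfsg.Agent.Omega.OM.Lev.Low.TorusK

end

section


/-!
# TORUS: two blocks with the same line

* `uni` : if `[V', B]` is not centralised by `L`, then `C_B(V) = C_B(V')` and `V' ≤ V X` (526's CLAIM).
-/

set_option autoImplicit false

namespace Cfsg.Agent.Omega.OM.Lev.Low.TorusK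

open Subgroup Cfsg Cfsg.Agent.ZN Cfsg.Agent.ZN.ChoiceBase
open Cfsg.Agent.Omega.NO3S.Level.Claim (Fm Bl cB mem_cB cB_le claim)

universe u

variable {G : Type u} [Group G] {S U H B X L V L' V' : Subgroup G} {AA : Set (Subgroup G)}

theorem cB_eq [Finite G] (f : Fm S U H B X AA) (k : Bl S U H B X AA L V) (k' : Bl S U H B X AA L' V')
    (hm : ∃ b ∈ B, ∃ v ∈ V', b * v * b⁻¹ * v⁻¹ ∉ centralizer (L : Set G)) : cB B V = cB B V' := by
  by_contra hne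
  obtain ⟨b, hb, v, hv, h⟩ := hm
  exact h (claim f k k' hne b hb v hv)

/-- **(UNI)** -/
theorem uni [Finite G] (f : Fm S U H B X AA) (k : Bl S U H B X AA L V) (k' : Bl S U H B X AA L' V')
    (hm : ∃ b ∈ B, ∃ v ∈ V', b * v * b⁻¹ * v⁻¹ ∉ centralizer (L : Set G)) : V' ≤ V ⊔ X := by
  intro v hv
  obtain ⟨v1, hv1, z, hz, rfl⟩ := k.cY_P f v (k'.VY hv) fun p hp => by
    rw [cB_eq f k k' hm] at hp
    exact (mem_cB.1 hp).2 v hv
  exact mul_mem (mem_sup_left hv1) (mem_sup_right hz)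

end Cfsg.Agent.Omega.OM.Lev.Low.TorusK

end

section


/-!
# TORUS (the last exception of TEXT LL, `q = 2`): (END) of helper607 #23961 = (G) of helper109 #23071

`W i` (`i ∈ I`) pairwise commuting subgroups with direct product, `Sp i` the lines of `W i` (a partial spread), `c i ∈ Sp i`,
`L` permutes the pairs `(W i, Sp i)`, `z ∈ ∏ c i` has all components `≠ 1`.

* `norm` : an element of `L` which centralises `z` normalises `V = ∏ c i`;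
* `false_of` : if `L` is generated by elements which centralise `z` or normalise `V`, no element of `L` normalises `W i`
  and moves `c i`.
-/

set_option autoImplicit false
set_option linter.unusedSectionVars false
set_option linter.unusedVariables false

namespace Cfsg.Agent.Omega.OM.Lev.Low.TorusK.EndK

open Subgroup Cfsg.Agent.ZN.ChoiceBase

variable {G : Type*} [Group G] {I : Type*}

/-- `P ⊔ Q` for commuting subgroups -/
theorem mem_sup_comm {P Q : Subgroup G} (hc : ∀ p ∈ P, ∀ q ∈ Q, p * q = q * p) {g : G} (hg : g ∈ P ⊔ Q) :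
    ∃ p ∈ P, ∃ q ∈ Q, g = p * q := by
  let R : Subgroup G :=
    { carrier := {g | ∃ p ∈ P, ∃ q ∈ Q, g = p * q}
      one_mem' := ⟨1, one_mem _, 1, one_mem _, (one_mul 1).symm⟩
      mul_mem' := by
        rintro _ _ ⟨p, hp, q, hq, rfl⟩ ⟨p', hp', q', hq', rfl⟩
        refine ⟨p * p', mul_mem hp hp', q * q', mul_mem hq hq', ?_⟩
        calc p * q * (p' * q') = p * (q * p') * q' := by group
          _ = p * (p' * q) * q' := by rw [hc p' hp' q hq]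
          _ = p * p' * (q * q') := by group
      inv_mem' := by
        rintro _ ⟨p, hp, q, hq, rfl⟩
        exact ⟨p⁻¹, inv_mem hp, q⁻¹, inv_mem hq, by rw [mul_inv_rev, hc _ (inv_mem hp) _ (inv_mem hq)]⟩ }
  have h1 : P ⊔ Q ≤ R := sup_le (fun p hp => ⟨p, hp, 1, one_mem _, (mul_one p).symm⟩)
    fun q hq => ⟨1, one_mem _, q, hq, (one_mul q).symm⟩
  exact h1 hg

/-- The data. -/
structure Sys (L : Subgroup G) (W c : I → Subgroup G) (Sp : I → Set (Subgroup G)) (z : G) : Prop where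
  comm : ∀ i l, i ≠ l → ∀ u ∈ W i, ∀ v ∈ W l, u * v = v * u
  dir : ∀ i, W i ⊓ ⨆ (l) (_ : l ≠ i), W l = ⊥
  le : ∀ i, ∀ ℓ ∈ Sp i, ℓ ≤ W i
  mem : ∀ i, c i ∈ Sp i
  spr : ∀ i, ∀ ℓ ∈ Sp i, ∀ ℓ' ∈ Sp i, ∀ u ∈ ℓ, u ∈ ℓ' → u ≠ 1 → ℓ = ℓ'
  perm : ∀ g ∈ L, ∀ i, ∃ j, cj g (W i) = W j ∧ ∀ ℓ ∈ Sp i, cj g ℓ ∈ Sp j
  zV : z ∈ ⨆ i, c i
  zn : ∀ i, z ∉ ⨆ (l) (_ : l ≠ i), W l

namespace Sys

variable {L : Subgroup G} {W c : I → Subgroup G} {Sp : I → Set (Subgroup G)} {z : G} (D : Sys L W c Sp z)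
include D

theorem cW (i : I) : c i ≤ W i := D.le i _ (D.mem i)

theorem comm' {i : I} {u v : G} (hu : u ∈ W i) (hv : v ∈ ⨆ (l) (_ : l ≠ i), W l) : u * v = v * u := by
  have h1 : ⨆ (l) (_ : l ≠ i), W l ≤ centralizer ({u} : Set G) := by
    refine iSup₂_le fun l hl w hw => ?_
    rw [mem_centralizer_singleton_iff]
    exact (D.comm i l (Ne.symm hl) u hu w hw).symm
  exact (mem_centralizer_singleton_iff.1 (h1 hv)).symm

theorem le_sup (i : I) : ⨆ i, c i ≤ c i ⊔ ⨆ (l) (_ : l ≠ i), W l := by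
  refine iSup_le fun l => ?_
  by_cases e : l = i
  · subst e
    exact le_sup_left
  · exact (D.cW l).trans (le_trans (le_iSup₂ (f := fun (l : I) (_ : l ≠ i) => W l) l e) le_sup_right)

theorem W_ne (i : I) : W i ≠ ⊥ := by
  intro e
  have h1 := D.le_sup i D.zV
  have h2 : c i = ⊥ := by rw [eq_bot_iff, ← e]; exact D.cW i
  rw [h2, bot_sup_eq] at h1
  exact D.zn i h1

theorem inj {i l : I} (e : W i = W l) : i = l := by
  by_contra hne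
  have h1 : W i ≤ ⨆ (m) (_ : m ≠ i), W m := by
    rw [e]
    exact le_iSup₂_of_le l (Ne.symm hne) le_rfl
  apply D.W_ne i
  rw [eq_bot_iff, ← D.dir i]
  exact le_inf le_rfl h1

/-- the line of `W i` below `z` -/
theorem eq_of {i : I} {ℓ : Subgroup G} (hℓ : ℓ ∈ Sp i) (hz : z ∈ ℓ ⊔ ⨆ (l) (_ : l ≠ i), W l) : ℓ = c i := by
  obtain ⟨p, hp, q, hq, e1⟩ := mem_sup_comm (fun p hp q hq => D.comm' (D.le i ℓ hℓ hp) hq) hz
  obtain ⟨p', hp', q', hq', e2⟩ := mem_sup_comm (fun p hp q hq => D.comm' (D.cW i hp) hq) (D.le_sup i D.zV)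
  have h1 : p'⁻¹ * p = q' * q⁻¹ := by
    have h2 : p * q = p' * q' := by rw [← e1, ← e2]
    calc p'⁻¹ * p = p'⁻¹ * (p * q) * q⁻¹ := by group
      _ = p'⁻¹ * (p' * q') * q⁻¹ := by rw [h2]
      _ = q' * q⁻¹ := by group
  have h3 : p'⁻¹ * p ∈ W i ⊓ ⨆ (l) (_ : l ≠ i), W l :=
    ⟨(W i).mul_mem ((W i).inv_mem (D.cW i hp')) (D.le i ℓ hℓ hp), by
      rw [h1]; exact Subgroup.mul_mem _ hq' (Subgroup.inv_mem _ hq)⟩
  rw [D.dir i, mem_bot, inv_mul_eq_one] at h3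
  refine D.spr i ℓ hℓ (c i) (D.mem i) p hp (by rw [← h3]; exact hp') ?_
  rintro rfl
  apply D.zn i
  rw [e1, one_mul]
  exact hq

/-- **An element of `L` which centralises `z` normalises `V`.** -/
theorem norm_le {g : G} (hg : g ∈ L) (hz : g * z = z * g) : cj g (⨆ i, c i) ≤ ⨆ i, c i := by
  rw [show cj g (⨆ i, c i) = (⨆ i, c i).map (MulAut.conj g).toMonoidHom from rfl, Subgroup.map_iSup]
  refine iSup_le fun i => ?_
  obtain ⟨j, e, hS⟩ := D.perm g hg i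
  have h1 : cj g (c i) ∈ Sp j := hS _ (D.mem i)
  have h2 : cj g (⨆ (l) (_ : l ≠ i), W l) ≤ ⨆ (l) (_ : l ≠ j), W l := by
    rw [cj_le_iff]
    refine iSup₂_le fun l hl => ?_
    rw [← cj_le_iff]
    obtain ⟨m, e', -⟩ := D.perm g hg l
    rw [e']
    refine le_iSup₂_of_le m ?_ le_rfl
    rintro rfl
    apply hl
    apply D.inj
    rw [← cj_inv_cj g (W l), e', ← e, cj_inv_cj]
  have h3 : z ∈ cj g (c i) ⊔ ⨆ (l) (_ : l ≠ j), W l := by
    have h4 : z ∈ cj g (c i ⊔ ⨆ (l) (_ : l ≠ i), W l) := by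
      rw [mem_cj]
      have h5 : g⁻¹ * z * g = z := by rw [mul_assoc, ← hz, inv_mul_cancel_left]
      rw [h5]
      exact D.le_sup i D.zV
    rw [show cj g (c i ⊔ ⨆ (l) (_ : l ≠ i), W l) = (c i ⊔ ⨆ (l) (_ : l ≠ i), W l).map (MulAut.conj g).toMonoidHom
      from rfl, Subgroup.map_sup] at h4
    exact (sup_le_sup le_rfl h2 : _ ≤ _) h4
  rw [show (c i).map (MulAut.conj g).toMonoidHom = cj g (c i) from rfl, D.eq_of h1 h3]
  exact le_iSup c j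

theorem norm {g : G} (hg : g ∈ L) (hz : g * z = z * g) : cj g (⨆ i, c i) = ⨆ i, c i := by
  refine le_antisymm (D.norm_le hg hz) ?_
  have h1 : g⁻¹ * z = z * g⁻¹ := by
    calc g⁻¹ * z = g⁻¹ * (z * g) * g⁻¹ := by group
      _ = g⁻¹ * (g * z) * g⁻¹ := by rw [hz]
      _ = z * g⁻¹ := by group
  have h2 := D.norm_le (inv_mem hg) h1
  rw [cj_le_iff, inv_inv] at h2
  exact h2

/-- `V ∩ W i = c i` -/
theorem inf_eq (i : I) : (⨆ i, c i) ⊓ W i = c i := by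
  refine le_antisymm ?_ (le_inf (le_iSup c i) (D.cW i))
  rintro v ⟨hv, hi⟩
  obtain ⟨p, hp, q, hq, e⟩ := mem_sup_comm (fun p hp q hq => D.comm' (D.cW i hp) hq) (D.le_sup i hv)
  have h1 : q ∈ W i ⊓ ⨆ (l) (_ : l ≠ i), W l := by
    refine ⟨?_, hq⟩
    have h2 : q = p⁻¹ * v := by rw [e]; group
    rw [h2]
    exact (W i).mul_mem ((W i).inv_mem (D.cW i hp)) hi
  rw [D.dir i, mem_bot] at h1
  rw [e, h1, mul_one]
  exact hp

/-- **(END)** -/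
theorem false_of {gen : Set G} (hL : L ≤ closure gen)
    (hg : ∀ g ∈ gen, g ∈ L ∧ g * z = z * g ∨ cj g (⨆ i, c i) = ⨆ i, c i) {x : G} (hx : x ∈ L) {i : I}
    (hW : cj x (W i) = W i) (hc : cj x (c i) ≠ c i) : False := by
  have h1 : closure gen ≤ normalizer ((⨆ i, c i : Subgroup G) : Set G) := by
    rw [closure_le]
    intro g hg'
    have : cj g (⨆ i, c i) = ⨆ i, c i := by
      rcases hg g hg' with ⟨h2, h3⟩ | h2
      · exact D.norm h2 h3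
      · exact h2
    exact mem_normalizer_iff_cj.2 this
  have h2 : cj x (⨆ i, c i) = ⨆ i, c i := mem_normalizer_iff_cj.1 (h1 (hL hx))
  apply hc
  rw [← D.inf_eq i, cj_inf, h2, hW]

end Sys

end Cfsg.Agent.Omega.OM.Lev.Low.TorusK.EndK

end
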