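import Cfsg.Agent.Mrg.Omega.NO3S.Level.Claim
import Cfsg.Agent.PLocal.Uniserial


/-!
# TORUS, `k ≥ 4`, (chi) of helper607 #23961

`F`, `F'` are the modules of two blocks `K`, `K'` with the same line `c`, `F' ≤ F X`, `X = c Xk`: then `F' = F`.

* `chi` : abstract form (induction over the `B`-invariant subgroups `M` of `F`).
-/

set_option autoImplicit false
set_option linter.unusedSectionVars false
set_option linter.unusedVariables false

namespace Cfsg.Agent.Omega.OM.Lev.Low.TorusK.Chi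

open Subgroup Cfsg Cfsg.Agent.ZN.ChoiceBase
open Cfsg.Agent.Omega.SQ1.Bau (mem_sup_comm card_sup_comm)

universe u

variable {G : Type u} [Group G]

/-- The input of (chi). -/
structure Inp (B X Xk F F' c K K' : Subgroup G) (zl zo : G) : Prop where
  /-- `F X` is abelian -/
  ab : ∀ a ∈ F ⊔ X, ∀ b ∈ F ⊔ X, a * b = b * a
  le : F' ≤ F ⊔ X
  FX : F ⊓ X ≤ c
  FX' : F' ⊓ X ≤ c
  cF : c ≤ F
  cF' : c ≤ F'
  dec : X ≤ c ⊔ Xk
  XkX : Xk ≤ X
  cXk : c ⊓ Xk = ⊥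
  card : Nat.card F' = Nat.card F
  pB : IsPGroup 2 B
  FB : F ≤ B
  nF : B ≤ normalizer (F : Set G)
  nF' : B ≤ normalizer (F' : Set G)
  nXk : B ≤ normalizer (Xk : Set G)
  /-- `K` is transitive on `F #` -/
  tr : ∀ v ∈ F, v ≠ 1 → ∃ e ∈ K, e * zl * e⁻¹ = v
  tr' : ∀ v ∈ F', v ≠ 1 → ∃ e ∈ K', e * zl * e⁻¹ = v
  Kz : ∀ e ∈ K, e * zo = zo * e
  Kz' : ∀ e ∈ K', e * zo = zo * e
  KX : ∀ e ∈ K, ∀ x ∈ Xk, e * x = x * e
  zoX : zo ∈ F ⊔ X
  /-- `C_Xk(B) ≤ Z_J`, and (W) -/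
  no_shift : ∀ x ∈ Xk, (∀ b ∈ B, b * x = x * b) → ∀ g : G, g * (zl * zo) * g⁻¹ = zl * zo * x → x = 1

namespace Inp

variable {B X Xk F F' c K K' : Subgroup G} {zl zo : G} (h : Inp B X Xk F F' c K K' zl zo)

include h

theorem bot' : F' ⊓ Xk = ⊥ := by
  rw [eq_bot_iff, ← h.cXk]
  exact le_inf ((inf_le_inf_left _ h.XkX).trans h.FX') inf_le_right

theorem bot : F ⊓ Xk = ⊥ := by
  rw [eq_bot_iff, ← h.cXk]
  exact le_inf ((inf_le_inf_left _ h.XkX).trans h.FX) inf_le_right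

theorem sup_le' : F ⊔ X ≤ F ⊔ Xk :=
  sup_le le_sup_left (h.dec.trans (sup_le (h.cF.trans le_sup_left) le_sup_right))

theorem exists_x [Finite G] {v : G} (hv : v ∈ F) : ∃ x ∈ Xk, v * x ∈ F' := by
  have h1 : Nat.card ↥(F ⊔ Xk) * Nat.card ↥(F ⊓ Xk) = Nat.card F * Nat.card Xk :=
    card_sup_comm fun a ha b hb => h.ab a (mem_sup_left ha) b (mem_sup_right (h.XkX hb))
  have h2 : Nat.card ↥(F' ⊔ Xk) * Nat.card ↥(F' ⊓ Xk) = Nat.card F' * Nat.card Xk :=
    card_sup_comm fun a ha b hb => h.ab a (h.le ha) b (mem_sup_right (h.XkX hb))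
  rw [h.bot, Subgroup.card_bot, mul_one] at h1
  rw [h.bot', Subgroup.card_bot, mul_one, h.card, ← h1] at h2
  have h3 : F' ⊔ Xk = F ⊔ Xk := Subgroup.eq_of_le_of_card_ge (sup_le (h.le.trans h.sup_le') le_sup_right) h2.ge
  have h4 : v ∈ F' ⊔ Xk := by rw [h3]; exact mem_sup_left hv
  obtain ⟨w, hw, x, hx, e⟩ := mem_sup_comm
    (fun a ha b hb => h.ab a (h.le ha) b (mem_sup_right (h.XkX hb))) h4
  refine ⟨x⁻¹, inv_mem hx, ?_⟩
  rw [e, mul_inv_cancel_right]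
  exact hw

theorem step [Finite G] {M N : Subgroup G} (hM : M ≤ F) (hN : N ≤ F')
    (hc : ∀ b ∈ B, ∀ v ∈ M, b * v * b⁻¹ * v⁻¹ ∈ N) : M ≤ F' := by
  intro v hv
  by_contra hn
  obtain ⟨x, hx, hvx⟩ := h.exists_x (hM hv)
  have hxb : ∀ b ∈ B, b * x = x * b := by
    intro b hb
    have h1 : b * (v * x) * b⁻¹ ∈ F' := (mem_normalizer_iff.1 (h.nF' hb) _).1 hvx
    have h2 : b * v * b⁻¹ * v⁻¹ ∈ F' := hN (hc b hb v hv)
    have h3 : v * (b * x * b⁻¹) ∈ F' := by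
      have h4 := mul_mem (inv_mem h2) h1
      have e : (b * v * b⁻¹ * v⁻¹)⁻¹ * (b * (v * x) * b⁻¹) = v * (b * x * b⁻¹) := by group
      rwa [e] at h4
    have h5 : x⁻¹ * (b * x * b⁻¹) ∈ F' ⊓ Xk := by
      refine ⟨?_, Xk.mul_mem (Xk.inv_mem hx) ((mem_normalizer_iff.1 (h.nXk hb) _).1 hx)⟩
      have h6 := mul_mem (inv_mem hvx) h3
      have e : (v * x)⁻¹ * (v * (b * x * b⁻¹)) = x⁻¹ * (b * x * b⁻¹) := by group
      rwa [e] at h6
    rw [h.bot', mem_bot, inv_mul_eq_one] at h5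
    rw [eq_mul_inv_iff_mul_eq] at h5
    exact h5.symm
  have hv1 : v ≠ 1 := by
    rintro rfl
    exact hn (one_mem _)
  have hvx1 : v * x ≠ 1 := by
    intro e
    have e1 : v = x⁻¹ := eq_inv_of_mul_eq_one_left e
    have h1 : v ∈ F ⊓ Xk := ⟨hM hv, by rw [e1]; exact Xk.inv_mem hx⟩
    rw [h.bot] at h1
    exact hv1 (mem_bot.1 h1)
  obtain ⟨e, he, hee⟩ := h.tr v (hM hv) hv1
  obtain ⟨e', he', hee'⟩ := h.tr' _ hvx hvx1
  have h1 : (e⁻¹ * e') * (zl * zo) * (e⁻¹ * e')⁻¹ = zl * zo * x := by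
    have e1 : zl = e⁻¹ * v * e := by rw [← hee]; group
    have e2 : e' * zo * e'⁻¹ = zo := by rw [h.Kz' e' he']; group
    have e3 : e⁻¹ * zo * e = zo := by rw [mul_assoc, ← h.Kz e he]; group
    have e4 : e⁻¹ * x * e = x := by rw [mul_assoc, ← h.KX e he x hx]; group
    have e5 : zo * x = x * zo := h.ab _ h.zoX _ (mem_sup_right (h.XkX hx))
    calc (e⁻¹ * e') * (zl * zo) * (e⁻¹ * e')⁻¹ = e⁻¹ * (e' * zl * e'⁻¹) * (e' * zo * e'⁻¹) * e := by group
      _ = (e⁻¹ * v * e) * (e⁻¹ * x * e) * (e⁻¹ * zo * e) := by rw [hee', e2]; group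
      _ = zl * (x * zo) := by rw [e3, e4, ← e1, mul_assoc]
      _ = zl * zo * x := by rw [← e5, mul_assoc]
  have h2 := h.no_shift x hx hxb _ h1
  rw [h2, mul_one] at hvx
  exact hn hvx

theorem inv_le [Finite G] : ∀ n : ℕ, ∀ M : Subgroup G, M ≤ F → B ≤ normalizer (M : Set G) → Nat.card M ≤ n →
    M ≤ F' := by
  intro n
  induction n with
  | zero =>
    intro M _ _ hc
    exact absurd hc (by have : 0 < Nat.card M := Nat.card_pos; omega)
  | succ n ih =>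
    intro M hM hB hc
    by_cases h0 : M = ⊥
    · rw [h0]; exact bot_le
    have hlt : ⁅M, B⁆ < M :=
      Cfsg.Agent.PLocal.Uniserial.commutator_lt B B M h.pB.isNilpotent le_rfl (hM.trans h.FB) hB h0
    have hn : B ≤ normalizer ((⁅M, B⁆ : Subgroup G) : Set G) := by
      intro b hb
      have e : cj b ⁅M, B⁆ = ⁅M, B⁆ := by
        show Subgroup.map _ _ = _
        rw [Subgroup.map_commutator]
        have e1 : M.map (MulAut.conj b).toMonoidHom = M := cj_eq_of_mem_normalizer (hB hb)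
        have e2 : B.map (MulAut.conj b).toMonoidHom = B := cj_eq_of_mem_normalizer (le_normalizer hb)
        rw [e1, e2]
      rw [mem_normalizer_iff]
      intro y
      constructor
      · intro hy
        rw [← e]
        exact ⟨y, hy, rfl⟩
      · intro hy
        rw [← e, mem_cj] at hy
        have e3 : b⁻¹ * (b * y * b⁻¹) * b = y := by group
        rwa [e3] at hy
    have hcard : Nat.card ↥⁅M, B⁆ ≤ n := by
      have h1 : Nat.card ↥⁅M, B⁆ < Nat.card M := by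
        refine lt_of_le_of_ne (Subgroup.card_le_of_le hlt.le) fun e => hlt.ne ?_
        exact Subgroup.eq_of_le_of_card_ge hlt.le e.ge
      omega
    have h1 := ih _ (hlt.le.trans hM) hn hcard
    refine h.step hM h1 fun b hb v hv => ?_
    have h2 := inv_mem (commutator_mem_commutator hv hb)
    rw [commutatorElement_def] at h2
    have e : (v * b * v⁻¹ * b⁻¹)⁻¹ = b * v * b⁻¹ * v⁻¹ := by group
    rwa [e] at h2

/-- **(chi)** -/
theorem eq [Finite G] : F' = F :=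
  (Subgroup.eq_of_le_of_card_ge (h.inv_le _ F le_rfl h.nF le_rfl) h.card.le).symm

end Inp

end Cfsg.Agent.Omega.OM.Lev.Low.TorusK.Chi
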