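import Cfsg.Agent.Mrg.Omega.OM.Lev.Low.TorusK.Uni
import Cfsg.Agent.Mrg.Omega.OM.Lev.Low.TorusK.Frame
import Cfsg.Agent.Mrg.Omega.OM.Lev.Low.TorusK.Chi
import Cfsg.Agent.Mrg.Omega.OM.Lev.Low.TorusK.Pair

section


/-!
# TORUS, `k ≥ 4`: (SPLIT)

* `exists_fix_mod` : fixed points of a 2-group on a quotient;
* `BK.cen_ch` : an element of `B` which centralises the line `W l` centralises `[[N, K], B₀]`;
* `BK.ch_cen` : `[[N, K], B₀] ∩ C(K) = 1`;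
* `BK.n4` : **`[N, K]` is a natural module of order 16: `N4 B₀ K [N, K] (W l)`**; `BK.inf_X` : `[N, K] ∩ X = W l`.
-/

set_option autoImplicit false
set_option linter.unusedSectionVars false

namespace Cfsg.Agent.Omega.OM.Lev.Low.TorusK

open Subgroup Cfsg Cfsg.Agent.ZN Cfsg.Agent.ZN.ChoiceBase
open Cfsg.Agent.Omega.SQ1.Bau (mem_sup_comm card_sup_comm elem_comm elem_sq)
open Cfsg.Agent.Omega.NO3S.Level.Claim (Fm Bl cB mem_cB cB_le)
open Cfsg.Agent.Omega.OM.Lev.Uni (FrL)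
open Cfsg.Agent.Omega.OM.Lev.Low.TorusK.PBC
open scoped commutatorElement

universe u

variable {G : Type u} [Group G]

/-- fixed points of a 2-group on a quotient `M / X` -/
theorem exists_fix_mod [Finite G] {X M P : Subgroup G} (hP : IsPGroup 2 P) (hPX : P ≤ normalizer (X : Set G))
    (hPM : P ≤ normalizer (M : Set G)) (hM : IsPGroup 2 M) (hMX : M ≤ normalizer (X : Set G)) (hne : ¬ M ≤ X) :
    ∃ y ∈ M, y ∉ X ∧ ∀ b ∈ P, b * y * b⁻¹ * y⁻¹ ∈ X := by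
  classical
  let N : Subgroup G := normalizer (X : Set G)
  let X' : Subgroup N := X.subgroupOf N
  haveI : X'.Normal := Subgroup.normal_in_normalizer
  let q : N →* N ⧸ X' := QuotientGroup.mk' X'
  have hq : ∀ x : N, q x = 1 ↔ (x : G) ∈ X := fun x => by
    rw [show q x = (x : N ⧸ X') from rfl, QuotientGroup.eq_one_iff]
    exact mem_subgroupOf
  let Mq := (M.subgroupOf N).map q
  let Pq := (P.subgroupOf N).map q
  have h1 : IsPGroup 2 Mq := IsPGroup.map (hM.comap_subtype) q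
  have h2 : IsPGroup 2 Pq := IsPGroup.map (hP.comap_subtype) q
  have h3 : Pq ≤ normalizer (Mq : Set (N ⧸ X')) := by
    rintro _ ⟨b, hb, rfl⟩
    rw [mem_normalizer_iff_cj]
    apply le_antisymm
    · rintro _ ⟨_, ⟨m, hm, rfl⟩, rfl⟩
      refine ⟨b * m * b⁻¹, ?_, by simp⟩
      exact (mem_normalizer_iff.1 (hPM (mem_subgroupOf.1 hb)) _).1 (mem_subgroupOf.1 hm)
    · rintro _ ⟨m, hm, rfl⟩
      refine mem_cj.2 ⟨b⁻¹ * m * b, ?_, by simp⟩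
      have h4 := (mem_normalizer_iff.1 (inv_mem (hPM (mem_subgroupOf.1 hb))) _).1 (mem_subgroupOf.1 hm)
      show (b : G)⁻¹ * m * b ∈ M
      simpa using h4
  have h4 : Mq ≠ ⊥ := fun e => hne fun m hm => by
    have h5 : q ⟨m, hMX hm⟩ ∈ Mq := ⟨⟨m, hMX hm⟩, hm, rfl⟩
    rw [e, mem_bot, hq] at h5
    exact h5
  have h5 := PLocal.OffenderStep.inf_centralizer_ne_bot Mq Pq h1 h2 h3 h4
  obtain ⟨⟨x, hx⟩, hx1⟩ := (Subgroup.ne_bot_iff_exists_ne_one).1 h5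
  obtain ⟨⟨m, hm, rfl⟩, hxP⟩ := mem_inf.1 hx
  refine ⟨m, mem_subgroupOf.1 hm, fun h6 => hx1 (Subtype.ext ((hq m).2 h6)), fun b hb => ?_⟩
  have hb' : q ⟨b, hPX hb⟩ ∈ Pq := ⟨⟨b, hPX hb⟩, hb, rfl⟩
  have h6 := mem_centralizer_iff.1 hxP _ hb'
  have h7 : q (⟨b, hPX hb⟩ * m * ⟨b, hPX hb⟩⁻¹ * m⁻¹) = 1 := by
    rw [map_mul, map_mul, map_mul, map_inv, map_inv, h6]
    group
  exact (hq _).1 h7

variable {ι : Type} {S B Q V Xn ZJ B0 X M0 Y0 : Subgroup G} {L W Z C A : ι → Subgroup G} {z : G}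
  {l : ι} {K N N1 N0 : Subgroup G}

namespace TK

variable (h : TK S B Q V Xn ZJ B0 X M0 Y0 L W Z C A z)
include h

theorem BW [Finite G] {b : G} (hb : b ∈ B) (l : ι) : cj b (W l) = W l :=
  cj_eq_of_mem_normalizer (mem_normalizer_of_cj_le (by
    rintro _ ⟨w, hw, rfl⟩
    exact (h.fr.blk l).BV hb hw))

theorem BX' [Finite G] : B ≤ normalizer (X : Set G) := h.BS.trans h.SX

theorem BB0 [Finite G] : B ≤ normalizer (B0 : Set G) := h.BS.trans h.SB0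

theorem twoB : IsPGroup 2 B := h.two.to_le h.BS

end TK

namespace BK

theorem N0X [Finite G] (h : TK S B Q V Xn ZJ B0 X M0 Y0 L W Z C A z) (k : BK B B0 X M0 Y0 W l K N N1 N0) {n : G}
    (hn : n ∈ N0) : n ∈ X ⊓ centralizer (K : Set G) := by
  refine mem_inf.2 ⟨?_, mem_centralizer_iff.2 fun g hg => k.pb.N0c g hg n hn⟩
  rw [← h.zB]
  exact (BlOf.line_iff k.pb (k.pb.N1N (k.pb.N01 hn))).1 (k.pb.N01 hn)

theorem N1X [Finite G] (h : TK S B Q V Xn ZJ B0 X M0 Y0 L W Z C A z) (k : BK B B0 X M0 Y0 W l K N N1 N0) {n : G}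
    (hn : n ∈ N) : n ∈ N1 ↔ n ∈ X := by
  rw [← h.zB]
  exact BlOf.line_iff k.pb hn

theorem split1 [Finite G] (h : TK S B Q V Xn ZJ B0 X M0 Y0 L W Z C A z) (k : BK B B0 X M0 Y0 W l K N N1 N0) {n : G}
    (hn : n ∈ N1) : ∃ w ∈ W l, ∃ n0 ∈ N0, n = w * n0 := by
  rw [k.N1_eq (h.cardW l)] at hn
  exact mem_sup_comm (fun a ha b hb => k.pb.comm (k.pb.N1N (k.WN ha)) (k.pb.N1N (k.pb.N01 hb))) hn

/-- `N₁ ∩ C(K) = N₀` -/
theorem mem_N0 [Finite G] (h : TK S B Q V Xn ZJ B0 X M0 Y0 L W Z C A z) (k : BK B B0 X M0 Y0 W l K N N1 N0) {n : G}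
    (hn : n ∈ N1) (hc : ∀ g ∈ K, g * n = n * g) : n ∈ N0 := by
  obtain ⟨w, hw, n0, hn0, rfl⟩ := k.split1 h hn
  have h1 : w = 1 := k.W_cen hw fun g hg => by
    have h2 := hc g hg
    have h3 := k.pb.N0c g hg n0 hn0
    have h4 : g * w * n0 = w * g * n0 := by
      calc g * w * n0 = g * (w * n0) := by group
        _ = (w * n0) * g := h2
        _ = w * (n0 * g) := by group
        _ = w * (g * n0) := by rw [h3]
        _ = _ := by group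
    exact mul_right_cancel h4
  rw [h1, one_mul]
  exact hn0

/-- an element of `B` centralising the line `W l` centralises `[[N, K], B₀]` -/
theorem cen_ch [Finite G] (h : TK S B Q V Xn ZJ B0 X M0 Y0 L W Z C A z) (k : BK B B0 X M0 Y0 W l K N N1 N0) {b : G}
    (hb : b ∈ B) (hbW : ∀ w ∈ W l, b * w = w * b) : ∀ x ∈ (⁅⁅N, K⁆, B0⁆ : Subgroup G), b * x = x * b := by
  set V' : Subgroup G := ⁅N, K⁆ with hV'
  have hVB : V' ≤ B0 := k.VB0
  have hVN : V' ≤ N := k.pb.VN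
  have k' := k.cj h (h.BS hb) (h.BW hb l)
  obtain ⟨hu, hc⟩ := uni' h k k'
  have ecj : ⁅ChoiceBase.cj b N, ChoiceBase.cj b K⁆ = ChoiceBase.cj b V' := by
    rw [hV']; exact (Subgroup.map_commutator _ _ _).symm
  rw [ecj] at hu hc
  have hbB0 := h.BB0 hb
  have hbX := h.BX' hb
  have hcX : ∀ a ∈ V', ∀ x ∈ X, a * x = x * a := fun a ha x hx => h.cX (hVB ha) hx
  -- `b` acts on `V' X`
  have hM : ∀ v ∈ V', ∃ u ∈ V', ∃ x ∈ X, b * v * b⁻¹ = u * x := fun v hv =>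
    mem_sup_comm hcX (hu (cj_mem hv))
  have hXK : ∀ x ∈ X ⊓ centralizer (K : Set G), b * x * b⁻¹ ∈ X ⊓ centralizer (K : Set G) := fun x hx =>
    (mem_normalizer_iff.1 (k.BX hb) x).1 hx
  -- (F3)
  have F3 : ∀ y ∈ N1, b * y * b⁻¹ * y⁻¹ ∈ X ⊓ centralizer (K : Set G) := by
    intro y hy
    obtain ⟨w, hw, n, hn, rfl⟩ := k.split1 h hy
    have hnX := k.N0X h hn
    have h1 := mul_mem (hXK n hnX) (inv_mem hnX)
    have e : b * (w * n) * b⁻¹ * (w * n)⁻¹ = b * n * b⁻¹ * n⁻¹ := by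
      have h2 : w * (b * n * b⁻¹ * n⁻¹) = (b * n * b⁻¹ * n⁻¹) * w := h.Xc (h.WX l hw) h1.1
      calc b * (w * n) * b⁻¹ * (w * n)⁻¹ = (b * w) * n * b⁻¹ * n⁻¹ * w⁻¹ := by group
        _ = (w * b) * n * b⁻¹ * n⁻¹ * w⁻¹ := by rw [hbW w hw]
        _ = w * (b * n * b⁻¹ * n⁻¹) * w⁻¹ := by group
        _ = (b * n * b⁻¹ * n⁻¹) * w * w⁻¹ := by rw [h2]
        _ = _ := by group
    rw [e]
    exact h1
  -- `[a, u x] = [a, u]`
  have F5 : ∀ a ∈ B0, ∀ u, ∀ x ∈ X, a * (u * x) * a⁻¹ * (u * x)⁻¹ = a * u * a⁻¹ * u⁻¹ := by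
    intro a ha u x hx
    have h1 := h.cX ha hx
    calc a * (u * x) * a⁻¹ * (u * x)⁻¹ = a * u * (x * a⁻¹) * x⁻¹ * u⁻¹ := by group
      _ = a * u * (a⁻¹ * (a * x) * a⁻¹) * x⁻¹ * u⁻¹ := by group
      _ = a * u * (a⁻¹ * (x * a) * a⁻¹) * x⁻¹ * u⁻¹ := by rw [h1]
      _ = _ := by group
  -- the element `y`
  have hXV : ¬ V' ⊔ X ≤ X := by
    intro hle
    obtain ⟨v, hv, hv1⟩ := k.pb.exists_v
    obtain ⟨u, hu', n, hn, rfl⟩ := k.pb.exists_V hv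
    exact hv1 (mul_mem ((k.N1X h (hVN hu')).2 (hle (mem_sup_left hu'))) (k.pb.N01 hn))
  have hX2 : IsPGroup 2 B0 := k.pb.Bp
  have hle0 : V' ⊔ X ≤ B0 := sup_le hVB h.XB0
  have hPX : zpowers b ≤ normalizer (X : Set G) := by rw [zpowers_le]; exact hbX
  have hPM : zpowers b ≤ normalizer ((V' ⊔ X : Subgroup G) : Set G) := by
    rw [zpowers_le]
    refine mem_normalizer_of_cj_le ?_
    rw [show ChoiceBase.cj b (V' ⊔ X) = ChoiceBase.cj b V' ⊔ ChoiceBase.cj b X from Subgroup.map_sup _ _ _,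
      cj_eq_of_mem_normalizer hbX]
    exact sup_le hu le_sup_right
  have hMX : V' ⊔ X ≤ normalizer (X : Set G) := sup_le (fun v hv => mem_normalizer_of_cj_le (by
    rintro _ ⟨x, hx, rfl⟩
    show v * x * v⁻¹ ∈ X
    rw [hcX v hv x hx, mul_inv_cancel_right]
    exact hx)) le_normalizer
  obtain ⟨y0, hy0, hy0X, hfix⟩ := exists_fix_mod (h.twoB.to_le (by rw [zpowers_le]; exact hb)) hPX hPM
    (hX2.to_le hle0) hMX hXV
  obtain ⟨y, hy, x0, hx0, rfl⟩ := mem_sup_comm hcX hy0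
  have hyX : y ∉ X := fun h1 => hy0X (mul_mem h1 hx0)
  have hyN1 : y ∉ N1 := fun h1 => hyX ((k.N1X h (hVN hy)).1 h1)
  -- `b y b⁻¹ = y x₁`
  obtain ⟨x1, hx1, hyb⟩ : ∃ x1 ∈ X, b * y * b⁻¹ = y * x1 := by
    have h1 := hfix b (mem_zpowers b)
    have hx0' : b * x0 * b⁻¹ ∈ X := (mem_normalizer_iff.1 hbX x0).1 hx0
    refine ⟨y⁻¹ * (b * (y * x0) * b⁻¹ * (y * x0)⁻¹) * y * (x0 * (b * x0 * b⁻¹)⁻¹), ?_, ?_⟩
    · refine mul_mem ?_ (mul_mem hx0 (inv_mem hx0'))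
      have h2 := hcX y⁻¹ (inv_mem hy) _ h1
      have e : y⁻¹ * (b * (y * x0) * b⁻¹ * (y * x0)⁻¹) * y = b * (y * x0) * b⁻¹ * (y * x0)⁻¹ := by
        rw [h2]; group
      rw [e]; exact h1
    · have h2 := hcX y hy x0 hx0
      calc b * y * b⁻¹ = b * (y * x0) * b⁻¹ * (y * x0)⁻¹ * (y * x0) * (b * x0 * b⁻¹)⁻¹ := by group
        _ = _ := by group
  -- (i) `b a b⁻¹ ∈ a C(V')`
  have hpi : ∀ a ∈ B0, ∀ v ∈ V', (b * a * b⁻¹ * a⁻¹) * v = v * (b * a * b⁻¹ * a⁻¹) := by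
    intro a ha
    have ha' : b * a * b⁻¹ ∈ B0 := (mem_normalizer_iff.1 hbB0 a).1 ha
    have e1 : b * (a * y * a⁻¹ * y⁻¹) * b⁻¹ = (b * a * b⁻¹) * y * (b * a * b⁻¹)⁻¹ * y⁻¹ := by
      rw [← F5 _ ha' y x1 hx1, ← hyb]; group
    have h1 := F3 _ (k.pb.quad a ha y (hVN hy))
    rw [e1] at h1
    -- `[a' a⁻¹, y] ∈ X_K`
    have ha'' : b * a * b⁻¹ * a⁻¹ ∈ B0 := mul_mem ha' (inv_mem ha)
    have e2 : (b * a * b⁻¹ * a⁻¹) * y * (b * a * b⁻¹ * a⁻¹)⁻¹ * y⁻¹ =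
        (b * a * b⁻¹) * y * (b * a * b⁻¹)⁻¹ * y⁻¹ * (a * y * a⁻¹ * y⁻¹)⁻¹ := by
      have hq : a⁻¹ * y * a⁻¹⁻¹ * y⁻¹ ∈ N1 := k.pb.quad a⁻¹ (inv_mem ha) y (hVN hy)
      have h3 : a * (a⁻¹ * y * a⁻¹⁻¹ * y⁻¹) = (a⁻¹ * y * a⁻¹⁻¹ * y⁻¹) * a := k.pb.N1c a ha _ hq
      have h4 : (b * a * b⁻¹) * (a⁻¹ * y * a⁻¹⁻¹ * y⁻¹) = (a⁻¹ * y * a⁻¹⁻¹ * y⁻¹) * (b * a * b⁻¹) :=
        k.pb.N1c _ ha' _ hq
      have h5 : a⁻¹ * y * a⁻¹⁻¹ * y⁻¹ = (a * y * a⁻¹ * y⁻¹)⁻¹ := by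
        have h6 : a * (a⁻¹ * y * a⁻¹⁻¹ * y⁻¹) * a⁻¹ = a⁻¹ * y * a⁻¹⁻¹ * y⁻¹ := by rw [h3]; group
        rw [← h6]; group
      rw [← h5]
      have hcm : (a⁻¹ * y * a⁻¹⁻¹ * y⁻¹) * ((b * a * b⁻¹) * y * (b * a * b⁻¹)⁻¹ * y⁻¹) =
          ((b * a * b⁻¹) * y * (b * a * b⁻¹)⁻¹ * y⁻¹) * (a⁻¹ * y * a⁻¹⁻¹ * y⁻¹) :=
        k.pb.comm (k.pb.N1N hq) (k.pb.N1N (k.pb.quad _ ha' y (hVN hy)))
      rw [← hcm]
      calc (b * a * b⁻¹ * a⁻¹) * y * (b * a * b⁻¹ * a⁻¹)⁻¹ * y⁻¹ =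
          ((b * a * b⁻¹) * (a⁻¹ * y * a⁻¹⁻¹ * y⁻¹)) * y * (b * a * b⁻¹)⁻¹ * y⁻¹ := by group
        _ = _ := by rw [h4]; group
    have h2 : (b * a * b⁻¹ * a⁻¹) * y * (b * a * b⁻¹ * a⁻¹)⁻¹ * y⁻¹ ∈ N0 := by
      refine k.mem_N0 h (k.pb.quad _ ha'' y (hVN hy)) fun g hg => ?_
      rw [e2]
      exact mem_centralizer_iff.1 h1.2 g hg
    by_contra hcon
    push Not at hcon
    obtain ⟨v, hv, hne⟩ := hcon
    exact hyN1 (k.pb.cent _ ha'' ⟨v, hVN hv, hne⟩ y (hVN hy) h2)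
  -- (ii) `b v b⁻¹ ∈ v X`
  have hvX : ∀ v ∈ V', ∃ x ∈ X, b * v * b⁻¹ = v * x := by
    intro v hv
    obtain ⟨u, hu1, x, hx, e⟩ := hM v hv
    obtain ⟨a, ha, w, hw, hne⟩ := k.pb.exists_b
    have hne' : ∃ v ∈ N, (a : G) * v ≠ v * a := ⟨w, hw, hne⟩
    have ha' : b * a * b⁻¹ ∈ B0 := (mem_normalizer_iff.1 hbB0 a).1 ha
    have hcon := k.pb.cent a ha hne' (u * v⁻¹) (mul_mem (hVN hu1) (inv_mem (hVN hv))) ?_
    · refine ⟨u * v⁻¹ * x, mul_mem ((k.N1X h (mul_mem (hVN hu1) (inv_mem (hVN hv)))).1 hcon) hx, ?_⟩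
      rw [e]
      have h1 : u * v⁻¹ * x = x * (u * v⁻¹) := hcX _ (mul_mem hu1 (inv_mem hv)) x hx
      have h2 : v * (u * v⁻¹) = u := by
        rw [← mul_assoc, k.pb.comm (hVN hv) (hVN hu1), mul_inv_cancel_right]
      calc u * x = (v * (u * v⁻¹)) * x := by rw [h2]
        _ = _ := by group
    · -- `[a, u v⁻¹] ∈ N₀`
      have h1 := F3 _ (k.pb.quad a ha v (hVN hv))
      have e1 : b * (a * v * a⁻¹ * v⁻¹) * b⁻¹ = a * u * a⁻¹ * u⁻¹ := by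
        have h3 : b * (a * v * a⁻¹ * v⁻¹) * b⁻¹ = (b * a * b⁻¹) * (u * x) * (b * a * b⁻¹)⁻¹ * (u * x)⁻¹ := by
          rw [← e]; group
        rw [h3, F5 _ ha' u x hx]
        have h4 := hpi a ha (a * u * a⁻¹) (by
          have := (mem_normalizer_iff.1 (k.pb.LV (k.pb.BL ha)) u).1 hu1
          exact this)
        have h5 : b * a * b⁻¹ * u * (b * a * b⁻¹)⁻¹ = a * u * a⁻¹ := by
          calc b * a * b⁻¹ * u * (b * a * b⁻¹)⁻¹ = (b * a * b⁻¹ * a⁻¹) * (a * u * a⁻¹) * (b * a * b⁻¹ * a⁻¹)⁻¹ := by group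
            _ = (a * u * a⁻¹) * (b * a * b⁻¹ * a⁻¹) * (b * a * b⁻¹ * a⁻¹)⁻¹ := by rw [h4]
            _ = _ := by group
        rw [h5]
      rw [e1] at h1
      have e2 : a * (u * v⁻¹) * a⁻¹ * (u * v⁻¹)⁻¹ = a * u * a⁻¹ * u⁻¹ * (a * v * a⁻¹ * v⁻¹)⁻¹ := by
        have hav : a * v⁻¹ * a⁻¹ ∈ N := k.pb.Nn a (k.pb.BL ha) _ (inv_mem (hVN hv))
        have h3 : (a * v⁻¹ * a⁻¹) * (v * u⁻¹) = (v * u⁻¹) * (a * v⁻¹ * a⁻¹) :=
          k.pb.comm hav (mul_mem (hVN hv) (inv_mem (hVN hu1)))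
        have h4 : v * u⁻¹ = u⁻¹ * v := k.pb.comm (hVN hv) (inv_mem (hVN hu1))
        calc a * (u * v⁻¹) * a⁻¹ * (u * v⁻¹)⁻¹ = (a * u * a⁻¹) * ((a * v⁻¹ * a⁻¹) * (v * u⁻¹)) := by group
          _ = (a * u * a⁻¹) * ((v * u⁻¹) * (a * v⁻¹ * a⁻¹)) := by rw [h3]
          _ = (a * u * a⁻¹) * ((u⁻¹ * v) * (a * v⁻¹ * a⁻¹)) := by rw [h4]
          _ = _ := by group
      refine k.mem_N0 h (k.pb.quad a ha _ (mul_mem (hVN hu1) (inv_mem (hVN hv)))) fun g hg => ?_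
      rw [e2]
      exact mem_centralizer_iff.1 h1.2 g hg
  -- (iii)
  have hle : (⁅V', B0⁆ : Subgroup G) ≤ centralizer {b} := by
    rw [Subgroup.commutator_le]
    intro v hv a ha
    obtain ⟨x, hx, e⟩ := hvX v hv
    have ha' : b * a * b⁻¹ ∈ B0 := (mem_normalizer_iff.1 hbB0 a).1 ha
    have h1 : b * (a * v * a⁻¹ * v⁻¹) * b⁻¹ = a * v * a⁻¹ * v⁻¹ := by
      have h3 : b * (a * v * a⁻¹ * v⁻¹) * b⁻¹ = (b * a * b⁻¹) * (v * x) * (b * a * b⁻¹)⁻¹ * (v * x)⁻¹ := by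
        rw [← e]; group
      rw [h3, F5 _ ha' v x hx]
      have h4 := hpi a ha (a * v * a⁻¹) ((mem_normalizer_iff.1 (k.pb.LV (k.pb.BL ha)) v).1 hv)
      have h5 : b * a * b⁻¹ * v * (b * a * b⁻¹)⁻¹ = a * v * a⁻¹ := by
        calc b * a * b⁻¹ * v * (b * a * b⁻¹)⁻¹ = (b * a * b⁻¹ * a⁻¹) * (a * v * a⁻¹) * (b * a * b⁻¹ * a⁻¹)⁻¹ := by group
          _ = (a * v * a⁻¹) * (b * a * b⁻¹ * a⁻¹) * (b * a * b⁻¹ * a⁻¹)⁻¹ := by rw [h4]
          _ = _ := by group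
      rw [h5]
    have h2 : a * v * a⁻¹ * v⁻¹ ∈ centralizer ({b} : Set G) := by
      rw [mem_centralizer_singleton_iff]
      have h3 := congrArg (fun y => y * b) h1
      simpa [mul_assoc] using h3.symm
    have e2 : ⁅v, a⁆ = (a * v * a⁻¹ * v⁻¹)⁻¹ := by rw [commutatorElement_def]; group
    rw [e2]
    exact inv_mem h2
  intro x hx
  exact (mem_centralizer_singleton_iff.1 (hle hx)).symm

end BK

end Cfsg.Agent.Omega.OM.Lev.Low.TorusK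

end

section


/-!
# TORUS, `k ≥ 4`: (SPLIT), second half

* `BK.cjt` : the conjugates of a block over `W l` with a torus element of a block over `W p`, `p ≠ l`;
* `BK.ch_cen` : **`[[N, K], B₀] ∩ C(K) = 1`**.
-/

set_option autoImplicit false
set_option linter.unusedSectionVars false

namespace Cfsg.Agent.Omega.OM.Lev.Low.TorusK

open Subgroup Cfsg Cfsg.Agent.ZN Cfsg.Agent.ZN.ChoiceBase
open Cfsg.Agent.Omega.SQ1.Bau (mem_sup_comm card_sup_comm elem_comm elem_sq)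
open Cfsg.Agent.Omega.NO3S.Level.Claim (Fm Bl cB mem_cB cB_le)
open Cfsg.Agent.Omega.OM.Lev.Uni (FrL)
open Cfsg.Agent.Omega.OM.Lev.Low.TorusK.PBC
open scoped commutatorElement

universe u

variable {G : Type u} [Group G] {ι : Type} {S B Q V Xn ZJ B0 X M0 Y0 : Subgroup G} {L W Z C A : ι → Subgroup G} {z : G}
  {l : ι} {K N N1 N0 : Subgroup G}

theorem comm_cjj (g : G) (N K : Subgroup G) : ⁅ChoiceBase.cj g N, ChoiceBase.cj g K⁆ = ChoiceBase.cj g ⁅N, K⁆ :=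
  (Subgroup.map_commutator _ _ _).symm

/-- `X = W l C_X(K)` -/
theorem BK.splitX [Finite G] (h : TK S B Q V Xn ZJ B0 X M0 Y0 L W Z C A z) (k : BK B B0 X M0 Y0 W l K N N1 N0) {x : G}
    (hx : x ∈ X) : ∃ w ∈ W l, ∃ c ∈ X, (∀ g ∈ K, g * c = c * g) ∧ x = w * c := by
  have hx' := hx
  rw [← h.zB] at hx'
  obtain ⟨c, hc, hcK, n, hn, rfl⟩ := k.pb.Z_split hx'
  rw [h.zB] at hc
  obtain ⟨w, hw, n0, hn0, rfl⟩ := k.split1 h hn
  have hn0X := k.N0X h hn0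
  refine ⟨w, hw, c * n0, mul_mem hc hn0X.1, fun g hg => ?_, ?_⟩
  · have c1 : Commute g c := hcK g hg
    have c2 : Commute g n0 := k.pb.N0c g hg n0 hn0
    exact (c1.mul_right c2).eq
  · have h1 : c * w = w * c := h.Xc hc (h.WX l hw)
    calc c * (w * n0) = (c * w) * n0 := by group
      _ = (w * c) * n0 := by rw [h1]
      _ = _ := by group

theorem BK.W_inf [Finite G] (h : TK S B Q V Xn ZJ B0 X M0 Y0 L W Z C A z) (k : BK B B0 X M0 Y0 W l K N N1 N0) {p : ι}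
    (hp : p ≠ l) : W p ≤ X ⊓ centralizer (K : Set G) := fun w hw =>
  mem_inf.2 ⟨h.WX p hw, mem_centralizer_iff.2 fun g hg => k.cW p hp w hw g hg⟩

/-- conjugates with a torus element of another block -/
theorem BK.cjt [Finite G] (h : TK S B Q V Xn ZJ B0 X M0 Y0 L W Z C A z) (k : BK B B0 X M0 Y0 W l K N N1 N0) {p : ι}
    (hp : p ≠ l) {K' N' N1' N0' : Subgroup G} (k' : BK B B0 X M0 Y0 W p K' N' N1' N0') {t : G} (ht : t ∈ K')
    (htB : t ∈ normalizer (B0 : Set G)) (htW : ∀ w ∈ W p, t * w * t⁻¹ ∈ W p) :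
    BK B B0 X M0 Y0 W l (ChoiceBase.cj t K) (ChoiceBase.cj t N) (ChoiceBase.cj t N1) (ChoiceBase.cj t N0) ∧
      ChoiceBase.cj t (X ⊓ centralizer (K : Set G)) = X ⊓ centralizer (K : Set G) := by
  have htl : ∀ w ∈ W l, t * w = w * t := fun w hw => k'.cW l (Ne.symm hp) w hw t ht
  have hWl : ChoiceBase.cj t (W l) = W l := cj_eq_of_mem_normalizer (mem_normalizer_of_cj_le (by
    rintro _ ⟨w, hw, rfl⟩
    show t * w * t⁻¹ ∈ W l
    rw [htl w hw, mul_inv_cancel_right]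
    exact hw))
  have hXt : ChoiceBase.cj t X = X := by
    rw [← h.zB, ← zc_cj', cj_eq_of_mem_normalizer htB]
  have hXK : t ∈ normalizer ((X ⊓ centralizer (K : Set G) : Subgroup G) : Set G) := by
    refine mem_normalizer_of_cj_le ?_
    rintro _ ⟨x, hx, rfl⟩
    show t * x * t⁻¹ ∈ X ⊓ centralizer (K : Set G)
    obtain ⟨w, hw, c, hc, hcK, rfl⟩ := k'.splitX h hx.1
    have h1 := k.W_inf h hp
    have h2 : t * (w * c) * t⁻¹ = (t * w * t⁻¹) * w⁻¹ * (w * c) := by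
      have h3 := hcK t ht
      calc t * (w * c) * t⁻¹ = t * w * (c * t⁻¹) := by group
        _ = t * w * (t⁻¹ * (t * c) * t⁻¹) := by group
        _ = t * w * (t⁻¹ * (c * t) * t⁻¹) := by rw [h3]
        _ = _ := by group
    rw [h2]
    exact mul_mem (mul_mem (h1 (htW w hw)) (inv_mem (h1 hw))) hx
  have hXK' := cj_eq_of_mem_normalizer hXK
  have hXKt : X ⊓ centralizer (ChoiceBase.cj t K : Set G) = X ⊓ centralizer (K : Set G) := by
    rw [← hXK', cj_inf, cj_centralizer, hXt]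
  refine ⟨?_, hXK'⟩
  constructor
  · have h1 := pb_cj k.pb t
    rwa [cj_eq_of_mem_normalizer htB] at h1
  · have h1 := cj_mono t k.NY
    rwa [cj_eq_of_mem_normalizer (h.MY (k'.KM ht))] at h1
  · have h1 := cj_mono t k.KM
    rwa [cj_eq_of_mem_normalizer (le_normalizer (k'.KM ht))] at h1
  · rw [← hWl]; exact cj_mono t k.WN
  · rw [← hWl, ← cj_inf, k.WN0]
    exact Subgroup.map_bot _
  · intro q hq w hw x hx
    have h1 : w ∈ X ⊓ centralizer (ChoiceBase.cj t K : Set G) := by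
      rw [hXKt]
      exact k.W_inf h hq hw
    exact mem_centralizer_iff.1 h1.2 x hx
  · rw [hXKt]; exact k.BX
  · obtain ⟨x, hx, hxB, hxW, hxf⟩ := k.tor
    refine ⟨_, cj_mem hx, mul_mem (mul_mem htB hxB) (inv_mem htB), ?_, ?_⟩
    · intro w hw0
      rw [← hWl] at hw0 ⊢
      obtain ⟨w, hw, rfl⟩ := ex_cj hw0
      have e : t * x * t⁻¹ * (t * w * t⁻¹) * (t * x * t⁻¹)⁻¹ = t * (x * w * x⁻¹) * t⁻¹ := by group
      rw [e]
      exact cj_mem (hxW w hw)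
    · intro w hw0 he
      rw [← hWl] at hw0
      obtain ⟨w, hw, rfl⟩ := ex_cj hw0
      have e : t * x * t⁻¹ * (t * w * t⁻¹) * (t * x * t⁻¹)⁻¹ = t * (x * w * x⁻¹) * t⁻¹ := by group
      rw [e] at he
      have h1 := hxf w hw (mul_left_cancel (mul_right_cancel he))
      rw [h1]; group

theorem BK.ch_le [Finite G] (k : BK B B0 X M0 Y0 W l K N N1 N0) : ⁅⁅N, K⁆, B0⁆ ≤ N1 := by
  rw [Subgroup.commutator_le]
  intro v hv b hb
  have h1 := k.pb.quad b hb v (k.pb.VN hv)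
  have e : ⁅v, b⁆ = (b * v * b⁻¹ * v⁻¹)⁻¹ := by rw [commutatorElement_def]; group
  rw [e]
  exact inv_mem h1

theorem BK.ch_B [Finite G] (h : TK S B Q V Xn ZJ B0 X M0 Y0 L W Z C A z) (k : BK B B0 X M0 Y0 W l K N N1 N0) :
    B ≤ normalizer ((⁅⁅N, K⁆, B0⁆ : Subgroup G) : Set G) := by
  intro b hb
  have k' := k.cj h (h.BS hb) (h.BW hb l)
  have h1 := ch_eq h k k'
  rw [comm_cjj] at h1
  have e : ⁅ChoiceBase.cj b ⁅N, K⁆, B0⁆ = ChoiceBase.cj b ⁅⁅N, K⁆, B0⁆ := by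
    rw [← comm_cjj b ⁅N, K⁆ B0, cj_eq_of_mem_normalizer (h.BB0 hb)]
  rw [e] at h1
  rw [mem_normalizer_iff_cj]
  exact h1.symm

/-- **(SPLIT)** -/
theorem BK.ch_cen [Finite G] [Finite ι] (h : TK S B Q V Xn ZJ B0 X M0 Y0 L W Z C A z)
    (k : BK B B0 X M0 Y0 W l K N N1 N0) : ⁅⁅N, K⁆, B0⁆ ⊓ centralizer (K : Set G) = ⊥ := by
  by_contra hne
  set D : Subgroup G := ⁅⁅N, K⁆, B0⁆ ⊓ (X ⊓ centralizer (K : Set G)) with hD
  have hDX : (⁅⁅N, K⁆, B0⁆ : Subgroup G) ≤ X := fun x hx => (k.N1X h (k.pb.N1N (k.ch_le hx))).1 (k.ch_le hx)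
  have hDne : D ≠ ⊥ := fun e => hne (by
    rw [eq_bot_iff, ← e]
    exact le_inf inf_le_left (le_inf (inf_le_left.trans hDX) inf_le_right))
  have hDB : B ≤ normalizer (D : Set G) := fun b hb => by
    rw [mem_normalizer_iff_cj, hD, cj_inf, cj_eq_of_mem_normalizer (k.ch_B h hb), cj_eq_of_mem_normalizer (k.BX hb)]
  have hD2 : IsPGroup 2 D := h.twoB.to_le ((inf_le_left.trans hDX).trans (h.XB0.trans h.B0B))
  have h5 := PLocal.OffenderStep.inf_centralizer_ne_bot D B hD2 h.twoB hDB hDne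
  obtain ⟨⟨c, hc⟩, hc1⟩ := (Subgroup.ne_bot_iff_exists_ne_one).1 h5
  obtain ⟨⟨hcc, hcX, hcK⟩, hcB⟩ := mem_inf.1 hc
  replace hc1 : c ≠ 1 := fun e => hc1 (Subtype.ext e)
  have hcJ : c ∈ ZJ := h.mem_ZJ_of hcX fun b hb => mem_centralizer_iff.1 hcB b hb
  have h1 : ¬ ∀ i, c ∈ C i := fun hall => hc1 (h.fr.C0 c (h.fr.ZJV hcJ) hall)
  push Not at h1
  obtain ⟨p, hp⟩ := h1
  obtain ⟨w, hw, d, hd, hdJ, ec⟩ := h.fr.split_ZJ p hcJ
  have hw1 : w ≠ 1 := fun e => hp (by rw [ec, e, one_mul]; exact hd)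
  have hpl : p ≠ l := by
    rintro rfl
    refine hw1 (k.W_cen (h.ZW p hw) fun g hg => ?_)
    have h2 : d ∈ centralizer (K : Set G) := h.mem_of_C (H := centralizer (K : Set G)) (fun q hq => fun x hx =>
      mem_centralizer_iff.2 fun g hg => k.cW q hq x (h.ZW q hx) g hg) hdJ hd
    have h3 : w = c * d⁻¹ := by rw [ec]; group
    have h4 : w ∈ centralizer (K : Set G) := by rw [h3]; exact mul_mem hcK (inv_mem h2)
    exact mem_centralizer_iff.1 h4 g hg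
  -- the block over `W p`
  obtain ⟨s, hs, hsW⟩ := h.tr l p
  have kp := k.cj h hs hsW
  obtain ⟨t, ht, htB, htW, htf⟩ := kp.tor
  obtain ⟨kt, -⟩ := k.cjt h hpl kp ht htB htW
  -- `t` normalises `[[N, K], B₀]`
  have htn : ChoiceBase.cj t ⁅⁅N, K⁆, B0⁆ = ⁅⁅N, K⁆, B0⁆ := by
    have h2 := ch_eq h k kt
    rw [comm_cjj] at h2
    have e : ⁅ChoiceBase.cj t ⁅N, K⁆, B0⁆ = ChoiceBase.cj t ⁅⁅N, K⁆, B0⁆ := by
      rw [← comm_cjj t ⁅N, K⁆ B0, cj_eq_of_mem_normalizer htB]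
    rw [e] at h2
    exact h2.symm
  have hdK : ∀ g ∈ ChoiceBase.cj s K, g * d = d * g := by
    have h2 : d ∈ centralizer (ChoiceBase.cj s K : Set G) :=
      h.mem_of_C (H := centralizer (ChoiceBase.cj s K : Set G)) (fun q hq => fun x hx =>
        mem_centralizer_iff.2 fun g hg => kp.cW q hq x (h.ZW q hx) g hg) hdJ hd
    exact fun g hg => mem_centralizer_iff.1 h2 g hg
  -- `w₁ = [t, w]`
  have hwW := h.ZW p hw
  have hmem : ∀ {x : G}, x ∈ (⁅⁅N, K⁆, B0⁆ : Subgroup G) → t * x * t⁻¹ ∈ (⁅⁅N, K⁆, B0⁆ : Subgroup G) := fun {x} hx => by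
    have h3 := cj_mem (g := t) hx
    rwa [htn] at h3
  have hw1c : t * w * t⁻¹ * w⁻¹ ∈ (⁅⁅N, K⁆, B0⁆ : Subgroup G) := by
    have h2 := mul_mem (hmem hcc) (inv_mem hcc)
    have h3 := hdK t ht
    have e : t * c * t⁻¹ * c⁻¹ = t * w * t⁻¹ * w⁻¹ := by
      rw [ec]
      calc t * (w * d) * t⁻¹ * (w * d)⁻¹ = t * w * (t⁻¹ * (t * d) * t⁻¹) * d⁻¹ * w⁻¹ := by group
        _ = t * w * (t⁻¹ * (d * t) * t⁻¹) * d⁻¹ * w⁻¹ := by rw [h3]
        _ = _ := by group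
    rwa [e] at h2
  set w1 := t * w * t⁻¹ * w⁻¹ with hw1d
  have hw1W : w1 ∈ W p := mul_mem (htW w hwW) (inv_mem hwW)
  have hw11 : w1 ≠ 1 := fun e => hw1 (htf w hwW (mul_inv_eq_one.1 e))
  -- the transvection
  obtain ⟨b, hb, hbC, u, hu, hbu⟩ := h.exists_t p
  have hbl : ∀ x ∈ W l, b * x = x * b := fun x hx => hbC x (h.fr.WjC p l hpl hx)
  have hcen := k.cen_ch h hb hbl
  have hne' : ¬ ∀ u ∈ W p, b * u = u * b := fun h2 => hbu (h2 u hu)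
  have hZ1 : w1 ∈ Z p := (h.fr.blk p).mem_Z hb hne' hw1W (hcen w1 hw1c)
  have hZ2 : t * w1 * t⁻¹ ∈ Z p := (h.fr.blk p).mem_Z hb hne' (htW w1 hw1W) (hcen _ (hmem hw1c))
  have hne2 : t * w1 * t⁻¹ ≠ 1 := fun e => hw11 (by
    have h3 : w1 = t⁻¹ * (t * w1 * t⁻¹) * t := by group
    rw [h3, e]; group)
  exact hw11 (htf w1 hw1W (h.Z_two p hZ2 hZ1 hne2 hw11))

end Cfsg.Agent.Omega.OM.Lev.Low.TorusK

end

section


/-!
# TORUS, `k ≥ 4`: the module of a block is natural of order 16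

* `BK.ch_W` : `[[N, K], B₀] = W l`; `BK.exists_gen` : `[N, K] = W l × W l^x`;
* `BK.n4` : **`N4 B₀ K [N, K] (W l)`**; `BK.inf_X` : `[N, K] ∩ X = W l`; `BK.inf_N0` : `[N, K] ∩ N₀ = 1`.
-/

set_option autoImplicit false
set_option linter.unusedSectionVars false

namespace Cfsg.Agent.Omega.OM.Lev.Low.TorusK

open Subgroup Cfsg Cfsg.Agent.ZN Cfsg.Agent.ZN.ChoiceBase
open Cfsg.Agent.Omega.SQ1.Bau (mem_sup_comm card_sup_comm elem_comm elem_sq)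
open Cfsg.Agent.Omega.NO3S.Level.Claim (Fm Bl cB mem_cB cB_le)
open Cfsg.Agent.Omega.OM.Lev.Uni (FrL)
open Cfsg.Agent.Omega.OM.Lev.Low.TorusK.PBC
open scoped commutatorElement

universe u

variable {G : Type u} [Group G] {ι : Type} {S B Q V Xn ZJ B0 X M0 Y0 : Subgroup G} {L W Z C A : ι → Subgroup G} {z : G}
  {l : ι} {K N N1 N0 : Subgroup G}

/-- an injective endomorphism of a finite group in the form used below -/
theorem W_comm [Finite G] {W0 : Subgroup G} {t : G} (hab : ∀ a ∈ W0, ∀ b ∈ W0, a * b = b * a)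
    (htW : ∀ w ∈ W0, t * w * t⁻¹ ∈ W0) (htf : ∀ w ∈ W0, t * w * t⁻¹ = w → w = 1) {w : G} (hw : w ∈ W0) :
    ∃ u ∈ W0, w = t * u * t⁻¹ * u⁻¹ := by
  let f : W0 → W0 := fun u => ⟨t * u * t⁻¹ * (u : G)⁻¹, mul_mem (htW u u.2) (inv_mem u.2)⟩
  have hinj : Function.Injective f := by
    intro a b hab'
    have e : t * (a : G) * t⁻¹ * (a : G)⁻¹ = t * (b : G) * t⁻¹ * (b : G)⁻¹ := congrArg Subtype.val hab'
    have h1 := htf ((b : G)⁻¹ * a) (mul_mem (inv_mem b.2) a.2) (by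
      have h2 : t * (b : G) * t⁻¹ * (b : G)⁻¹ = (b : G)⁻¹ * (t * b * t⁻¹) := hab _ (htW b b.2) _ (inv_mem b.2)
      have h3 : t * (a : G) * t⁻¹ * (a : G)⁻¹ = (a : G)⁻¹ * (t * a * t⁻¹) := hab _ (htW a a.2) _ (inv_mem a.2)
      have h4 : (a : G)⁻¹ * (t * a * t⁻¹) = (b : G)⁻¹ * (t * b * t⁻¹) := by rw [← h3, ← h2, e]
      have h5 : t * ((b : G)⁻¹ * a) * t⁻¹ = (t * b * t⁻¹)⁻¹ * (t * a * t⁻¹) := by group
      have h6 : t * (a : G) * t⁻¹ = a * ((b : G)⁻¹ * (t * b * t⁻¹)) := by rw [← h4]; group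
      have h7 : (b : G)⁻¹ * (t * b * t⁻¹) = (t * b * t⁻¹) * (b : G)⁻¹ := (hab _ (htW b b.2) _ (inv_mem b.2)).symm
      have h8 : (a : G) * ((t * b * t⁻¹) * (b : G)⁻¹) = ((t * b * t⁻¹) * (b : G)⁻¹) * a :=
        hab _ a.2 _ (mul_mem (htW b b.2) (inv_mem b.2))
      rw [h5, h6, h7, h8]
      group)
    apply Subtype.ext
    have h9 : (a : G) = b * ((b : G)⁻¹ * a) := by group
    rw [h9, h1, mul_one]
  obtain ⟨u, hu⟩ := (Finite.injective_iff_surjective.1 hinj) ⟨w, hw⟩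
  exact ⟨u, u.2, (congrArg Subtype.val hu).symm⟩

namespace BK

/-- `W l ≤ [[N, K], B₀]` and equality -/
theorem ch_W [Finite G] [Finite ι] (h : TK S B Q V Xn ZJ B0 X M0 Y0 L W Z C A z)
    (k : BK B B0 X M0 Y0 W l K N N1 N0) : ⁅⁅N, K⁆, B0⁆ = W l := by
  have hcen := k.ch_cen h
  have hW : W l ≤ ⁅⁅N, K⁆, B0⁆ := by
    intro w hw
    obtain ⟨t, ht, htB, htW, htf⟩ := k.tor
    obtain ⟨u, hu, rfl⟩ := W_comm (fun a ha b hb => h.Xc (h.WX l ha) (h.WX l hb)) htW htf hw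
    -- `u = y n`, `y ∈ [[N, K], B₀]`
    obtain ⟨v, hv, hv1⟩ := k.pb.exists_v
    obtain ⟨y, hy, n, hn, rfl⟩ := k.pb.exists_V hv
    have hy1 : y ∉ N1 := fun h1 => hv1 (mul_mem h1 (k.pb.N01 hn))
    obtain ⟨b, hb, n0, hn0, e⟩ := k.pb.line (k.pb.VN hy) hy1 (k.WN hu)
    have hc : b * y * b⁻¹ * y⁻¹ ∈ (⁅⁅N, K⁆, B0⁆ : Subgroup G) := by
      have h1 := inv_mem (commutator_mem_commutator hy hb)
      have e1 : (⁅y, b⁆)⁻¹ = b * y * b⁻¹ * y⁻¹ := by rw [commutatorElement_def]; group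
      rwa [e1] at h1
    set c := b * y * b⁻¹ * y⁻¹ with hcd
    have htc : t * c * t⁻¹ ∈ (⁅⁅N, K⁆, B0⁆ : Subgroup G) := by
      have h1 : ChoiceBase.cj t ⁅⁅N, K⁆, B0⁆ = ⁅⁅N, K⁆, B0⁆ := by
        rw [← comm_cjj t ⁅N, K⁆ B0, cj_eq_of_mem_normalizer htB, cj_eq_of_mem_normalizer (k.pb.LV ht)]
      have h2 := cj_mem (g := t) hc
      rwa [h1] at h2
    have h3 := k.pb.N0c t ht n0 hn0
    have e2 : t * u * t⁻¹ * u⁻¹ = t * c * t⁻¹ * c⁻¹ := by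
      rw [e]
      calc t * (c * n0) * t⁻¹ * (c * n0)⁻¹ = t * c * (t⁻¹ * (t * n0) * t⁻¹) * n0⁻¹ * c⁻¹ := by group
        _ = t * c * (t⁻¹ * (n0 * t) * t⁻¹) * n0⁻¹ * c⁻¹ := by rw [h3]
        _ = _ := by group
    rw [e2]
    exact mul_mem htc (inv_mem hc)
  refine le_antisymm ?_ hW
  intro y hy
  obtain ⟨w, hw, n, hn, rfl⟩ := k.split1 h (k.ch_le hy)
  have h1 : n ∈ ⁅⁅N, K⁆, B0⁆ ⊓ centralizer (K : Set G) := by
    refine mem_inf.2 ⟨?_, (k.N0X h hn).2⟩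
    have h2 := mul_mem (inv_mem (hW hw)) hy
    rwa [inv_mul_cancel_left] at h2
  rw [hcen, mem_bot] at h1
  rw [h1, mul_one]
  exact hw

theorem W_le [Finite G] [Finite ι] (h : TK S B Q V Xn ZJ B0 X M0 Y0 L W Z C A z)
    (k : BK B B0 X M0 Y0 W l K N N1 N0) : W l ≤ ⁅N, K⁆ := by
  rw [← k.ch_W h, Subgroup.commutator_le]
  intro v hv b hb
  have h1 := (mem_normalizer_iff.1 (k.pb.LV (k.pb.BL hb)) v⁻¹).1 (inv_mem hv)
  have e : ⁅v, b⁆ = v * (b * v⁻¹ * b⁻¹) := by rw [commutatorElement_def]; group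
  rw [e]
  exact mul_mem hv h1

/-- `[N, K] = W l W l^x` -/
theorem exists_gen [Finite G] [Finite ι] (h : TK S B Q V Xn ZJ B0 X M0 Y0 L W Z C A z)
    (k : BK B B0 X M0 Y0 W l K N N1 N0) {x : G} (hx : x ∈ K) (hm : SQ1.Bau.Mv N1 x) :
    ⁅N, K⁆ = W l ⊔ ChoiceBase.cj x (W l) := by
  have hWV := k.W_le h
  have hcV : ChoiceBase.cj x (W l) ≤ ⁅N, K⁆ := by
    have h1 := cj_mono x hWV
    rwa [cj_eq_of_mem_normalizer (k.pb.LV hx)] at h1
  have hle : W l ⊔ ChoiceBase.cj x (W l) ≤ ⁅N, K⁆ := sup_le hWV hcV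
  refine le_antisymm ?_ hle
  obtain ⟨w, hw, hw1⟩ : ∃ w ∈ W l, w ≠ 1 := by
    obtain ⟨y, hy, hy1⟩ := h.exists_Z l
    exact ⟨y, h.ZW l hy, hy1⟩
  have hcm : ∀ b ∈ B0, ∀ v ∈ (⁅N, K⁆ : Subgroup G), b * v * b⁻¹ * v⁻¹ ∈ W l := by
    intro b hb v hv
    rw [← k.ch_W h]
    have h1 := inv_mem (commutator_mem_commutator hv hb)
    have e1 : (⁅v, b⁆)⁻¹ = b * v * b⁻¹ * v⁻¹ := by rw [commutatorElement_def]; group
    rwa [e1] at h1
  have hn : K ≤ normalizer ((W l ⊔ ChoiceBase.cj x (W l) : Subgroup G) : Set G) := by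
    refine k.pb.gen x hx hm _ (fun b hb => mem_normalizer_of_cj_le ?_) fun b hb => mem_normalizer_of_cj_le ?_
    · rintro _ ⟨v, hv, rfl⟩
      show b * v * b⁻¹ ∈ _
      have h1 := mul_mem (mem_sup_left (hcm b hb v (hle hv)) : _ ∈ W l ⊔ ChoiceBase.cj x (W l)) hv
      rwa [inv_mul_cancel_right] at h1
    · rintro _ ⟨v, hv, rfl⟩
      show x * b * x⁻¹ * v * (x * b * x⁻¹)⁻¹ ∈ _
      have hv' : x⁻¹ * v * x ∈ (⁅N, K⁆ : Subgroup G) := by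
        have := (mem_normalizer_iff.1 (k.pb.LV (inv_mem hx)) v).1 (hle hv)
        rwa [inv_inv] at this
      have h1 := hcm b hb _ hv'
      have h2 : x * b * x⁻¹ * v * (x * b * x⁻¹)⁻¹ * v⁻¹ ∈ ChoiceBase.cj x (W l) := by
        have e : x * b * x⁻¹ * v * (x * b * x⁻¹)⁻¹ * v⁻¹ =
            x * (b * (x⁻¹ * v * x) * b⁻¹ * (x⁻¹ * v * x)⁻¹) * x⁻¹ := by group
        rw [e]
        exact cj_mem h1
      have h3 := mul_mem (mem_sup_right h2 : _ ∈ W l ⊔ ChoiceBase.cj x (W l)) hv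
      rwa [inv_mul_cancel_right] at h3
  exact k.le_of hn hw hw1 (mem_sup_left hw)

theorem dir' [Finite G] (k : BK B B0 X M0 Y0 W l K N N1 N0) {x : G} (hx : x ∈ K) (hm : SQ1.Bau.Mv N1 x) {w : G}
    (hw : w ∈ W l) (h1 : x * w * x⁻¹ ∈ N1) : w = 1 := by
  have h2 := k.pb.opp x hx hm w (k.WN hw) h1
  have h3 := k.pb.pl.W0n x⁻¹ (inv_mem hx) _ h2
  have e : x⁻¹ * (x * w * x⁻¹) * x⁻¹⁻¹ = w := by group
  rw [e] at h3
  have h4 : w ∈ W l ⊓ N0 := ⟨hw, h3⟩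
  rwa [k.WN0, mem_bot] at h4

/-- `[N, K] ∩ N₁ = W l` -/
theorem inf_N1 [Finite G] [Finite ι] (h : TK S B Q V Xn ZJ B0 X M0 Y0 L W Z C A z)
    (k : BK B B0 X M0 Y0 W l K N N1 N0) {v : G} (hv : v ∈ (⁅N, K⁆ : Subgroup G)) (hv1 : v ∈ N1) : v ∈ W l := by
  obtain ⟨x, hx, hm⟩ := k.pb.mv
  rw [k.exists_gen h hx hm] at hv
  have hcV : ChoiceBase.cj x (W l) ≤ N := by
    rintro _ ⟨w, hw, rfl⟩
    exact k.pb.Nn x hx w (k.pb.N1N (k.WN hw))
  obtain ⟨a, ha, b, hb, rfl⟩ := mem_sup_comm (fun a ha b hb => k.pb.comm (k.pb.N1N (k.WN ha)) (hcV hb)) hv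
  obtain ⟨w, hw, rfl⟩ := ex_cj hb
  have h1 : x * w * x⁻¹ ∈ N1 := by
    have h2 := mul_mem (inv_mem (k.WN ha)) hv1
    rwa [inv_mul_cancel_left] at h2
  have h2 : w = 1 := k.dir' hx hm hw h1
  rw [h2, mul_one, mul_inv_cancel, mul_one]
  exact ha

/-- `[N, K] ∩ X = W l` -/
theorem inf_X [Finite G] [Finite ι] (h : TK S B Q V Xn ZJ B0 X M0 Y0 L W Z C A z)
    (k : BK B B0 X M0 Y0 W l K N N1 N0) : ⁅N, K⁆ ⊓ X = W l := by
  apply le_antisymm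
  · rintro v ⟨hv, hvX⟩
    exact k.inf_N1 h hv ((k.N1X h (k.pb.VN hv)).2 hvX)
  · exact le_inf (k.W_le h) (h.WX l)

theorem card16 [Finite G] [Finite ι] (h : TK S B Q V Xn ZJ B0 X M0 Y0 L W Z C A z)
    (k : BK B B0 X M0 Y0 W l K N N1 N0) : Nat.card (⁅N, K⁆ : Subgroup G) = 16 := by
  obtain ⟨x, hx, hm⟩ := k.pb.mv
  rw [k.exists_gen h hx hm]
  have hcV : ChoiceBase.cj x (W l) ≤ N := by
    rintro _ ⟨w, hw, rfl⟩
    exact k.pb.Nn x hx w (k.pb.N1N (k.WN hw))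
  have h1 := card_sup_comm (A := W l) (B := ChoiceBase.cj x (W l)) fun a ha b hb =>
    k.pb.comm (k.pb.N1N (k.WN ha)) (hcV hb)
  have h2 : W l ⊓ ChoiceBase.cj x (W l) = ⊥ := by
    rw [eq_bot_iff]
    rintro v ⟨hv, hv'⟩
    obtain ⟨w, hw, rfl⟩ := ex_cj hv'
    rw [k.dir' hx hm hw (k.WN hv), mul_one, mul_inv_cancel]
    exact one_mem _
  rw [h2, Subgroup.card_bot, mul_one, card_cj, h.cardW l] at h1
  exact h1

theorem mv_iff [Finite G] [Finite ι] (h : TK S B Q V Xn ZJ B0 X M0 Y0 L W Z C A z)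
    (k : BK B B0 X M0 Y0 W l K N N1 N0) {x : G} (hx : x ∈ K) : SQ1.Bau.Mv (W l) x ↔ SQ1.Bau.Mv N1 x := by
  constructor
  · rintro ⟨w, hw, hw'⟩
    refine ⟨w, k.WN hw, fun h1 => hw' (k.inf_N1 h ?_ h1)⟩
    exact (mem_normalizer_iff.1 (k.pb.LV hx) w).1 (k.W_le h hw)
  · rintro ⟨v, hv, hv'⟩
    obtain ⟨w, hw, n, hn, rfl⟩ := k.split1 h hv
    refine ⟨w, hw, fun h1 => hv' ?_⟩
    have h3 := k.pb.N0c x hx n hn
    have e : x * (w * n) * x⁻¹ = (x * w * x⁻¹) * n := by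
      calc x * (w * n) * x⁻¹ = x * w * (x⁻¹ * (x * n) * x⁻¹) := by group
        _ = x * w * (x⁻¹ * (n * x) * x⁻¹) := by rw [h3]
        _ = _ := by group
    rw [e]
    exact mul_mem (k.WN h1) (k.pb.N01 hn)

/-- **`[N, K]` is natural of order 16.** -/
theorem n4 [Finite G] [Finite ι] (h : TK S B Q V Xn ZJ B0 X M0 Y0 L W Z C A z)
    (k : BK B B0 X M0 Y0 W l K N N1 N0) : N4 B0 K ⁅N, K⁆ (W l) := by
  have hVN : (⁅N, K⁆ : Subgroup G) ≤ N := k.pb.VN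
  have hcB : B0 ⊓ centralizer ((⁅N, K⁆ : Subgroup G) : Set G) = B0 ⊓ centralizer (N : Set G) := by
    ext b
    rw [mem_inf, mem_inf, mem_centralizer_iff, mem_centralizer_iff]
    refine and_congr_right fun hb => ⟨fun h1 v hv => ?_, fun h1 v hv => h1 v (hVN hv)⟩
    obtain ⟨u, hu, n, hn, rfl⟩ := k.pb.exists_V hv
    have c1 : Commute u b := h1 u hu
    have c2 : Commute n b := (k.pb.N0c b (k.pb.BL hb) n hn).symm
    exact (c1.mul_left c2).eq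
  refine
    { el := Cfsg.Agent.PLocal.ThompsonJ.isElementaryAbelian_mono k.pb.el hVN
      card := k.card16 h
      V1V := k.W_le h
      card1 := h.cardW l
      BK := k.pb.BL
      KV := k.pb.LV
      c1 := fun b hb v hv => h.cX hb (h.WX l hv)
      quad := ?_
      cent := ?_
      cardB := by rw [hcB]; exact k.pb.cardB
      cor := ?_
      opp := ?_
      mv := ?_
      gen := fun x hx hm => k.pb.gen x hx ((k.mv_iff h hx).1 hm)
      tor := ?_ }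
  · intro b hb v hv
    refine k.inf_N1 h (mul_mem ((mem_normalizer_iff.1 (k.pb.LV (k.pb.BL hb)) v).1 hv) (inv_mem hv)) ?_
    exact k.pb.quad b hb v (hVN hv)
  · rintro b hb ⟨v, hv, hne⟩ u hu hc
    refine k.inf_N1 h hu (k.pb.cent b hb ⟨v, hVN hv, hne⟩ u (hVN hu) ?_)
    rw [hc, mul_inv_cancel_right, mul_inv_cancel]
    exact one_mem _
  · intro g hg
    rw [hcB]
    refine mem_normalizer_of_cj_le ?_
    rintro _ ⟨x, ⟨hx, hxc⟩, rfl⟩
    refine ⟨k.pb.cor g hg x hx fun v hv => (mem_centralizer_iff.1 hxc v hv).symm, mem_centralizer_iff.2 fun v hv => ?_⟩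
    have hv' : g⁻¹ * v * g ∈ N := by
      have := k.pb.Nn g⁻¹ (inv_mem hg) v hv
      rwa [inv_inv] at this
    have h1 := mem_centralizer_iff.1 hxc _ hv'
    show v * (g * x * g⁻¹) = g * x * g⁻¹ * v
    calc v * (g * x * g⁻¹) = g * ((g⁻¹ * v * g) * x) * g⁻¹ := by group
      _ = g * (x * (g⁻¹ * v * g)) * g⁻¹ := by rw [h1]
      _ = _ := by group
  · intro x hx hm v hv hv'
    exact k.dir' hx ((k.mv_iff h hx).1 hm) hv (k.WN hv')
  · obtain ⟨x, hx, hm⟩ := k.pb.mv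
    exact ⟨x, hx, (k.mv_iff h hx).2 hm⟩
  · intro y hy hy1 y' hy' hy1'
    have hN0 : ∀ w ∈ W l, w ≠ 1 → w ∉ N0 := fun w hw hw1 hwN => hw1 (by
      have h4 : w ∈ W l ⊓ N0 := ⟨hw, hwN⟩
      rwa [k.WN0, mem_bot] at h4)
    obtain ⟨g, hg, hgB, hgN⟩ := k.pb.tor y (k.WN hy) (hN0 y hy hy1) y' (k.WN hy') (hN0 y' hy' hy1')
    refine ⟨g, hg, hgB, ?_⟩
    have hgy : g * y * g⁻¹ ∈ W l := by
      have h1 : g * y * g⁻¹ ∈ (⁅N, K⁆ : Subgroup G) := (mem_normalizer_iff.1 (k.pb.LV hg) y).1 (k.W_le h hy)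
      have h2 : g * y * g⁻¹ ∈ X := by
        have h3 : ChoiceBase.cj g X = X := by rw [← h.zB, ← zc_cj', cj_eq_of_mem_normalizer hgB]
        rw [← h3]
        exact cj_mem (h.WX l hy)
      rw [← k.inf_X h]
      exact ⟨h1, h2⟩
    by_contra hne
    exact hN0 _ (mul_mem hgy (inv_mem hy')) (fun e => hne (mul_inv_eq_one.1 e)) hgN

end BK

end Cfsg.Agent.Omega.OM.Lev.Low.TorusK

end

section


/-!
# TORUS, `k ≥ 3` (helper607 #23961): the family of blocks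

* `NA B K N` : `B` normalises `[N, K]`, and `B` acts on `N` by conjugation on the image of `K`;
* `NA.cj`, `NA.lines`;
* `Fam` : blocks `K i` over all lines `W i`, with (chi);
* `exists_fam` : a block gives a family (`Chi.Inp.eq`).
-/

set_option autoImplicit false
set_option linter.unusedSectionVars false

namespace Cfsg.Agent.Omega.OM.Lev.Low.TorusK

open Subgroup Cfsg Cfsg.Agent.ZN Cfsg.Agent.ZN.ChoiceBase
open Cfsg.Agent.Omega.SQ1.Bau (mem_sup_comm card_sup_comm elem_comm elem_sq)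
open Cfsg.Agent.Omega.NO3S.Level.Claim (Fm Bl cB mem_cB cB_le)
open Cfsg.Agent.Omega.OM.Lev.Uni (FrL)
open Cfsg.Agent.Omega.OM.Lev.Low.TorusK.PBC

universe u

variable {G : Type u} [Group G]

/-- `B` normalises the module and permutes the action. -/
structure NA (B K N : Subgroup G) : Prop where
  nF : B ≤ normalizer ((⁅N, K⁆ : Subgroup G) : Set G)
  act : ∀ b ∈ B, ∀ k ∈ K, ∃ k' ∈ K, ∀ v ∈ N, b * k * b⁻¹ * v * (b * k * b⁻¹)⁻¹ = k' * v * k'⁻¹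

theorem NA.cj {B K N : Subgroup G} (a : NA B K N) {s : G} (hs : s ∈ normalizer (B : Set G)) :
    NA B (ChoiceBase.cj s K) (ChoiceBase.cj s N) where
  nF := by
    rw [comm_cjj]
    intro b hb
    rw [mem_normalizer_iff_cj]
    have hb' : s⁻¹ * b * s ∈ B := by
      have := (mem_normalizer_iff.1 (inv_mem hs) b).1 hb
      simpa using this
    have h2 := cj_eq_of_mem_normalizer (a.nF hb')
    rw [cj_cj, show b * s = s * (s⁻¹ * b * s) by group, ← cj_cj, h2]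
  act := by
    intro b hb k hk0
    obtain ⟨k, hk, rfl⟩ := ex_cj hk0
    have hb' : s⁻¹ * b * s ∈ B := by
      have := (mem_normalizer_iff.1 (inv_mem hs) b).1 hb
      simpa using this
    obtain ⟨k', hk', h1⟩ := a.act _ hb' k hk
    refine ⟨s * k' * s⁻¹, cj_mem hk', ?_⟩
    intro v hv0
    obtain ⟨v, hv, rfl⟩ := ex_cj hv0
    have h2 := h1 v hv
    calc b * (s * k * s⁻¹) * b⁻¹ * (s * v * s⁻¹) * (b * (s * k * s⁻¹) * b⁻¹)⁻¹
        = s * (s⁻¹ * b * s * k * (s⁻¹ * b * s)⁻¹ * v * (s⁻¹ * b * s * k * (s⁻¹ * b * s)⁻¹)⁻¹) * s⁻¹ := by group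
      _ = s * (k' * v * k'⁻¹) * s⁻¹ := by rw [h2]
      _ = s * k' * s⁻¹ * (s * v * s⁻¹) * (s * k' * s⁻¹)⁻¹ := by group

variable {ι : Type} {S B Q V Xn ZJ B0 X M0 Y0 : Subgroup G} {L W Z C A : ι → Subgroup G} {z : G}
  {l : ι} {K N N1 N0 : Subgroup G}

/-- `B` permutes the lines. -/
theorem NA.lines [Finite G] (h : TK S B Q V Xn ZJ B0 X M0 Y0 L W Z C A z) (k : BK B B0 X M0 Y0 W l K N N1 N0)
    (a : NA B K N) : ∀ b ∈ B, ∀ g ∈ K, ∃ g' ∈ K, ChoiceBase.cj b (ChoiceBase.cj g (W l)) = ChoiceBase.cj g' (W l) := by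
  intro b hb g hg
  obtain ⟨g', hg', h1⟩ := a.act b hb g hg
  refine ⟨g', hg', ?_⟩
  have h2 : ∀ w ∈ W l, w ∈ N := fun w hw => k.pb.N1N (k.WN hw)
  have h3 : ChoiceBase.cj (b * g * b⁻¹) (W l) = ChoiceBase.cj g' (W l) := by
    ext x
    constructor
    · intro hx
      obtain ⟨w, hw, rfl⟩ := ex_cj hx
      rw [h1 w (h2 w hw)]
      exact cj_mem hw
    · intro hx
      obtain ⟨w, hw, rfl⟩ := ex_cj hx
      rw [← h1 w (h2 w hw)]
      exact cj_mem hw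
  rw [← h3, cj_cj]
  conv_rhs => rw [← h.BW hb l, cj_cj]
  congr 1
  group

/-- `K` is transitive on the non-trivial elements of the module. -/
theorem BK.tr [Finite G] [Finite ι] (h : TK S B Q V Xn ZJ B0 X M0 Y0 L W Z C A z)
    (k : BK B B0 X M0 Y0 W l K N N1 N0) {zl : G} (hz : zl ∈ W l) (hz1 : zl ≠ 1) :
    ∀ v ∈ (⁅N, K⁆ : Subgroup G), v ≠ 1 → ∃ e ∈ K, e * zl * e⁻¹ = v := by
  intro v hv hv1
  have n4 := k.n4 h
  have m4 := (SigN4.toSig n4).toM4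
  by_cases hvW : v ∈ W l
  · obtain ⟨e, he, -, h1⟩ := n4.tor zl hz hz1 v hvW hv1
    exact ⟨e, he, h1⟩
  · obtain ⟨x, hx, hm⟩ := n4.mv
    have hne : ChoiceBase.cj x (W l) ≠ W l := by
      intro e
      obtain ⟨w, hw, hw'⟩ := hm
      exact hw' (e ▸ cj_mem hw)
    obtain ⟨p, hp, q, hq, e1⟩ := m4.compl hx hne hv
    have hqn : q ∉ W l := by
      intro h1
      exact hvW (e1 ▸ mul_mem hp h1)
    have hqV : q ∈ (⁅N, K⁆ : Subgroup G) := m4.lineV hx hq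
    obtain ⟨b, hb, e2⟩ := m4.full hqV hqn hp
    obtain ⟨q0, hq0, e3⟩ := ex_cj hq
    have hq01 : q0 ≠ 1 := by
      rintro rfl
      apply hqn
      rw [e3]
      simp
    obtain ⟨e, he, -, e4⟩ := n4.tor zl hz hz1 q0 hq0 hq01
    refine ⟨b * x * e, mul_mem (mul_mem (n4.BK hb) hx) he, ?_⟩
    have e5 : b * x * e * zl * (b * x * e)⁻¹ = b * (x * (e * zl * e⁻¹) * x⁻¹) * b⁻¹ := by group
    rw [e5, e4, ← e3, e1, ← e2]
    rfl

/-- **(chi)**: two blocks over the same line have the same module. -/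
theorem BK.chi [Finite G] [Finite ι] (h : TK S B Q V Xn ZJ B0 X M0 Y0 L W Z C A z)
    (k : BK B B0 X M0 Y0 W l K N N1 N0) (a : NA B K N) {K' N' N1' N0' : Subgroup G}
    (k' : BK B B0 X M0 Y0 W l K' N' N1' N0') (a' : NA B K' N') : ⁅N', K'⁆ = ⁅N, K⁆ := by
  obtain ⟨zl, hzl, zo, hzo, -, ez⟩ := h.fr.split_ZJ l h.zJ
  have hzl1 : zl ≠ 1 := fun e => h.zC l (by rw [ez, e, one_mul]; exact hzo)
  have hFX : ∀ x ∈ (⁅N, K⁆ : Subgroup G), ∀ y ∈ X, x * y = y * x := fun x hx y hy => h.cX (k.VB0 hx) hy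
  have hFF : ∀ x ∈ (⁅N, K⁆ : Subgroup G), ∀ y ∈ (⁅N, K⁆ : Subgroup G), x * y = y * x := fun x hx y hy =>
    k.pb.comm (k.pb.VN hx) (k.pb.VN hy)
  have hzoJ : zo ∈ ZJ := by
    have : zo = zl⁻¹ * z := by rw [ez]; group
    rw [this]
    exact mul_mem (inv_mem (h.fr.Z_le l hzl)) h.zJ
  have hcen : ∀ {K' N' N1' N0' : Subgroup G}, BK B B0 X M0 Y0 W l K' N' N1' N0' → ∀ e ∈ K', e * zo = zo * e := by
    intro K' N' N1' N0' k' e he
    have h1 : zo ∈ centralizer (K' : Set G) := h.mem_of_C (l := l) (fun p hp => (h.ZW p).trans fun w hw =>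
      mem_centralizer_iff.2 fun g hg => k'.cW p hp w hw g hg) hzoJ hzo
    exact mem_centralizer_iff.1 h1 e he
  have hzlW : zl ∈ W l := h.ZW l hzl
  have inp : Chi.Inp B X (X ⊓ centralizer (K : Set G)) ⁅N, K⁆ ⁅N', K'⁆ (W l) K K' zl zo :=
    { ab := by
        intro x hx y hy
        obtain ⟨x1, hx1, x2, hx2, rfl⟩ := mem_sup_comm hFX hx
        obtain ⟨y1, hy1, y2, hy2, rfl⟩ := mem_sup_comm hFX hy
        have c1 : Commute x1 y1 := hFF x1 hx1 y1 hy1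
        have c2 : Commute x1 y2 := hFX x1 hx1 y2 hy2
        have c3 : Commute x2 y1 := (hFX y1 hy1 x2 hx2).symm
        have c4 : Commute x2 y2 := h.Xc hx2 hy2
        exact ((c1.mul_right c2).mul_left (c3.mul_right c4))
      le := (uni' h k k').1
      FX := (k.inf_X h).le
      FX' := (k'.inf_X h).le
      cF := k.W_le h
      cF' := k'.W_le h
      dec := by
        intro x hx
        obtain ⟨w, hw, c, hc, hcK, rfl⟩ := k.splitX h hx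
        exact mul_mem (mem_sup_left hw) (mem_sup_right (mem_inf.2 ⟨hc, mem_centralizer_iff.2 hcK⟩))
      XkX := inf_le_left
      cXk := by
        rw [eq_bot_iff]
        rintro x ⟨hx, -, hx2⟩
        rw [mem_bot]
        exact k.W_cen hx (mem_centralizer_iff.1 hx2)
      card := by rw [k.card16 h, k'.card16 h]
      pB := h.twoB
      FB := k.VB0.trans h.B0B
      nF := a.nF
      nF' := a'.nF
      nXk := k.BX
      tr := k.tr h hzlW hzl1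
      tr' := k'.tr h hzlW hzl1
      Kz := hcen k
      Kz' := hcen k'
      KX := fun e he x hx => mem_centralizer_iff.1 hx.2 e he
      zoX := mem_sup_right (h.ZJX hzoJ)
      no_shift := by
        intro x hx hxB g hg
        refine h.no_shift h.zJ h.zC (h.mem_ZJ_of hx.1 hxB) (g := g) ?_
        rw [ez]
        exact hg }
  exact inp.eq

/-- The family of blocks. -/
structure Fam (S B B0 X M0 Y0 : Subgroup G) (W K N N1 N0 : ι → Subgroup G) : Prop where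
  bk : ∀ i, BK B B0 X M0 Y0 W i (K i) (N i) (N1 i) (N0 i)
  na : ∀ i, NA B (K i) (N i)
  chi : ∀ s ∈ S, ∀ i j, ChoiceBase.cj s (W i) = W j → ChoiceBase.cj s ⁅N i, K i⁆ = ⁅N j, K j⁆
  conj : ∀ i j, ∃ s ∈ S, ChoiceBase.cj s (W i) = W j ∧ ChoiceBase.cj s (K i) = K j

/-- **The family.** -/
theorem exists_fam [Finite G] [Finite ι] (h : TK S B Q V Xn ZJ B0 X M0 Y0 L W Z C A z)
    (k : BK B B0 X M0 Y0 W l K N N1 N0) (a : NA B K N) :
    ∃ K N N1 N0 : ι → Subgroup G, Fam S B B0 X M0 Y0 W K N N1 N0 := by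
  choose s hs e using h.tr l
  have hb : ∀ i, BK B B0 X M0 Y0 W i (ChoiceBase.cj (s i) K) (ChoiceBase.cj (s i) N) (ChoiceBase.cj (s i) N1)
      (ChoiceBase.cj (s i) N0) := fun i => BK.cj h k (hs i) (e i)
  have ha : ∀ i, NA B (ChoiceBase.cj (s i) K) (ChoiceBase.cj (s i) N) := fun i => a.cj (h.SB (hs i))
  refine ⟨fun i => ChoiceBase.cj (s i) K, fun i => ChoiceBase.cj (s i) N, fun i => ChoiceBase.cj (s i) N1,
    fun i => ChoiceBase.cj (s i) N0, hb, ha, fun t ht i j hij => ?_, fun i j => ?_⟩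
  · rw [← comm_cjj]
    exact BK.chi h (hb j) (ha j) (BK.cj h (hb i) ht hij) ((ha i).cj (h.SB ht))
  · refine ⟨s j * (s i)⁻¹, mul_mem (hs j) (inv_mem (hs i)), ?_, ?_⟩
    · rw [← e i, cj_cj, inv_mul_cancel_right, e j]
    · rw [cj_cj, inv_mul_cancel_right]

end Cfsg.Agent.Omega.OM.Lev.Low.TorusK

end

section


/-!
# TORUS, `k ≥ 3` (helper607 #23961): (theta)

`K i` one torus block over each line `W i`; `W* = X ∏ [N i, K i]` is abelian and normalised by all `K i`.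

* `TD` : the data;
* `TD.S_norm` : `S` normalises `W*`;
* `transK` : `K l` is transitive on `[N l, K l] #`;
* `TD.theta` : **for every `m` there is `R ≤ K m`, normalised by `K m`, with `K m ≤ R B₀`, which centralises `[N l, K l]`,
  `l ≠ m`.**
-/

set_option autoImplicit false
set_option linter.unusedSectionVars false

namespace Cfsg.Agent.Omega.OM.Lev.Low.TorusK

open Subgroup Cfsg Cfsg.Agent.ZN Cfsg.Agent.ZN.ChoiceBase
open Cfsg.Agent.PLocal.ThompsonJ (isElementaryAbelian_iff)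
open Cfsg.Agent.Omega.SQ1.Bau (mem_sup_comm card_sup_comm elem_comm elem_sq)
open Cfsg.Agent.Omega.NO3S.Level.Claim (Fm Bl cB mem_cB cB_le)
open Cfsg.Agent.Omega.NO3S.ThmB (Fr DM)
open Cfsg.Agent.Omega.OM.Lev.Uni (FrL)
open Cfsg.Agent.Omega.OM.Lev.Low.TorusK.PBC
open scoped commutatorElement

universe u

variable {G : Type u} [Group G]

/-- The data of (theta). -/
structure TD {ι : Type} (S B Q V Xn ZJ B0 X M0 Y0 : Subgroup G) (L W Z C A : ι → Subgroup G) (z : G)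
    (K N N1 N0 : ι → Subgroup G) : Prop where
  tk : TK S B Q V Xn ZJ B0 X M0 Y0 L W Z C A z
  bk : ∀ i, BK B B0 X M0 Y0 W i (K i) (N i) (N1 i) (N0 i)
  loc : ∀ i, K i ≤ normalizer ((X ⊔ ⨆ j, ⁅N j, K j⁆ : Subgroup G) : Set G)
  comm : ∀ i j, i ≠ j → ∀ u ∈ (⁅N i, K i⁆ : Subgroup G), ∀ v ∈ (⁅N j, K j⁆ : Subgroup G), u * v = v * u

/-- `R ⊔ B = R B` -/
theorem mem_sup_nrm {R B : Subgroup G} (hB : B ≤ normalizer (R : Set G)) {g : G} (hg : g ∈ R ⊔ B) :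
    ∃ r ∈ R, ∃ b ∈ B, g = r * b := by
  let T : Subgroup G :=
    { carrier := {g | ∃ r ∈ R, ∃ b ∈ B, g = r * b}
      one_mem' := ⟨1, one_mem _, 1, one_mem _, (one_mul 1).symm⟩
      mul_mem' := by
        rintro _ _ ⟨p, hp, q, hq, rfl⟩ ⟨p', hp', q', hq', rfl⟩
        refine ⟨p * (q * p' * q⁻¹), mul_mem hp ((mem_normalizer_iff.1 (hB hq) p').1 hp'), q * q', mul_mem hq hq', ?_⟩
        group
      inv_mem' := by
        rintro _ ⟨p, hp, q, hq, rfl⟩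
        refine ⟨q⁻¹ * p⁻¹ * q⁻¹⁻¹, (mem_normalizer_iff.1 (hB (inv_mem hq)) p⁻¹).1 (inv_mem hp), q⁻¹, inv_mem hq, ?_⟩
        group }
  have h1 : R ⊔ B ≤ T := sup_le (fun p hp => ⟨p, hp, 1, one_mem _, (mul_one p).symm⟩)
    fun q hq => ⟨1, one_mem _, q, hq, (one_mul q).symm⟩
  exact h1 hg

/-- `K` is transitive on `V #`. -/
theorem transK [Finite G] {B0 K V V1 : Subgroup G} (h : N4 B0 K V V1) {w y : G} (hw : w ∈ V) (hw1 : w ≠ 1)
    (hy : y ∈ V1) (hy1 : y ≠ 1) : ∃ e ∈ K, e * w * e⁻¹ = y := by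
  have m4 := (SigN4.toSig h).toM4
  by_cases hwV : w ∈ V1
  · obtain ⟨e, he, -, h1⟩ := h.tor w hwV hw1 y hy hy1
    exact ⟨e, he, h1⟩
  obtain ⟨x, hx, v, hv, hv'⟩ := h.mv
  have hne : cj x V1 ≠ V1 := fun e => hv' (by
    have : x * v * x⁻¹ ∈ cj x V1 := ⟨v, hv, rfl⟩
    rwa [e] at this)
  obtain ⟨p, hp, q, hq, rfl⟩ := m4.compl hx hne hw
  have hqV : q ∈ V := m4.lineV hx hq
  have hq1 : q ∉ V1 := fun h1 => hwV (mul_mem hp h1)
  obtain ⟨b, hb, e1⟩ := m4.full hqV hq1 hp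
  have e1' : b * q * b⁻¹ = p * q := e1
  obtain ⟨w', hw', rfl⟩ := hq
  have hw'1 : w' ≠ 1 := by
    rintro rfl
    exact hq1 (by rw [map_one]; exact one_mem _)
  obtain ⟨e, he, -, h1⟩ := h.tor w' hw' hw'1 y hy hy1
  refine ⟨e * x⁻¹ * b⁻¹, mul_mem (mul_mem he (inv_mem hx)) (inv_mem (h.BK hb)), ?_⟩
  rw [← e1']
  change e * x⁻¹ * b⁻¹ * (b * (x * w' * x⁻¹) * b⁻¹) * (e * x⁻¹ * b⁻¹)⁻¹ = y
  rw [← h1]
  group

namespace TD

variable {ι : Type} {S B Q V Xn ZJ B0 X M0 Y0 : Subgroup G} {L W Z C A : ι → Subgroup G} {z : G}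
  {K N N1 N0 : ι → Subgroup G} (h : TD S B Q V Xn ZJ B0 X M0 Y0 L W Z C A z K N N1 N0)

include h

theorem FW (i : ι) : ⁅N i, K i⁆ ≤ (X ⊔ ⨆ j, ⁅N j, K j⁆ : Subgroup G) :=
  le_trans (le_iSup (fun j => ⁅N j, K j⁆) i) le_sup_right

theorem WB0 [Finite G] : (X ⊔ ⨆ j, ⁅N j, K j⁆ : Subgroup G) ≤ B0 :=
  sup_le h.tk.XB0 (iSup_le fun i => (h.bk i).VB0)

theorem WY0 [Finite G] : (X ⊔ ⨆ j, ⁅N j, K j⁆ : Subgroup G) ≤ Y0 :=
  sup_le h.tk.XY (iSup_le fun i => (h.bk i).VY0)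

theorem ab [Finite G] {x y : G} (hx : x ∈ (X ⊔ ⨆ j, ⁅N j, K j⁆ : Subgroup G))
    (hy : y ∈ (X ⊔ ⨆ j, ⁅N j, K j⁆ : Subgroup G)) : x * y = y * x := by
  have c1 : ∀ i, (⁅N i, K i⁆ : Subgroup G) ≤ centralizer (X : Set G) := fun i v hv =>
    mem_centralizer_iff.2 fun x hx => (h.tk.cX ((h.bk i).VB0 hv) hx).symm
  have c2 : X ≤ centralizer (X : Set G) := fun v hv => mem_centralizer_iff.2 fun x hx => h.tk.Xc hx hv
  have c3 : ∀ i, (X ⊔ ⨆ j, ⁅N j, K j⁆ : Subgroup G) ≤ centralizer ((⁅N i, K i⁆ : Subgroup G) : Set G) := by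
    intro i
    refine sup_le (le_centralizer_iff.1 (c1 i)) (iSup_le fun j => ?_)
    by_cases e : i = j
    · subst e
      exact fun v hv => mem_centralizer_iff.2 fun x hx =>
        (h.bk i).pb.comm ((h.bk i).pb.VN hx) ((h.bk i).pb.VN hv)
    · exact fun v hv => mem_centralizer_iff.2 fun x hx => h.comm i j e x hx v hv
  have c4 : (X ⊔ ⨆ j, ⁅N j, K j⁆ : Subgroup G) ≤
      centralizer ((X ⊔ ⨆ j, ⁅N j, K j⁆ : Subgroup G) : Set G) := by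
    rw [le_centralizer_iff]
    refine sup_le ?_ (iSup_le fun i => le_centralizer_iff.1 (c3 i))
    exact le_centralizer_iff.1 (sup_le c2 (iSup_le c1))
  exact (mem_centralizer_iff.1 (c4 hx) y hy).symm

theorem el [Finite G] : IsElementaryAbelian 2 (X ⊔ ⨆ j, ⁅N j, K j⁆ : Subgroup G) := by
  refine isElementaryAbelian_iff.2 ⟨fun x hx y hy => h.ab hx hy, ?_⟩
  let T : Subgroup G :=
    { carrier := {x | x ∈ (X ⊔ ⨆ j, ⁅N j, K j⁆ : Subgroup G) ∧ x ^ 2 = 1}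
      one_mem' := ⟨one_mem _, one_pow 2⟩
      mul_mem' := by
        rintro a b ⟨ha, ha'⟩ ⟨hb, hb'⟩
        have hc : Commute a b := h.ab ha hb
        exact ⟨mul_mem ha hb, by rw [hc.mul_pow, ha', hb', one_mul]⟩
      inv_mem' := by
        rintro a ⟨ha, ha'⟩
        exact ⟨inv_mem ha, by rw [inv_pow, ha', inv_one]⟩ }
  have hT : (X ⊔ ⨆ j, ⁅N j, K j⁆ : Subgroup G) ≤ T := by
    refine sup_le (fun x hx => ⟨mem_sup_left hx, elem_sq h.tk.elX x hx⟩) (iSup_le fun i x hx => ⟨h.FW i hx, ?_⟩)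
    exact elem_sq (h.bk i).pb.el x ((h.bk i).pb.VN hx)
  exact fun x hx => (hT hx).2

/-- `S` normalises `W*`. -/
theorem S_norm [Finite G] [Finite ι] : S ≤ normalizer ((X ⊔ ⨆ j, ⁅N j, K j⁆ : Subgroup G) : Set G) := by
  intro s hs
  refine mem_normalizer_of_cj_le ?_
  rw [cj_le_iff]
  refine sup_le ?_ (iSup_le fun i => ?_)
  · rw [← cj_le_iff, cj_eq_of_mem_normalizer (h.tk.SX hs)]
    exact le_sup_left
  · rw [← cj_le_iff]
    obtain ⟨j, hj, -, -⟩ := h.tk.perm s hs i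
    have k' := (h.bk i).cj h.tk hs hj
    have h1 := (uni' h.tk (h.bk j) k').1
    rw [comm_cjj] at h1
    exact h1.trans (sup_le (h.FW j) le_sup_left)

theorem W_bot (i l : ι) (hil : l ≠ i) : W i ⊓ W l = ⊥ := by
  rw [eq_bot_iff, ← h.tk.fr.dir i]
  exact inf_le_inf_left _ (h.tk.fr.WjC i l (Ne.symm hil))

theorem norm_X {g : G} (hgB : g ∈ normalizer (B0 : Set G)) {x : G} (hx : x ∈ X) : g * x * g⁻¹ ∈ X := by
  have h3 : ChoiceBase.cj g X = X := by rw [← h.tk.zB, ← zc_cj', cj_eq_of_mem_normalizer hgB]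
  rw [← h3]
  exact cj_mem hx

theorem norm_W [Finite G] [Finite ι] {i : ι} {g : G} (hg : g ∈ K i) (hgB : g ∈ normalizer (B0 : Set G)) {x : G}
    (hx : x ∈ W i) : g * x * g⁻¹ ∈ W i := by
  rw [← (h.bk i).inf_X h.tk]
  exact ⟨(mem_normalizer_iff.1 ((h.bk i).pb.LV hg) x).1 ((h.bk i).W_le h.tk hx), h.norm_X hgB (h.tk.WX i hx)⟩

/-- `[F l, B₀] ≤ W l` -/
theorem quad [Finite G] [Finite ι] (l : ι) {b : G} (hb : b ∈ B0) {v : G} (hv : v ∈ (⁅N l, K l⁆ : Subgroup G)) :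
    b * v * b⁻¹ * v⁻¹ ∈ W l := ((h.bk l).n4 h.tk).quad b hb v hv

end TD

/-- One block `i` with a small offender `D0` which moves `[N i, K i]`. -/
structure TD1 {ι : Type} (S B Q V Xn ZJ B0 X M0 Y0 : Subgroup G) (L W Z C A : ι → Subgroup G) (z : G)
    (K N N1 N0 : ι → Subgroup G) (WW H : Subgroup G) (AA : Set (Subgroup G)) (i : ι) (D0 : Subgroup G) : Prop where
  td : TD S B Q V Xn ZJ B0 X M0 Y0 L W Z C A z K N N1 N0
  eW : WW = X ⊔ ⨆ j, ⁅N j, K j⁆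
  fm : Fm S WW H B0 X AA
  bl : Bl S WW H B0 X AA (K i) ⁅N i, K i⁆
  fr : Fr (⁅N i, K i⁆ : Subgroup G) (DM WW AA) D0

namespace TD1

variable {ι : Type} {S B Q V Xn ZJ B0 X M0 Y0 : Subgroup G} {L W Z C A : ι → Subgroup G} {z : G}
  {K N N1 N0 : ι → Subgroup G} {WW H : Subgroup G} {AA : Set (Subgroup G)} {i : ι} {D0 : Subgroup G}
  (h : TD1 S B Q V Xn ZJ B0 X M0 Y0 L W Z C A z K N N1 N0 WW H AA i D0)

include h

theorem D0B : D0 ≤ B0 := h.fm.le D0 h.fr.1.1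

/-- `[WW, D₀] ≤ W i` -/
theorem comm_W [Finite G] [Finite ι] {u a : G} (hu : u ∈ WW) (ha : a ∈ D0) : a * u * a⁻¹ * u⁻¹ ∈ W i := by
  rw [← (h.td.bk i).inf_X h.td.tk]
  exact comm_U h.fm h.bl h.fr hu ha

/-- `R = ⟨D₀^(K i)⟩` -/
def Rg (K : ι → Subgroup G) (i : ι) (D0 : Subgroup G) : Subgroup G := ⨆ x : K i, ChoiceBase.cj (x : G) D0

omit h in
theorem le_Rg {x : G} (hx : x ∈ K i) : ChoiceBase.cj x D0 ≤ Rg K i D0 :=
  le_iSup (fun x : K i => ChoiceBase.cj (x : G) D0) ⟨x, hx⟩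

omit h in
theorem D0_le_Rg : D0 ≤ Rg K i D0 := by
  have h1 := le_Rg (K := K) (i := i) (D0 := D0) (one_mem (K i))
  rwa [cj_one] at h1

theorem Rg_le [Finite G] : Rg K i D0 ≤ K i := by
  refine iSup_le fun x => ?_
  have h1 := cj_mono (x : G) (h.D0B.trans h.bl.BL)
  rwa [cj_eq_of_mem_normalizer (le_normalizer x.2)] at h1

omit h in
theorem Rg_norm [Finite G] : K i ≤ normalizer (Rg K i D0 : Set G) := by
  have key : ∀ g ∈ K i, ChoiceBase.cj g (Rg K i D0) ≤ Rg K i D0 := by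
    intro g hg
    rw [cj_le_iff]
    refine iSup_le fun x => ?_
    rw [← cj_le_iff, cj_cj]
    exact le_Rg (mul_mem hg x.2)
  exact fun g hg => mem_normalizer_of_cj_le (key g hg)

theorem K_le [Finite G] : K i ≤ Rg K i D0 ⊔ B0 :=
  le_of h.fm h.bl h.fr le_sup_right fun _ hx => (le_Rg hx).trans le_sup_left

/-- `[WW, R] ≤ F i` -/
theorem comm_R [Finite G] {g : G} (hg : g ∈ Rg K i D0) {u : G} (hu : u ∈ WW) :
    g * u * g⁻¹ * u⁻¹ ∈ (⁅N i, K i⁆ : Subgroup G) := by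
  let T : Subgroup G :=
    { carrier := {g | g ∈ K i ∧ ∀ u ∈ WW, g * u * g⁻¹ * u⁻¹ ∈ (⁅N i, K i⁆ : Subgroup G)}
      one_mem' := ⟨one_mem _, fun u _ => by simp⟩
      mul_mem' := by
        rintro a b ⟨ha, ha'⟩ ⟨hb, hb'⟩
        refine ⟨mul_mem ha hb, fun u hu => ?_⟩
        have hbu : b * u * b⁻¹ ∈ WW := (mem_normalizer_iff.1 (h.bl.LY hb) u).1 hu
        have e : a * b * u * (a * b)⁻¹ * u⁻¹ = (a * (b * u * b⁻¹) * a⁻¹ * (b * u * b⁻¹)⁻¹) * (b * u * b⁻¹ * u⁻¹) := by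
          group
        rw [e]
        exact mul_mem (ha' _ hbu) (hb' u hu)
      inv_mem' := by
        rintro a ⟨ha, ha'⟩
        refine ⟨inv_mem ha, fun u hu => ?_⟩
        have hau : a⁻¹ * u * a ∈ WW := by
          have := (mem_normalizer_iff.1 (h.bl.LY (inv_mem ha)) u).1 hu
          rwa [inv_inv] at this
        have h1 := inv_mem (ha' _ hau)
        have e : (a * (a⁻¹ * u * a) * a⁻¹ * (a⁻¹ * u * a)⁻¹)⁻¹ = a⁻¹ * u * a⁻¹⁻¹ * u⁻¹ := by group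
        rwa [e] at h1 }
  have hT : Rg K i D0 ≤ T := by
    refine iSup_le fun x => ?_
    rintro _ ⟨a, ha, rfl⟩
    refine ⟨mul_mem (mul_mem x.2 (h.bl.BL (h.D0B ha))) (inv_mem x.2), fun u hu => ?_⟩
    have hu' : (x : G)⁻¹ * u * x ∈ WW := by
      have := (mem_normalizer_iff.1 (h.bl.LY (inv_mem x.2)) u).1 hu
      rwa [inv_inv] at this
    have h1 := (comm_U h.fm h.bl h.fr hu' ha).1
    have h2 := (mem_normalizer_iff.1 (h.bl.LV x.2) _).1 h1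
    have e : (x : G) * (a * ((x : G)⁻¹ * u * x) * a⁻¹ * ((x : G)⁻¹ * u * x)⁻¹) * (x : G)⁻¹ =
        x * a * (x : G)⁻¹ * u * (x * a * (x : G)⁻¹)⁻¹ * u⁻¹ := by group
    rw [e] at h2
    exact h2
  exact (hT hg).2 u hu

/-- an element of `C_B₀(F i) ∩ R` centralises `WW` -/
theorem cen_R [Finite G] [Finite ι] {p : G} (hp : p ∈ cB B0 ⁅N i, K i⁆) (hpR : p ∈ Rg K i D0) :
    p ∈ centralizer (WW : Set G) := by
  have hpB : p ∈ B0 := cB_le _ _ hp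
  have h1 : WW ≤ centralizer ({p} : Set G) := by
    rw [h.eW]
    refine sup_le ?_ (iSup_le fun l => ?_)
    · intro x hx
      exact mem_centralizer_singleton_iff.2 (h.td.tk.cX hpB hx).symm
    · intro u hu
      rw [mem_centralizer_singleton_iff]
      by_cases hl : l = i
      · subst hl
        exact ((mem_cB.1 hp).2 u hu).symm
      · have hu' : u ∈ WW := by rw [h.eW]; exact h.td.FW l hu
        have h2 := h.comm_R hpR hu'
        have h3 := h.td.quad l hpB hu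
        have h4 : p * u * p⁻¹ * u⁻¹ ∈ W i ⊓ W l := by
          refine mem_inf.2 ⟨?_, h3⟩
          rw [← (h.td.bk i).inf_X h.td.tk]
          exact mem_inf.2 ⟨h2, h.td.tk.WX l h3⟩
        rw [h.td.W_bot i l hl, mem_bot, mul_inv_eq_one, mul_inv_eq_iff_eq_mul] at h4
        exact h4.symm
  rw [mem_centralizer_iff]
  intro u hu
  exact mem_centralizer_singleton_iff.1 (h1 hu)

/-- every element of `WW` is `v n`, `v ∈ F i`, `n` centralised by `D₀` and `D₀^x`. -/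
theorem split [Finite G] [Finite ι] {x : G} (hx : x ∈ K i) (hne : ChoiceBase.cj x (W i) ≠ W i) {c : G} (hc : c ∈ WW) :
    ∃ v ∈ (⁅N i, K i⁆ : Subgroup G), ∃ n ∈ WW, (∀ a ∈ D0, a * n = n * a) ∧
      (∀ a ∈ D0, x * a * x⁻¹ * n = n * (x * a * x⁻¹)) ∧ c = v * n := by
  have n4 := (h.td.bk i).n4 h.td.tk
  have m4 := (SigN4.toSig n4).toM4
  obtain ⟨v1, hv1, c1, hc1, hA1, rfl⟩ := full h.fm h.bl h.fr hc
  have hc1' : x⁻¹ * c1 * x ∈ WW := by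
    have := (mem_normalizer_iff.1 (h.bl.LY (inv_mem hx)) c1).1 hc1
    rwa [inv_inv] at this
  obtain ⟨v2, hv2, c2, hc2, hA2, e2⟩ := full h.fm h.bl h.fr hc1'
  have hv2' : x * v2 * x⁻¹ ∈ (⁅N i, K i⁆ : Subgroup G) := (mem_normalizer_iff.1 (h.bl.LV hx) v2).1 hv2
  obtain ⟨p, hp, q, hq, e3⟩ := m4.compl hx hne hv2'
  obtain ⟨w, hw, rfl⟩ := hq
  have hpV : p ∈ (⁅N i, K i⁆ : Subgroup G) := n4.V1V hp
  have e4 : c1 = p * (x * (w * c2) * x⁻¹) := by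
    have e5 : c1 = x * (x⁻¹ * c1 * x) * x⁻¹ := by group
    rw [e5, e2]
    calc x * (v2 * c2) * x⁻¹ = (x * v2 * x⁻¹) * (x * c2 * x⁻¹) := by group
      _ = p * (x * w * x⁻¹) * (x * c2 * x⁻¹) := by rw [e3]; rfl
      _ = _ := by group
  have hwc : w * c2 ∈ WW := mul_mem (h.bl.VY (n4.V1V hw)) hc2
  refine ⟨v1 * p, mul_mem hv1 hpV, x * (w * c2) * x⁻¹, (mem_normalizer_iff.1 (h.bl.LY hx) _).1 hwc, ?_, ?_, ?_⟩
  · intro a ha
    have h1 : x * (w * c2) * x⁻¹ = p⁻¹ * c1 := by rw [e4]; group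
    rw [h1]
    have c3 : Commute a p := n4.c1 a (h.D0B ha) p hp
    have c4 : Commute a c1 := hA1 a ha
    exact (c3.inv_right.mul_right c4).eq
  · intro a ha
    have c3 : Commute a w := n4.c1 a (h.D0B ha) w hw
    have c4 : Commute a c2 := hA2 a ha
    have c5 := (c3.mul_right c4).eq
    calc x * a * x⁻¹ * (x * (w * c2) * x⁻¹) = x * (a * (w * c2)) * x⁻¹ := by group
      _ = x * (w * c2 * a) * x⁻¹ := by rw [c5]
      _ = _ := by group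
  · rw [mul_assoc, ← e4]

/-- `R ≤ D₀ ⊔ D₀^x ⊔ C_R(WW)` -/
theorem R_le [Finite G] [Finite ι] {x : G} (hx : x ∈ K i) (hm : SQ1.Bau.Mv (W i) x) :
    Rg K i D0 ≤ D0 ⊔ ChoiceBase.cj x D0 ⊔ (Rg K i D0 ⊓ centralizer (WW : Set G)) := by
  have n4 := (h.td.bk i).n4 h.td.tk
  set T : Subgroup G := D0 ⊔ ChoiceBase.cj x D0 ⊔ (Rg K i D0 ⊓ centralizer (WW : Set G)) with hT
  have hC : ∀ g ∈ K i, ∀ y ∈ Rg K i D0 ⊓ centralizer (WW : Set G), g * y * g⁻¹ ∈ Rg K i D0 ⊓ centralizer (WW : Set G) := by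
    rintro g hg y ⟨hy1, hy2⟩
    refine ⟨(mem_normalizer_iff.1 (Rg_norm hg) y).1 hy1, mem_centralizer_iff.2 fun u hu => ?_⟩
    have hu' : g⁻¹ * u * g ∈ WW := by
      have := (mem_normalizer_iff.1 (h.bl.LY (inv_mem hg)) u).1 hu
      rwa [inv_inv] at this
    have h1 := mem_centralizer_iff.1 hy2 _ hu'
    calc u * (g * y * g⁻¹) = g * ((g⁻¹ * u * g) * y) * g⁻¹ := by group
      _ = g * (y * (g⁻¹ * u * g)) * g⁻¹ := by rw [h1]
      _ = _ := by group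
  -- `[D₀, p] ≤ C_R(WW)`
  have hDp : ∀ p ∈ cB B0 (⁅N i, K i⁆ : Subgroup G), ∀ a ∈ D0, p * a * p⁻¹ * a⁻¹ ∈
      Rg K i D0 ⊓ centralizer (WW : Set G) := by
    intro p hp a ha
    have hpK : p ∈ K i := h.bl.BL (cB_le _ _ hp)
    have haK : a ∈ K i := h.bl.BL (h.D0B ha)
    have h1 : p * a * p⁻¹ * a⁻¹ ∈ Rg K i D0 :=
      mul_mem ((mem_normalizer_iff.1 (Rg_norm hpK) a).1 (D0_le_Rg ha)) (inv_mem (D0_le_Rg ha))
    refine mem_inf.2 ⟨h1, h.cen_R ?_ h1⟩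
    have h2 := (mem_normalizer_iff.1 (h.bl.LP haK) _).1 (inv_mem hp)
    have h3 := mul_mem hp h2
    have e : p * (a * p⁻¹ * a⁻¹) = p * a * p⁻¹ * a⁻¹ := by group
    rwa [e] at h3
  have hpT : ∀ p ∈ cB B0 (⁅N i, K i⁆ : Subgroup G), p ∈ normalizer (T : Set G) := by
    intro p hp
    have hpK : p ∈ K i := h.bl.BL (cB_le _ _ hp)
    refine mem_normalizer_of_cj_le ?_
    rw [cj_le_iff, hT]
    refine sup_le (sup_le ?_ ?_) ?_
    · rw [← cj_le_iff]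
      rintro _ ⟨a, ha, rfl⟩
      change p * a * p⁻¹ ∈ _
      have e : p * a * p⁻¹ = p * a * p⁻¹ * a⁻¹ * a := by group
      rw [e]
      exact mul_mem (mem_sup_right (hDp p hp a ha)) (mem_sup_left (mem_sup_left ha))
    · rw [← cj_le_iff]
      rintro _ ⟨_, ⟨a, ha, rfl⟩, rfl⟩
      change p * (x * a * x⁻¹) * p⁻¹ ∈ _
      have hp' : x⁻¹ * p * x ∈ cB B0 (⁅N i, K i⁆ : Subgroup G) := by
        have := (mem_normalizer_iff.1 (h.bl.LP (inv_mem hx)) p).1 hp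
        rwa [inv_inv] at this
      have h1 := hC x hx _ (hDp _ hp' a ha)
      have e : p * (x * a * x⁻¹) * p⁻¹ =
          x * (x⁻¹ * p * x * a * (x⁻¹ * p * x)⁻¹ * a⁻¹) * x⁻¹ * (x * a * x⁻¹) := by group
      rw [e]
      exact mul_mem (mem_sup_right h1) (mem_sup_left (mem_sup_right (cj_mem ha)))
    · rw [← cj_le_iff]
      rintro _ ⟨y, hy, rfl⟩
      exact mem_sup_right (hC p hpK y hy)
  have hKT : K i ≤ normalizer (T : Set G) := by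
    refine n4.gen x hx hm _ ?_ ?_
    · intro b hb
      obtain ⟨a, ha, p, hp, rfl⟩ := dec h.fm h.bl h.fr hb
      exact mul_mem (le_normalizer (mem_sup_left (mem_sup_left ha))) (hpT p hp)
    · intro b hb
      obtain ⟨a, ha, p, hp, rfl⟩ := dec h.fm h.bl h.fr hb
      have e : x * (a * p) * x⁻¹ = (x * a * x⁻¹) * (x * p * x⁻¹) := by group
      rw [e]
      refine mul_mem (le_normalizer (mem_sup_left (mem_sup_right (cj_mem ha)))) (hpT _ ?_)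
      exact (mem_normalizer_iff.1 (h.bl.LP hx) p).1 hp
  refine iSup_le fun g => ?_
  rintro _ ⟨a, ha, rfl⟩
  exact (mem_normalizer_iff.1 (hKT g.2) a).1 (mem_sup_left (mem_sup_left ha))

/-- `WW = F i C_WW(R)` -/
theorem split' [Finite G] [Finite ι] {c : G} (hc : c ∈ WW) :
    ∃ v ∈ (⁅N i, K i⁆ : Subgroup G), ∃ n ∈ WW, (∀ r ∈ Rg K i D0, r * n = n * r) ∧ c = v * n := by
  have n4 := (h.td.bk i).n4 h.td.tk
  obtain ⟨x, hx, hm⟩ := n4.mv
  have hne : ChoiceBase.cj x (W i) ≠ W i := by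
    obtain ⟨v, hv, hv'⟩ := hm
    intro e
    apply hv'
    have : x * v * x⁻¹ ∈ ChoiceBase.cj x (W i) := cj_mem hv
    rwa [e] at this
  obtain ⟨v, hv, n, hn, h1, h2, e⟩ := h.split hx hne hc
  refine ⟨v, hv, n, hn, fun r hr => ?_, e⟩
  have h3 : D0 ⊔ ChoiceBase.cj x D0 ⊔ (Rg K i D0 ⊓ centralizer (WW : Set G)) ≤ centralizer ({n} : Set G) := by
    refine sup_le (sup_le (fun a ha => mem_centralizer_singleton_iff.2 (h1 a ha)) ?_) ?_
    · intro y hy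
      obtain ⟨a, ha, rfl⟩ := ex_cj hy
      exact mem_centralizer_singleton_iff.2 (h2 a ha)
    · rintro y ⟨-, hy⟩
      exact mem_centralizer_singleton_iff.2 (mem_centralizer_iff.1 hy n hn).symm
  exact mem_centralizer_singleton_iff.1 (h3 (h.R_le hx hm hr))

/-- a torus element in `R` -/
theorem tor' [Finite G] [Finite ι] : ∃ t ∈ Rg K i D0, t ∈ normalizer (B0 : Set G) ∧
    ∀ w ∈ W i, t * w * t⁻¹ = w → w = 1 := by
  obtain ⟨g, hg, hgB, -, hf⟩ := (h.td.bk i).tor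
  have hB : B0 ≤ normalizer (Rg K i D0 : Set G) := h.bl.BL.trans Rg_norm
  obtain ⟨r, hr, b, hb, rfl⟩ := mem_sup_nrm hB (h.K_le hg)
  refine ⟨r, hr, ?_, fun w hw e => hf w hw ?_⟩
  · have h1 := mul_mem hgB (inv_mem (le_normalizer hb))
    rwa [mul_inv_cancel_right] at h1
  · have h2 := h.td.tk.cX hb (h.td.tk.WX i hw)
    calc r * b * w * (r * b)⁻¹ = r * (b * w) * b⁻¹ * r⁻¹ := by group
      _ = r * (w * b) * b⁻¹ * r⁻¹ := by rw [h2]
      _ = r * w * r⁻¹ := by group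
      _ = w := e

/-- **The shift**: `w = v n`, `w ∈ F l`, `1 ≠ v ∈ W i`, `n` centralised by `R`: impossible. -/
theorem no_v [Finite G] [Finite ι] {l : ι} (hl : l ≠ i) {w v n : G} (hw : w ∈ (⁅N l, K l⁆ : Subgroup G)) (hw1 : w ≠ 1)
    (hv : v ∈ W i) (hn : ∀ r ∈ Rg K i D0, r * n = n * r) (e : w = v * n) : v = 1 := by
  by_contra hv1
  have tk := h.td.tk
  obtain ⟨t, ht, htB, htf⟩ := h.tor'
  have htK : t ∈ K i := h.Rg_le ht
  -- `t w t⁻¹ = u w`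
  set u : G := t * v * t⁻¹ * v⁻¹ with hu
  have hvt : t * v * t⁻¹ ∈ W i := h.td.norm_W htK htB hv
  have huW : u ∈ W i := mul_mem hvt (inv_mem hv)
  have hu1 : u ≠ 1 := fun h0 => hv1 (htf v hv (mul_inv_eq_one.1 h0))
  have htw : t * w * t⁻¹ = u * w := by
    have h1 := hn t ht
    rw [e, hu]
    calc t * (v * n) * t⁻¹ = t * v * (t⁻¹ * (t * n)) * t⁻¹ := by group
      _ = t * v * (t⁻¹ * (n * t)) * t⁻¹ := by rw [h1]
      _ = _ := by group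
  -- `e w e⁻¹ = y`
  obtain ⟨y, hy, hy1⟩ := tk.exists_Z l
  have hyW : y ∈ W l := tk.ZW l hy
  obtain ⟨g, hg, hgw⟩ := transK ((h.td.bk l).n4 tk) hw hw1 hyW hy1
  have hgWi : ∀ x ∈ W i, g * x = x * g := fun x hx => (h.td.bk l).cW i (Ne.symm hl) x hx g hg
  have htWl : ∀ p, p ≠ i → ∀ x ∈ W p, t * x = x * t := fun p hp x hx => (h.td.bk i).cW p hp x hx t htK
  -- `d = t⁻¹ g t g⁻¹`
  set d : G := t⁻¹ * g * t * g⁻¹ with hd
  set κ : G := t⁻¹ * u * t with hκ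
  have htB' : t⁻¹ ∈ normalizer (B0 : Set G) := inv_mem htB
  have hκW : κ ∈ W i := by
    have h1 := h.td.norm_W (inv_mem htK) htB' huW
    rwa [inv_inv] at h1
  have hκ1 : κ ≠ 1 := fun h0 => hu1 (by
    have : u = t * κ * t⁻¹ := by rw [hκ]; group
    rw [this, h0]; group)
  have hdy : d * y * d⁻¹ = κ * y := by
    have e1 : g⁻¹ * y * g = w := by rw [← hgw]; group
    have e2 : g * (u * w) * g⁻¹ = u * y := by
      calc g * (u * w) * g⁻¹ = (g * u) * w * g⁻¹ := by group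
        _ = (u * g) * w * g⁻¹ := by rw [hgWi u huW]
        _ = u * (g * w * g⁻¹) := by group
        _ = u * y := by rw [hgw]
    have e3 : t⁻¹ * y * t = y := by rw [mul_assoc, ← htWl l hl y hyW]; group
    calc d * y * d⁻¹ = t⁻¹ * (g * (t * (g⁻¹ * y * g) * t⁻¹) * g⁻¹) * t := by rw [hd]; group
      _ = t⁻¹ * (g * (u * w) * g⁻¹) * t := by rw [e1, htw]
      _ = t⁻¹ * (u * y) * t := by rw [e2]
      _ = (t⁻¹ * u * t) * (t⁻¹ * y * t) := by group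
      _ = κ * y := by rw [e3]
  have hdc : ∀ p, p ≠ l → ∀ x ∈ W p, d * x = x * d := by
    intro p hp x hx
    have hgx : g * x = x * g := (h.td.bk l).cW p hp x hx g hg
    have h1 : g * (t * x * t⁻¹) = (t * x * t⁻¹) * g := by
      by_cases hpi : p = i
      · subst hpi
        exact hgWi _ (h.td.norm_W htK htB hx)
      · rw [htWl p hpi x hx, mul_inv_cancel_right, hgx]
    calc d * x = t⁻¹ * g * t * (g⁻¹ * (x * g)) * g⁻¹ := by rw [hd]; group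
      _ = t⁻¹ * g * t * (g⁻¹ * (g * x)) * g⁻¹ := by rw [hgx]
      _ = t⁻¹ * (g * (t * x * t⁻¹)) * t * g⁻¹ := by group
      _ = t⁻¹ * ((t * x * t⁻¹) * g) * t * g⁻¹ := by rw [h1]
      _ = x * d := by rw [hd]; group
  -- conjugate `κ` into `Z i`
  obtain ⟨yi, hyi, hyi1⟩ := tk.exists_Z i
  obtain ⟨r, hr, hrB, hrκ⟩ := ((h.td.bk i).n4 tk).tor κ hκW hκ1 yi (tk.ZW i hyi) hyi1
  set g2 : G := r * d * r⁻¹ with hg2
  have hrW : ∀ p, p ≠ i → ∀ x ∈ W p, r * x = x * r := fun p hp x hx => (h.td.bk i).cW p hp x hx r hr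
  have hg2y : g2 * y * g2⁻¹ = yi * y := by
    have e1 : r⁻¹ * y * r = y := by rw [mul_assoc, ← hrW l hl y hyW]; group
    have e2 : r * y * r⁻¹ = y := by rw [hrW l hl y hyW]; group
    calc g2 * y * g2⁻¹ = r * (d * (r⁻¹ * y * r) * d⁻¹) * r⁻¹ := by rw [hg2]; group
      _ = r * (κ * y) * r⁻¹ := by rw [e1, hdy]
      _ = (r * κ * r⁻¹) * (r * y * r⁻¹) := by group
      _ = yi * y := by rw [hrκ, e2]
  have hg2c : ∀ p, p ≠ l → ∀ x ∈ W p, g2 * x = x * g2 := by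
    intro p hp x hx
    have h1 : r⁻¹ * x * r ∈ W p := by
      by_cases hpi : p = i
      · subst hpi
        have h2 := h.td.norm_W (inv_mem hr) (inv_mem hrB) hx
        rwa [inv_inv] at h2
      · rw [mul_assoc, ← hrW p hpi x hx, inv_mul_cancel_left]
        exact hx
    have h2 := hdc p hp _ h1
    calc g2 * x = r * (d * (r⁻¹ * x * r)) * r⁻¹ := by rw [hg2]; group
      _ = r * (r⁻¹ * x * r * d) * r⁻¹ := by rw [h2]
      _ = x * g2 := by rw [hg2]; group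
  -- `z ↦ z yi`
  obtain ⟨w0, hw0, c, hc, hcJ, ez⟩ := tk.fr.split_ZJ l tk.zJ
  have hw01 : w0 ≠ 1 := fun h0 => tk.zC l (by rw [ez, h0, one_mul]; exact hc)
  have e0 : w0 = y := tk.Z_two l hw0 hy hw01 hy1
  have hcc : g2 * c = c * g2 := by
    have h1 : c ∈ centralizer ({g2} : Set G) :=
      tk.mem_of_C (l := l) (fun p hp x hx => mem_centralizer_singleton_iff.2 (hg2c p hp x (tk.ZW p hx)).symm) hcJ hc
    exact (mem_centralizer_singleton_iff.1 h1).symm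
  have hyiJ : yi ∈ ZJ := tk.fr.Z_le i hyi
  have h1 : g2 * z * g2⁻¹ = z * yi := by
    have hzc : yi * y * c = y * c * yi := by
      have c1 : Commute yi y := tk.Xc (tk.ZX i hyi) (tk.ZX l hy)
      have c2 : Commute yi c := tk.Xc (tk.ZX i hyi) (tk.ZJX hcJ)
      rw [mul_assoc]
      exact (c1.mul_right c2).eq
    rw [ez, e0]
    calc g2 * (y * c) * g2⁻¹ = (g2 * y * g2⁻¹) * ((g2 * c) * g2⁻¹) := by group
      _ = (yi * y) * ((c * g2) * g2⁻¹) := by rw [hg2y, hcc]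
      _ = yi * y * c := by group
      _ = y * c * yi := hzc
  exact hyi1 (tk.no_shift tk.zJ tk.zC hyiJ h1)

/-- **(theta) for one block.** -/
theorem cen_F [Finite G] [Finite ι] {l : ι} (hl : l ≠ i) :
    Rg K i D0 ≤ centralizer ((⁅N l, K l⁆ : Subgroup G) : Set G) := by
  have tk := h.td.tk
  have n4 := (h.td.bk i).n4 tk
  rw [le_centralizer_iff]
  intro w hw
  have hwW : w ∈ WW := by rw [h.eW]; exact h.td.FW l hw
  obtain ⟨v, hv, n, hnW, hn, e⟩ := h.split' hwW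
  -- `D₀` centralises `w`
  have hDw : ∀ a ∈ D0, a * w = w * a := by
    intro a ha
    have h1 : a * w * a⁻¹ * w⁻¹ ∈ W i ⊓ W l := ⟨h.comm_W hwW ha, h.td.quad l (h.D0B ha) hw⟩
    rwa [h.td.W_bot i l hl, mem_bot, mul_inv_eq_one, mul_inv_eq_iff_eq_mul] at h1
  have hDv : ∀ a ∈ D0, a * v = v * a := by
    intro a ha
    have ev : v = w * n⁻¹ := by rw [e]; group
    have c1 : Commute a w := hDw a ha
    have c2 : Commute a n := hn a (D0_le_Rg ha)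
    rw [ev]
    exact (c1.mul_right c2.inv_right).eq
  obtain ⟨a, ha, hna⟩ := SetLike.not_le_iff_exists.1 h.fr.2
  have hna' : ∃ v ∈ (⁅N i, K i⁆ : Subgroup G), a * v ≠ v * a := by
    by_contra hcon
    push Not at hcon
    exact hna (mem_centralizer_iff.2 fun v hv => (hcon v hv).symm)
  have hvW : v ∈ W i := n4.cent a (h.D0B ha) hna' v hv (hDv a ha)
  have hv1 : v = 1 := by
    by_contra hv1
    have hw1 : w ≠ 1 := by
      rintro rfl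
      have h2 : v = n⁻¹ := eq_inv_of_mul_eq_one_left e.symm
      obtain ⟨t, ht, -, htf⟩ := h.tor'
      refine hv1 (htf v hvW ?_)
      have c2 : Commute t n := hn t ht
      have c3 := c2.inv_right.eq
      rw [← h2] at c3
      rw [c3, mul_inv_cancel_right]
    exact hv1 (h.no_v hl hw hw1 hvW hn e)
  rw [mem_centralizer_iff]
  intro r hr
  rw [e, hv1, one_mul]
  exact hn r hr

end TD1

namespace TD

variable {ι : Type} {S B Q V Xn ZJ B0 X M0 Y0 : Subgroup G} {L W Z C A : ι → Subgroup G} {z : G}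
  {K N N1 N0 : ι → Subgroup G} (h : TD S B Q V Xn ZJ B0 X M0 Y0 L W Z C A z K N N1 N0)

include h

/-- the family on `W*` and a small offender which moves `F m` -/
theorem exists_TD1 [Finite G] [Finite ι] (m : ι) : ∃ (H : Subgroup G) (AA : Set (Subgroup G)) (D0 : Subgroup G),
    TD1 S B Q V Xn ZJ B0 X M0 Y0 L W Z C A z K N N1 N0 (X ⊔ ⨆ j, ⁅N j, K j⁆) H AA m D0 := by
  set WW : Subgroup G := X ⊔ ⨆ j, ⁅N j, K j⁆ with hWW
  obtain ⟨AA, f, fS⟩ := h.tk.fml WW (normalizer (WW : Set G) ⊓ M0) h.el h.WB0 h.WY0 inf_le_left inf_le_right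
  have hX : WW ⊓ X = X := inf_eq_right.2 (by rw [hWW]; exact le_sup_left)
  have hbl : ∀ i, Bl S WW (normalizer (WW : Set G) ⊓ M0) B0 X AA (K i) ⁅N i, K i⁆ := by
    intro i
    have h1 := (h.bk i).bl h.tk f (h.FW i) (h.loc i) (le_inf (h.loc i) (h.bk i).KM)
    rwa [hX] at h1
  rw [hX] at f
  -- a smallest member
  obtain ⟨A1, hA1, hA1'⟩ := (hbl m).off
  have hn : ¬ A1 ≤ centralizer (WW : Set G) := fun h' => hA1' (le_inf (f.le A1 hA1)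
    (h'.trans (centralizer_le (h.FW m))))
  obtain ⟨A0, hA0⟩ : ∃ A0, A0 ∈ DM WW AA := by
    have h1 : ∃ n, ∃ A ∈ AA, ¬ A ≤ centralizer (WW : Set G) ∧ (centralizer (WW : Set G)).relIndex A = n :=
      ⟨_, A1, hA1, hn, rfl⟩
    classical
    obtain ⟨A, hA, hA', hn⟩ := Nat.find_spec h1
    refine ⟨A, hA, hA', fun B hB hB' => ?_⟩
    rw [hn]
    exact Nat.find_min' h1 ⟨B, hB, hB', rfl⟩
  -- it moves some `F l`
  obtain ⟨l, hl⟩ : ∃ l, ¬ A0 ≤ centralizer ((⁅N l, K l⁆ : Subgroup G) : Set G) := by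
    by_contra hcon
    push Not at hcon
    apply hA0.2.1
    rw [le_centralizer_iff, hWW]
    refine sup_le ?_ (iSup_le fun i => le_centralizer_iff.1 (hcon i))
    exact fun x hx => mem_centralizer_iff.2 fun a ha => h.tk.cX (f.le A0 hA0.1 ha) hx
  -- conjugate into `m`
  obtain ⟨s, hs, hsW⟩ := h.tk.tr l m
  have hsN : s ∈ normalizer (WW : Set G) := h.S_norm hs
  have hA0' : cj s A0 ∈ AA := fS A0 hA0.1 s hs hsN
  have hD := DM_conj hA0 hsN hA0'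
  refine ⟨_, AA, cj s A0, h, rfl, f, hbl m, hD, fun hc => hl ?_⟩
  have k' := (h.bk l).cj h.tk hs hsW
  have h1 := (uni' h.tk (h.bk m) k').1
  rw [comm_cjj] at h1
  have h2 : cj s A0 ≤ centralizer ((cj s ⁅N l, K l⁆ : Subgroup G) : Set G) := by
    rw [le_centralizer_iff]
    refine h1.trans (sup_le (le_centralizer_iff.1 hc) ?_)
    exact fun x hx => mem_centralizer_iff.2 fun a ha => h.tk.cX (f.le _ hA0' ha) hx
  rw [← cj_centralizer] at h2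
  exact Cfsg.Agent.Omega.NO3S.ThmB.cj_le_cj_iff.1 h2

/-- **(theta)** -/
theorem theta [Finite G] [Finite ι] (m : ι) : ∃ R ≤ K m, K m ≤ normalizer (R : Set G) ∧ K m ≤ R ⊔ B0 ∧
    ∀ l, l ≠ m → R ≤ centralizer ((⁅N l, K l⁆ : Subgroup G) : Set G) := by
  obtain ⟨H, AA, D0, t⟩ := h.exists_TD1 m
  exact ⟨TD1.Rg K m D0, t.Rg_le, TD1.Rg_norm, t.K_le, fun l hl => t.cen_F hl⟩

end TD

end Cfsg.Agent.Omega.OM.Lev.Low.TorusK

end

section


/-!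
# TORUS, `k ≥ 4`: (LOC) of helper607 #23961

For a block `K` (`BK`) and `F = [N, K]`: `X ∏ F^s` (`s ∈ S`) is abelian and normalised by `S` and by `K`
(hence by all `K^s`).

* `comm_all` : `[F, F'] = 1` for any two blocks;
* `pair_norm` : two blocks over different lines (helper12's pair lemma);
* `WW S X F` := `X ⊔ ⨆ s : S, F^s`; `WW_comm`, `S_norm`, `K_norm`.
-/

set_option autoImplicit false
set_option linter.unusedSectionVars false

namespace Cfsg.Agent.Omega.OM.Lev.Low.TorusK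

open Subgroup Cfsg Cfsg.Agent.ZN Cfsg.Agent.ZN.ChoiceBase
open Cfsg.Agent.Omega.SQ1.Bau (mem_sup_comm card_sup_comm elem_comm elem_sq)
open Cfsg.Agent.Omega.NO3S.Level.Claim (Fm Bl cB mem_cB cB_le)
open Cfsg.Agent.Omega.OM.Lev.Uni (FrL)
open Cfsg.Agent.Omega.OM.Lev.Low.TorusK.PBC
open scoped commutatorElement

universe u

variable {G : Type u} [Group G] {ι : Type} {S B Q V Xn ZJ B0 X M0 Y0 : Subgroup G} {L W Z C A : ι → Subgroup G} {z : G}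
  {l m : ι} {K N N1 N0 K' N' N1' N0' : Subgroup G}

namespace Loc

/-- `[F, F'] = 1` -/
theorem comm_all [Finite G] (h : TK S B Q V Xn ZJ B0 X M0 Y0 L W Z C A z) (k : BK B B0 X M0 Y0 W l K N N1 N0)
    (k' : BK B B0 X M0 Y0 W m K' N' N1' N0') {a b : G} (ha : a ∈ (⁅N, K⁆ : Subgroup G))
    (hb : b ∈ (⁅N', K'⁆ : Subgroup G)) : a * b = b * a := by
  by_cases e : l = m
  · subst e
    obtain ⟨U, hU, -, -, hall⟩ := h.exists_U1 l
    exact elem_comm hU a ((hall K N N1 N0 k).1 ha) b ((hall K' N' N1' N0' k').1 hb)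
  · obtain ⟨U, hU, -, -, h1, h2⟩ := h.exists_U2 e
    exact elem_comm hU a ((h1 K N N1 N0 k).1 ha) b ((h2 K' N' N1' N0' k').1 hb)

/-- the smallest group over `D`, `D'` normalised by `K`, `K'` inside `U` -/
theorem exists_min {U D D' : Subgroup G} (hD : D ≤ U) (hD' : D' ≤ U) (hK : K ≤ normalizer (U : Set G))
    (hK' : K' ≤ normalizer (U : Set G)) : ∃ U' ≤ U, D ≤ U' ∧ D' ≤ U' ∧ K ≤ normalizer (U' : Set G) ∧
      K' ≤ normalizer (U' : Set G) ∧ ∀ R : Subgroup G, D ≤ R → D' ≤ R → K ≤ normalizer (R : Set G) →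
        K' ≤ normalizer (R : Set G) → U' ≤ R := by
  have hn : ∀ {T : Subgroup G} {𝒮 : Set (Subgroup G)}, (∀ R ∈ 𝒮, T ≤ normalizer (R : Set G)) →
      T ≤ normalizer ((sInf 𝒮 : Subgroup G) : Set G) := by
    intro T 𝒮 hT g hg
    rw [mem_normalizer_iff]
    intro x
    rw [Subgroup.mem_sInf, Subgroup.mem_sInf]
    exact ⟨fun h1 R hR => (mem_normalizer_iff.1 (hT R hR hg) x).1 (h1 R hR),
      fun h1 R hR => (mem_normalizer_iff.1 (hT R hR hg) x).2 (h1 R hR)⟩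
  refine ⟨sInf {R | D ≤ R ∧ D' ≤ R ∧ K ≤ normalizer (R : Set G) ∧ K' ≤ normalizer (R : Set G)},
    sInf_le ⟨hD, hD', hK, hK'⟩, le_sInf fun R hR => hR.1, le_sInf fun R hR => hR.2.1, hn fun R hR => hR.2.2.1,
    hn fun R hR => hR.2.2.2, fun R h1 h2 h3 h4 => sInf_le ⟨h1, h2, h3, h4⟩⟩

/-- **Two blocks over different lines.** -/
theorem pair_norm [Finite G] (h : TK S B Q V Xn ZJ B0 X M0 Y0 L W Z C A z) (hlm : l ≠ m)
    (k : BK B B0 X M0 Y0 W l K N N1 N0) (k' : BK B B0 X M0 Y0 W m K' N' N1' N0') (hX : ⁅N', K'⁆ ⊓ X ≤ W m) {g v : G}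
    (hg : g ∈ K) (hv : v ∈ (⁅N', K'⁆ : Subgroup G)) : g * v * g⁻¹ ∈ ⁅N, K⁆ ⊔ ⁅N', K'⁆ ⊔ X := by
  obtain ⟨U0, hU0, hUB0, hUY0, h1, h2⟩ := h.exists_U2 hlm
  obtain ⟨h3, h4⟩ := h1 K N N1 N0 k
  obtain ⟨h5, h6⟩ := h2 K' N' N1' N0' k'
  obtain ⟨U, hUU, hF, hF', hKU, hKU', hmin⟩ := exists_min h3 h5 h4 h6
  have hU : IsElementaryAbelian 2 U := Cfsg.Agent.PLocal.ThompsonJ.isElementaryAbelian_mono hU0 hUU
  obtain ⟨AA, f, -⟩ := h.fml U (normalizer (U : Set G) ⊓ M0) hU (hUU.trans hUB0) (hUU.trans hUY0) inf_le_left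
    inf_le_right
  have b1 := k.bl h f hF hKU (le_inf hKU k.KM)
  have b2 := k'.bl h f hF' hKU' (le_inf hKU' k'.KM)
  have hp : PairD S U (normalizer (U : Set G) ⊓ M0) B0 (U ⊓ X) AA K ⁅N, K⁆ K' ⁅N', K'⁆ :=
    ⟨f, b1, b2, fun x hx w hw => k.cW m (Ne.symm hlm) w (hX ⟨hw.1, hw.2.2⟩) x hx,
      fun R _ r1 r2 r3 r4 => hmin R r1 r2 r3 r4⟩
  have h7 := hp.main
  have h8 := (mem_normalizer_iff.1 (h7 hg) v).1 (mem_sup_left (mem_sup_right hv))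
  have h9 : ⁅N, K⁆ ⊔ ⁅N', K'⁆ ⊔ (U ⊓ X) ≤ ⁅N, K⁆ ⊔ ⁅N', K'⁆ ⊔ X := sup_le_sup_left inf_le_right _
  exact h9 h8

/-- `X ∏ F^s` -/
def WW (S X F : Subgroup G) : Subgroup G := X ⊔ ⨆ s : S, cj (s : G) F

theorem X_le (S X F : Subgroup G) : X ≤ WW S X F := le_sup_left

theorem cj_le {F : Subgroup G} {s : G} (hs : s ∈ S) : cj s F ≤ WW S X F :=
  (le_iSup (fun s : S => cj (s : G) F) ⟨s, hs⟩).trans le_sup_right

theorem F_le (S X F : Subgroup G) : F ≤ WW S X F := by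
  have h1 := cj_le (X := X) (F := F) (one_mem S)
  rwa [cj_one] at h1

theorem WW_le {F T : Subgroup G} (hX : X ≤ T) (hF : ∀ s ∈ S, cj s F ≤ T) : WW S X F ≤ T :=
  sup_le hX (iSup_le fun s => hF s s.2)

/-- `S` normalises `X ∏ F^s` -/
theorem S_norm {F : Subgroup G} (hX : S ≤ normalizer (X : Set G)) : S ≤ normalizer ((WW S X F : Subgroup G) : Set G) := by
  have key : ∀ s ∈ S, cj s (WW S X F) ≤ WW S X F := by
    intro s hs
    rw [cj_le_iff]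
    refine WW_le ?_ fun t ht => ?_
    · rw [← cj_le_iff, cj_eq_of_mem_normalizer (hX hs)]
      exact X_le S X F
    · rw [← cj_le_iff, cj_cj]
      exact cj_le (mul_mem hs ht)
  intro s hs
  rw [mem_normalizer_iff_cj]
  refine le_antisymm (key s hs) ?_
  have h1 := cj_mono s (key s⁻¹ (inv_mem hs))
  rwa [cj_cj, mul_inv_cancel, cj_one] at h1

theorem cj_comm (s : G) (N K : Subgroup G) : cj s ⁅N, K⁆ = ⁅cj s N, cj s K⁆ := map_commutator _ _ _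

/-- `X ∏ F^s` is abelian -/
theorem WW_comm [Finite G] (h : TK S B Q V Xn ZJ B0 X M0 Y0 L W Z C A z) (k : BK B B0 X M0 Y0 W l K N N1 N0) {a b : G}
    (ha : a ∈ WW S X ⁅N, K⁆) (hb : b ∈ WW S X ⁅N, K⁆) : a * b = b * a := by
  have hFX : ∀ s ∈ S, ∀ v ∈ cj s ⁅N, K⁆, ∀ x ∈ X, v * x = x * v := by
    intro s hs v hv x hx
    obtain ⟨j, hj, -, -⟩ := h.perm s hs l
    have k1 := k.cj h hs hj
    rw [cj_comm] at hv
    exact h.cX (k1.VB0 hv) hx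
  have hFF : ∀ s ∈ S, ∀ t ∈ S, ∀ v ∈ cj s ⁅N, K⁆, ∀ w ∈ cj t ⁅N, K⁆, v * w = w * v := by
    intro s hs t ht v hv w hw
    obtain ⟨j, hj, -, -⟩ := h.perm s hs l
    obtain ⟨j', hj', -, -⟩ := h.perm t ht l
    rw [cj_comm] at hv hw
    exact comm_all h (k.cj h hs hj) (k.cj h ht hj') hv hw
  have key : ∀ x, (∀ y ∈ X, y * x = x * y) → (∀ s ∈ S, ∀ y ∈ cj s ⁅N, K⁆, y * x = x * y) →
      ∀ y ∈ WW S X ⁅N, K⁆, y * x = x * y := by
    intro x h1 h2 y hy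
    have h3 : WW S X ⁅N, K⁆ ≤ centralizer ({x} : Set G) :=
      WW_le (fun y hy => mem_centralizer_singleton_iff.2 (h1 y hy))
        fun s hs y hy => mem_centralizer_singleton_iff.2 (h2 s hs y hy)
    exact mem_centralizer_singleton_iff.1 (h3 hy)
  refine key b (fun x hx => (key x ?_ ?_ b hb).symm) (fun s hs x hx => (key x ?_ ?_ b hb).symm) a ha
  · exact fun y hy => h.Xc hy hx
  · exact fun s hs y hy => hFX s hs y hy x hx
  · exact fun y hy => (hFX s hs x hx y hy).symm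
  · exact fun t ht y hy => hFF t ht s hs y hy x hx

theorem WW_le_B0 [Finite G] (h : TK S B Q V Xn ZJ B0 X M0 Y0 L W Z C A z) (k : BK B B0 X M0 Y0 W l K N N1 N0) :
    WW S X ⁅N, K⁆ ≤ B0 := by
  refine WW_le h.XB0 fun s hs => ?_
  obtain ⟨j, hj, -, -⟩ := h.perm s hs l
  rw [cj_comm]
  exact (k.cj h hs hj).VB0

/-- **(LOC)** : `K` normalises `X ∏ F^s`. -/
theorem K_norm [Finite G] (h : TK S B Q V Xn ZJ B0 X M0 Y0 L W Z C A z) (k : BK B B0 X M0 Y0 W l K N N1 N0)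
    (hX : ∀ m K' N' N1' N0', BK B B0 X M0 Y0 W m K' N' N1' N0' → ⁅N', K'⁆ ⊓ X ≤ W m) :
    K ≤ normalizer ((WW S X ⁅N, K⁆ : Subgroup G) : Set G) := by
  have key : ∀ g ∈ K, cj g (WW S X ⁅N, K⁆) ≤ WW S X ⁅N, K⁆ := by
    intro g hg
    rw [cj_le_iff]
    have hXg : ∀ x ∈ X, g * x * g⁻¹ ∈ WW S X ⁅N, K⁆ := by
      intro x hx
      have h1 := mul_mem (F_le S X _ (k.act h hg hx)) (X_le S X ⁅N, K⁆ hx)
      rwa [inv_mul_cancel_right] at h1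
    have hFg : ∀ v ∈ (⁅N, K⁆ : Subgroup G), g * v * g⁻¹ ∈ WW S X ⁅N, K⁆ := fun v hv =>
      F_le S X _ ((mem_normalizer_iff.1 (k.pb.LV hg) v).1 hv)
    have hcj : ∀ y : G, y ∈ cj g⁻¹ (WW S X ⁅N, K⁆) ↔ g * y * g⁻¹ ∈ WW S X ⁅N, K⁆ := fun y => by
      rw [mem_cj', inv_inv]
    refine WW_le (fun x hx => (hcj x).2 (hXg x hx)) fun s hs v hv => (hcj v).2 ?_
    obtain ⟨j, hj, -, -⟩ := h.perm s hs l
    have k1 := k.cj h hs hj
    by_cases e : l = j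
    · subst e
      have h1 := (uni' h k k1).1
      rw [← cj_comm] at h1
      obtain ⟨a, ha, x, hx, rfl⟩ := mem_sup_comm (fun a ha b hb => h.cX (k.VB0 ha) hb) (h1 hv)
      have e1 : g * (a * x) * g⁻¹ = (g * a * g⁻¹) * (g * x * g⁻¹) := by group
      rw [e1]
      exact mul_mem (hFg a ha) (hXg x hx)
    · rw [cj_comm] at hv
      have h1 := pair_norm h e k k1 (hX _ _ _ _ _ k1) hg hv
      rw [← cj_comm] at h1
      have h2 : ⁅N, K⁆ ⊔ cj s ⁅N, K⁆ ⊔ X ≤ WW S X ⁅N, K⁆ := sup_le (sup_le (F_le S X _) (cj_le hs)) (X_le S X _)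
      exact h2 h1
  intro g hg
  rw [mem_normalizer_iff_cj]
  refine le_antisymm (key g hg) ?_
  have h1 := cj_mono g (key g⁻¹ (inv_mem hg))
  rwa [cj_cj, mul_inv_cancel, cj_one] at h1

/-- `⟨K, S⟩` normalises `X ∏ F^s` -/
theorem KS_norm [Finite G] (h : TK S B Q V Xn ZJ B0 X M0 Y0 L W Z C A z) (k : BK B B0 X M0 Y0 W l K N N1 N0)
    (hX : ∀ m K' N' N1' N0', BK B B0 X M0 Y0 W m K' N' N1' N0' → ⁅N', K'⁆ ⊓ X ≤ W m) :
    K ⊔ S ≤ normalizer ((WW S X ⁅N, K⁆ : Subgroup G) : Set G) :=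
  sup_le (K_norm h k hX) (S_norm h.SX)

/-- `⟨K, S⟩` is local. -/
theorem local_KS [Finite G] (h : TK S B Q V Xn ZJ B0 X M0 Y0 L W Z C A z) (k : BK B B0 X M0 Y0 W l K N N1 N0)
    (hX : ∀ m K' N' N1' N0', BK B B0 X M0 Y0 W m K' N' N1' N0' → ⁅N', K'⁆ ⊓ X ≤ W m) :
    ∃ U : Subgroup G, U ≠ ⊥ ∧ IsPGroup 2 U ∧ K ⊔ S ≤ normalizer (U : Set G) := by
  refine ⟨WW S X ⁅N, K⁆, fun e => ?_, h.two.to_le ((WW_le_B0 h k).trans (h.B0B.trans h.BS)), KS_norm h k hX⟩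
  obtain ⟨x, hx, hx1⟩ := h.exists_Z l
  have h1 : x ∈ WW S X ⁅N, K⁆ := X_le S X _ (h.ZX l hx)
  rw [e, mem_bot] at h1
  exact hx1 h1

end Loc

end Cfsg.Agent.Omega.OM.Lev.Low.TorusK

end
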