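import Cfsg.Agent.Mrg.Omega.OM.Lev.Low.Core
import Cfsg.Agent.Mrg.Omega.OM.Lev.Low.SetS
import Cfsg.Agent.Mrg.Omega.OM.Lev.Low.TorusK.Frame
import Cfsg.Agent.Mrg.Omega.OM.Lev.Low.TorusK.SplitOne
import Cfsg.Agent.Mrg.Omega.TC.UniLev

section


/-!
# TORUS, `k ≥ 3`: the instances of `TK` and `BK` (helper607's frame) from `Core.Blk`

* `stM`, `stY` : the groups `M₀`, `Y₀` of the stage;
* `fml_of` : the family at the stage;
* `Loc` : the four local fields of `TK` (helper548);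
* `tk_of`, `bk_of`.
-/

set_option autoImplicit false
set_option linter.unusedSectionVars false

namespace Cfsg.Agent.Omega.OM.Lev.Low.TorusK

open Subgroup Cfsg Cfsg.Agent.ZN.ChoiceBase Cfsg.Agent.ZN.ChoiceSit
open Cfsg.Agent.ZN (jj zj bau zc zl o2)
open Cfsg.Agent.Omega.SQ1.Bau (elem_comm elem_sq)
open Cfsg.Agent.Omega.NO3S.Level.Claim (Fm Bl)
open Cfsg.Agent.Omega.OM.SwapL (Ln ZL BL)
open Cfsg.Agent.Omega.NO3S.Level (lev lev_mono lev_isLev Lev lev_le BO nxt)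
open Cfsg.Agent.Omega.NO3S.EThree.Frame (Bg)
open Cfsg.Agent.Omega.OM.Lev.Low.SetS (S_norm_lev S_norm_zc S_norm_BL zj_eq BL_zero)
open Cfsg.Agent.Omega.OM.Lev.Low.BlOf (fm_neg fm_lev famA famA_cj famA_le)
open Cfsg.Agent.Omega.FrameFF (cv)
open Cfsg.Agent.Omega.OM.Lev.Low.Core (Blk)
open Cfsg.Agent.Omega.OM.Lev.Low.Line (Full full_of_conj S_cent exists_full)

universe u

variable {G : Type u} [Group G]

/-- the group `M₀` of the stage -/
noncomputable def stM (S : Subgroup G) : ℕ → Subgroup G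
  | 0 => ⊤
  | n + 1 => normalizer (lev S n : Set G)

/-- the group `Y₀` of the stage -/
noncomputable def stY (S : Subgroup G) : ℕ → Subgroup G
  | 0 => ⊤
  | n + 1 => zc (lev S n)

variable [Finite G]

/-- **The family at the stage.** -/
theorem fml_of (S : Sylow 2 G) (j : ℕ) : Fml (S : Subgroup G) (LevB.BL (S : Subgroup G) j)
    (zc (lev (S : Subgroup G) j)) (stM (S : Subgroup G) j) (stY (S : Subgroup G) j) := by
  intro U H hU hUB hUY hHU hHM
  have hUS : U ≤ (S : Subgroup G) := hUB.trans inf_le_left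
  cases j with
  | zero =>
    have hUb : U ≤ bau (S : Subgroup G) := by rw [← BL_zero]; exact hUB
    have fm := fm_neg (S := (S : Subgroup G)) hU hUb hHU
    rw [← BL_zero, ← zj_eq] at fm
    refine ⟨_, fm, fun A hA g hg hgU => famA_cj hA hgU ?_ hUS⟩
    rintro _ ⟨a, ha, rfl⟩
    exact mul_mem (mul_mem hg (ZN.ChoiceBase.jj_le _ (famA_le hA ha))) (inv_mem hg)
  | succ m =>
    have fm : Fm (S : Subgroup G) U H (LevB.BL (S : Subgroup G) (m + 1))
        (U ⊓ zc (lev (S : Subgroup G) (m + 1))) (BO (S : Subgroup G) (lev (S : Subgroup G) m)) :=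
      fm_lev (lev_isLev (S : Subgroup G) m) hUY hHM
    refine ⟨_, fm, fun A hA g hg _ => BO.conj hA (S_norm_lev S m hg) ?_⟩
    rintro _ ⟨a, ha, rfl⟩
    exact mul_mem (mul_mem hg (hA.1 ha)) (inv_mem hg)

/-- The local fields of `TK` (helper548). -/
structure Loc {ι : Type} (S B ZJ B0 X : Subgroup G) (Z : ι → Subgroup G) (z : G) : Prop where
  syl : ∀ l, ∀ T : Subgroup G, IsPGroup 2 T → B ≤ T → (∀ p, p ≠ l → T ≤ centralizer (Z p : Set G)) → T ≤ B
  loc1 : ∀ l, ∃ E : Subgroup G, IsElementaryAbelian 2 E ∧ E ≤ B ∧ ZJ ≤ E ∧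
    ∀ g, (∀ p, p ≠ l → ∀ x ∈ Z p, g * x = x * g) → g ∈ normalizer (E : Set G)
  loc2 : ∀ l m, l ≠ m → ∃ E : Subgroup G, IsElementaryAbelian 2 E ∧ (∀ e ∈ E, (∀ x ∈ X, e * x = x * e) → e ∈ B0) ∧
    (∀ x ∈ Z l, ∀ y ∈ Z m, x ≠ 1 → y ≠ 1 → x * y ∈ E) ∧
    ∀ g, (∀ p, p ≠ l → p ≠ m → ∀ x ∈ Z p, g * x = x * g) → g ∈ normalizer (E : Set G)
  fact : ∀ H : Subgroup G, S ≤ H → (∃ U : Subgroup G, U ≠ ⊥ ∧ IsPGroup 2 U ∧ H ≤ normalizer (U : Set G)) →
    H ≤ (H ⊓ normalizer (X : Set G)) ⊔ (H ⊓ centralizer ({z} : Set G))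

section tk

variable {ι : Type} [Finite ι] {S : Sylow 2 G} {P : Subgroup G} {n : ℕ} {L W Z C A : ι → Subgroup G}

/-- **The instance of `TK`.** -/
theorem tk_of (hln : Ln S P n L W Z C A 2)
    (hbg : Bg S P (BL (S : Subgroup G) n) (ZL (S : Subgroup G) n) L W Z C 2) {j : ℕ} (hj : j ≤ n) {z : G}
    (hz : z ∈ ZL (S : Subgroup G) n) (hzC : ∀ i, z ∉ C i)
    (hloc : Loc (S : Subgroup G) (BL (S : Subgroup G) n) (ZL (S : Subgroup G) n) (LevB.BL (S : Subgroup G) j)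
      (zc (lev (S : Subgroup G) j)) Z z) :
    TK (S : Subgroup G) (BL (S : Subgroup G) n) (o2 P) (zl (S : Subgroup G) P) (zc (lev (S : Subgroup G) n))
      (ZL (S : Subgroup G) n) (LevB.BL (S : Subgroup G) j) (zc (lev (S : Subgroup G) j)) (stM (S : Subgroup G) j)
      (stY (S : Subgroup G) j) L W Z C A z where
  fr := hln.fr
  fml := fml_of S j
  two := S.isPGroup'
  BS := hbg.BS
  B0B := BL_mono (S : Subgroup G) (by omega : j ≤ n + 1)
  SB := hbg.S_norm_B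
  SB0 := S_norm_BL S j
  SX := S_norm_zc S j
  zB := LevB.zc_B S j
  VX := hln.fr.VX.trans ((lev_isLev (S : Subgroup G) j).zc_le_zc (lev_mono _ hj) (lev_le _ n))
  XY := by
    cases j with
    | zero => exact le_top
    | succ m => exact (lev_isLev (S : Subgroup G) m).zc_le_zc (lev_mono _ (Nat.le_succ m)) (lev_le _ _)
  mX := fun s hs hc => mem_inf.2 ⟨hs, mem_centralizer_iff.2 fun x hx => (hc x hx).symm⟩
  cQ := fun x hx hc => by
    have h1 := qv hln hbg.bau_two le_rfl hj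
    exact (h1.mem x).2 ⟨hx, hc⟩
  SM := by
    cases j with
    | zero => exact le_top
    | succ m => exact S_norm_lev S m
  MY := by
    cases j with
    | zero =>
      show (⊤ : Subgroup G) ≤ normalizer (((⊤ : Subgroup G) : Subgroup G) : Set G)
      intro x _
      rw [mem_normalizer_iff]
      exact fun y => ⟨fun _ => mem_top _, fun _ => mem_top _⟩
    | succ m => exact NO3S.Level.normalizer_le_zc _
  perm := fun s hs i => by
    obtain ⟨σ, hσ⟩ := hbg.perm_S hs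
    exact ⟨σ i, hσ i⟩
  tr := hbg.trans
  wt := fun g z hz hg hf => full_of_conj hln hbg hz hg hf
  syl := hloc.syl
  loc1 := hloc.loc1
  loc2 := hloc.loc2
  zJ := hz
  zS := fun s hs => S_cent hln hbg hz hzC hs
  zC := hzC
  fact := hloc.fact

end tk

section bk

variable {ι : Type} {S : Sylow 2 G} {P : Subgroup G} {n : ℕ} {L W Z C A : ι → Subgroup G} {R : Subgroup G}
  {j : ℕ} {K N₁ c : Subgroup G} {τ : G} {l : ι}

/-- `R` normalises the levels `< j` -/
theorem R_norm (h : Blk S P n L W Z C A R j K N₁ c τ l) {m : ℕ} (hm : m < j) :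
    R ≤ normalizer (lev (S : Subgroup G) m : Set G) :=
  (lev_isLev (S : Subgroup G) m).le_norm_of_o2 (h.low m hm) ((o2_le_syl h.syl).trans h.bg.BS)

/-- `⟨Ω₁Z(B)^R⟩ ≤ Ω₁Z(lev S m)`, `m < j` -/
theorem zl_le_lev (h : Blk S P n L W Z C A R j K N₁ c τ l) {m : ℕ} (hm : m < j) :
    zl (BL (S : Subgroup G) n) R ≤ zc (lev (S : Subgroup G) m) := by
  have h1 : zc (BL (S : Subgroup G) n) ≤ zc (lev (S : Subgroup G) m) := by
    have h2 : zc (BL (S : Subgroup G) n) = ZL (S : Subgroup G) n := h.ln.fr.zcB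
    rw [h2]
    exact (lev_isLev (S : Subgroup G) m).zc_le_zc (lev_mono _ (by have := h.jn; omega)) (lev_le _ _)
  refine iSup_le fun g => ?_
  have h2 := (R_norm h hm).trans (NO3S.Level.normalizer_le_zc _)
  have h3 := cj_mono (g : G) h1
  rwa [cj_eq_of_mem_normalizer (h2 g.2)] at h3

/-- **The instance of `BK`.** -/
theorem bk_of (h : Blk S P n L W Z C A R j K N₁ c τ l) :
    BK (BL (S : Subgroup G) n) (LevB.BL (S : Subgroup G) j) (zc (lev (S : Subgroup G) j)) (stM (S : Subgroup G) j)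
      (stY (S : Subgroup G) j) W l K (zl (BL (S : Subgroup G) n) R) N₁ (cv (BL (S : Subgroup G) n) R) where
  pb := h.pb
  NY := by
    cases j with
    | zero => exact le_top
    | succ m => exact zl_le_lev h (Nat.lt_succ_self m)
  KM := by
    cases j with
    | zero => exact le_top
    | succ m => exact h.KR.trans (R_norm h (Nat.lt_succ_self m))
  WN := h.cW ▸ h.cN1
  WN0 := h.cW ▸ h.cD
  cW := fun p hp w hw k hk => mem_centralizer_iff.1 (h.WK p hp hw) k hk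
  BX := fun b hb => mem_normalizer_iff_cj.2 (h.fix b hb).1
  tor := by
    refine ⟨τ, h.τK, h.τB0, fun w hw => ?_, fun w hw => h.τ1 w (h.cW ▸ hw)⟩
    rw [← h.cW] at hw ⊢
    have h1 : τ * w * τ⁻¹ ∈ cj τ c := ⟨w, hw, rfl⟩
    rwa [h.τc] at h1

end bk

end Cfsg.Agent.Omega.OM.Lev.Low.TorusK

end

section


/-!
# `NoLowK`: no minimal parabolic of smaller stage over `B` moves `Ω₁(Z(B))`, `q = 2`, `k ≥ 3`

`noLowK_of` : `NoLowK K` from the local fields (`LocOf`) and the torus theorem (`TorusOf`).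
-/

set_option autoImplicit false
set_option linter.unusedSectionVars false

namespace Cfsg.Agent.Omega.OM.Lev.Low.PlugE

open Subgroup Cfsg Cfsg.Agent.ZN.ChoiceBase Cfsg.Agent.ZN.ChoiceSit
open Cfsg.Agent.ZN (jj zj bau zc zl o2)
open Cfsg.Agent.MinSimple.MinParabolic (IsMinPar)
open Cfsg.Agent.Omega.FFThm (NatKM)
open Cfsg.Agent.Omega.FrameFF (cv)
open Cfsg.Agent.Omega.Frame (Cls)
open Cfsg.Agent.Omega.OM.Lev.Uni (FrL)
open Cfsg.Agent.Omega.OM.SwapL (Ln ZL BL)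
open Cfsg.Agent.Omega.NO3S.Level (lev lev_mono lev_isLev)
open Cfsg.Agent.Omega.NO3S.EThree.Frame (Bg)
open Cfsg.Agent.Omega.MinPar (IsParS)
open Cfsg.Agent.Omega.OM.Lev.Low.TorusK (TK BK NA Loc stM stY tk_of bk_of)
open Cfsg.Agent.Omega.OM.Lev.Low.Core (Blk exists_blk)

universe u

/-- The local fields (helper548). -/
def LocOf : Prop :=
  ∀ (G : Type u) [Group G] [Finite G] (k : ℕ) (S : Sylow 2 G) (P : Subgroup G) (n : ℕ)
    (L W Z C A : Fin k → Subgroup G), 3 ≤ k → Ln S P n L W Z C A 2 →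
    Bg S P (BL (S : Subgroup G) n) (ZL (S : Subgroup G) n) L W Z C 2 →
    (∀ R, IsParS (S : Subgroup G) R → lev (S : Subgroup G) n ≤ o2 R) → ∀ j ≤ n, ∀ z ∈ ZL (S : Subgroup G) n,
      (∀ i, z ∉ C i) → Loc (S : Subgroup G) (BL (S : Subgroup G) n) (ZL (S : Subgroup G) n)
        (LevB.BL (S : Subgroup G) j) (zc (lev (S : Subgroup G) j)) Z z

/-- The torus theorem (helper607). -/
def TorusOf : Prop :=
  ∀ (G : Type u) [Group G] [Finite G] (k : ℕ) (S B Q V Xn ZJ B0 X M0 Y0 : Subgroup G)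
    (L W Z C A : Fin k → Subgroup G) (z : G) (l : Fin k) (K N N1 N0 : Subgroup G), 3 ≤ k →
    TK S B Q V Xn ZJ B0 X M0 Y0 L W Z C A z → BK B B0 X M0 Y0 W l K N N1 N0 → NA B K N → False

/-- `NA` from `Core.Blk` -/
theorem na_of {G : Type u} [Group G] [Finite G] {ι : Type} {S : Sylow 2 G} {P : Subgroup G} {n : ℕ}
    {L W Z C A : ι → Subgroup G} {R : Subgroup G} {j : ℕ} {K N₁ c : Subgroup G} {τ : G} {l : ι}
    (h : Blk S P n L W Z C A R j K N₁ c τ l) :
    NA (BL (S : Subgroup G) n) K (zl (BL (S : Subgroup G) n) R) := ⟨h.nK, h.act⟩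

theorem noLowK_of {K : Cls.{u}} (hL : LocOf.{u}) (hT : TorusOf.{u}) : EK3.UniLevK.NoLowK K := by
  intro G _ _ hG S P hyp n hall hn1 F _ _ _ k hF hk N B ZJ eqZ eqB hE L W Z C A hbg hfr R hP hTR hc hn
  by_contra hZ
  subst eqZ eqB
  have hln : Ln S P n L W Z C A 2 := by
    refine ⟨hyp.toHypN, hall P hyp.star, hfr, fun i => ?_⟩
    have : Nontrivial (Fin k) := Fin.nontrivial_iff_two_le.2 (by omega)
    exact exists_ne i
  have : Nonempty (Fin k) := ⟨⟨0, by omega⟩⟩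
  obtain ⟨j, K1, N₁, c, τ, l, hb⟩ := exists_blk hln hbg hP hTR hc hn hZ
  obtain ⟨z, hz, hzf⟩ := Line.exists_full hln.fr
  exact hT G k _ _ _ _ _ _ _ _ _ _ _ _ _ _ _ _ _ _ _ _ _ hk
    (tk_of hln hbg hb.jn hz hzf (hL G k S P n L W Z C A hk hln hbg hall j hb.jn z hz hzf)) (bk_of hb) (na_of hb)

end Cfsg.Agent.Omega.OM.Lev.Low.PlugE

end
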