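import Cfsg.Agent.Mrg.Omega.OM.Lev.Low.TorusK.Frame
import Cfsg.Agent.Mrg.Omega.OM.Lev.Low.TorusK.Pair

section


/-!
# TORUS, `k ≥ 4`: the common elementary abelian groups, (UNI)

* `BK.act` : `[X, K] ≤ [N, K]`; `BK.le_of` : a `K`-invariant `D ≤ N` containing an element `≠ 1` of `W l` contains `[N, K]`;
* `TK.exists_U1`, `TK.exists_U2` : an elementary abelian `U ≤ B₀ ∩ Y₀` which contains `[N, K]` and is normalised by `K`, for
  all blocks `K` over one line (two lines);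
* `BK.bl` : `Claim.Bl` on `U`;
* `uni'` : **(UNI)**; `ch_eq` : `[[N, K], B₀]` is the same for all blocks over one line.
-/

set_option autoImplicit false
set_option linter.unusedSectionVars false

namespace Cfsg.Agent.Omega.OM.Lev.Low.TorusK

open Subgroup Cfsg Cfsg.Agent.ZN Cfsg.Agent.ZN.ChoiceBase
open Cfsg.Agent.Omega.SQ1.Bau (mem_sup_comm card_sup_comm elem_comm elem_sq)
open Cfsg.Agent.Omega.NO3S.Level.Claim (Fm Bl cB mem_cB cB_le)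
open Cfsg.Agent.Omega.OM.Lev.Uni (FrL)
open Cfsg.Agent.Omega.OM.Lev.Low.TorusK.PBC
open scoped commutatorElement

universe u

variable {G : Type u} [Group G] {ι : Type} {S B Q V Xn ZJ B0 X M0 Y0 : Subgroup G} {L W Z C A : ι → Subgroup G} {z : G}
  {l : ι} {K N N1 N0 : Subgroup G}

namespace BK

/-- `[X, K] ≤ [N, K]` -/
theorem act [Finite G] (h : TK S B Q V Xn ZJ B0 X M0 Y0 L W Z C A z) (k : BK B B0 X M0 Y0 W l K N N1 N0) {g x : G}
    (hg : g ∈ K) (hx : x ∈ X) : g * x * g⁻¹ * x⁻¹ ∈ (⁅N, K⁆ : Subgroup G) := by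
  rw [← h.zB] at hx
  obtain ⟨c, hc, hcl, n, hn, rfl⟩ := k.pb.Z_split hx
  have h1 := k.pb.comm_mem hg (k.pb.N1N hn)
  have h2 : c * (g * n * g⁻¹ * n⁻¹) = (g * n * g⁻¹ * n⁻¹) * c :=
    ((ChoiceBase.mem_zc.1 hc).2.2 _ (k.pb.NB (k.pb.VN h1))).symm
  have e : g * (c * n) * g⁻¹ * (c * n)⁻¹ = g * n * g⁻¹ * n⁻¹ := by
    calc g * (c * n) * g⁻¹ * (c * n)⁻¹ = (g * c) * n * g⁻¹ * (n⁻¹ * c⁻¹) := by group
      _ = (c * g) * n * g⁻¹ * (n⁻¹ * c⁻¹) := by rw [hcl g hg]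
      _ = c * (g * n * g⁻¹ * n⁻¹) * c⁻¹ := by group
      _ = (g * n * g⁻¹ * n⁻¹) * c * c⁻¹ := by rw [h2]
      _ = _ := by group
  rw [e]
  exact h1

/-- a `K`-invariant `D ≤ N` containing an element `≠ 1` of `W l` contains `[N, K]` -/
theorem le_of [Finite G] (k : BK B B0 X M0 Y0 W l K N N1 N0) {D : Subgroup G} (hD : K ≤ normalizer (D : Set G)) {w : G}
    (hw : w ∈ W l) (hw1 : w ≠ 1) (hwD : w ∈ D) : ⁅N, K⁆ ≤ D := by
  have hU : K ≤ normalizer ((D ⊓ N : Subgroup G) : Set G) := fun g hg => by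
    rw [mem_normalizer_iff_cj, cj_inf, cj_eq_of_mem_normalizer (hD hg), cj_eq_of_mem_normalizer (k.pb.LN hg)]
  have hne : ¬ D ⊓ N ≤ N0 := fun hle => hw1 (by
    have h1 : w ∈ W l ⊓ N0 := ⟨hw, hle ⟨hwD, k.pb.N1N (k.WN hw)⟩⟩
    rwa [k.WN0, mem_bot] at h1)
  rw [Subgroup.commutator_le]
  intro v hv g hg
  obtain ⟨u, hu, n, hn, rfl⟩ := k.pb.cover inf_le_right hU hne hv
  have h1 : ⁅u * n, g⁆ = u * (g * u⁻¹ * g⁻¹) := by
    rw [commutatorElement_def]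
    have h2 := k.pb.N0c g hg n⁻¹ (inv_mem hn)
    calc u * n * g * (u * n)⁻¹ * g⁻¹ = u * n * (g * n⁻¹) * u⁻¹ * g⁻¹ := by group
      _ = u * n * (n⁻¹ * g) * u⁻¹ * g⁻¹ := by rw [h2]
      _ = _ := by group
  rw [h1]
  exact mul_mem hu.1 ((mem_normalizer_iff.1 (hD hg) _).1 (inv_mem hu.1))

/-- elements of `W l` centralised by `K` -/
theorem W_cen (k : BK B B0 X M0 Y0 W l K N N1 N0) {w : G} (hw : w ∈ W l) (hc : ∀ g ∈ K, g * w = w * g) : w = 1 := by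
  obtain ⟨t, ht, -, -, hf⟩ := k.tor
  exact hf w hw (by rw [hc t ht]; group)

/-- if `e = w c` with `1 ≠ w ∈ W l`, `c` centralised by `K`, is in the `K`-invariant group `D`, then `[N, K] ≤ D` -/
theorem le_of' [Finite G] (k : BK B B0 X M0 Y0 W l K N N1 N0) {D : Subgroup G} (hD : K ≤ normalizer (D : Set G))
    {w c : G} (hw : w ∈ W l) (hw1 : w ≠ 1) (hc : ∀ g ∈ K, g * c = c * g) (hwD : w * c ∈ D) : ⁅N, K⁆ ≤ D := by
  obtain ⟨t, ht, -, htW, hf⟩ := k.tor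
  refine k.le_of hD (w := t * w * t⁻¹ * w⁻¹) (mul_mem (htW w hw) (inv_mem hw)) (fun e => hw1 (hf w hw ?_)) ?_
  · exact mul_inv_eq_one.1 e
  · have h1 := mul_mem ((mem_normalizer_iff.1 (hD ht) _).1 hwD) (inv_mem hwD)
    have e : t * (w * c) * t⁻¹ * (w * c)⁻¹ = t * w * t⁻¹ * w⁻¹ := by
      have h2 := hc t ht
      calc t * (w * c) * t⁻¹ * (w * c)⁻¹ = t * w * (c * t⁻¹) * c⁻¹ * w⁻¹ := by group
        _ = t * w * (t⁻¹ * (t * c) * t⁻¹) * c⁻¹ * w⁻¹ := by group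
        _ = t * w * (t⁻¹ * (c * t) * t⁻¹) * c⁻¹ * w⁻¹ := by rw [h2]
        _ = _ := by group
    rw [e] at h1
    exact h1

theorem VB0 [Finite G] (k : BK B B0 X M0 Y0 W l K N N1 N0) : ⁅N, K⁆ ≤ B0 := k.pb.VN.trans k.pb.NB

theorem VY0 [Finite G] (k : BK B B0 X M0 Y0 W l K N N1 N0) : ⁅N, K⁆ ≤ Y0 := k.pb.VN.trans k.NY

end BK

/-- the group `E ∩ C(X) ∩ Y₀` -/
theorem exists_U_aux [Finite G] (h : TK S B Q V Xn ZJ B0 X M0 Y0 L W Z C A z) {E : Subgroup G}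
    (hE : IsElementaryAbelian 2 E) (hEB : ∀ e ∈ E, (∀ x ∈ X, e * x = x * e) → e ∈ B0) :
    ∃ U : Subgroup G, IsElementaryAbelian 2 U ∧ U ≤ B0 ∧ U ≤ Y0 ∧ U ≤ E ∧ ∀ l K N N1 N0, BK B B0 X M0 Y0 W l K N N1 N0 →
      K ≤ normalizer (E : Set G) → (∃ w ∈ W l, w ≠ 1 ∧ ∃ c, (∀ g ∈ K, g * c = c * g) ∧ w * c ∈ E) →
        ⁅N, K⁆ ≤ U ∧ K ≤ normalizer (U : Set G) := by
  refine ⟨E ⊓ centralizer (X : Set G) ⊓ Y0, Cfsg.Agent.PLocal.ThompsonJ.isElementaryAbelian_mono hE (inf_le_left.trans inf_le_left), ?_, inf_le_right,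
    inf_le_left.trans inf_le_left, ?_⟩
  · rintro e ⟨⟨h1, h2⟩, -⟩
    exact hEB e h1 fun x hx => (mem_centralizer_iff.1 h2 x hx).symm
  · rintro l K N N1 N0 k hKE ⟨w, hw, hw1, c, hc, hwc⟩
    have hVE : ⁅N, K⁆ ≤ E := k.le_of' hKE hw hw1 hc hwc
    refine ⟨le_inf (le_inf hVE fun v hv => mem_centralizer_iff.2 fun x hx => ?_) k.VY0, ?_⟩
    · exact (h.cX (k.VB0 hv) hx).symm
    · intro g hg
      have key : ∀ g ∈ K, cj g (E ⊓ centralizer (X : Set G) ⊓ Y0) ≤ E ⊓ centralizer (X : Set G) ⊓ Y0 := by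
        intro g hg y hy0
        obtain ⟨y, ⟨⟨hyE, hyX⟩, hyY⟩, rfl⟩ := ex_cj hy0
        refine ⟨⟨(mem_normalizer_iff.1 (hKE hg) _).1 hyE, mem_centralizer_iff.2 fun x hx => ?_⟩,
          (mem_normalizer_iff.1 (h.MY (k.KM hg)) _).1 hyY⟩
        have h1 := k.act h (inv_mem hg) hx
        have h2 : y * (g⁻¹ * x * g⁻¹⁻¹ * x⁻¹) = (g⁻¹ * x * g⁻¹⁻¹ * x⁻¹) * y := elem_comm hE y hyE _ (hVE h1)
        have h3 : x * y = y * x := mem_centralizer_iff.1 hyX x hx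
        have h4 : y * (g⁻¹ * x * g) = (g⁻¹ * x * g) * y := by
          calc y * (g⁻¹ * x * g) = y * (g⁻¹ * x * g⁻¹⁻¹ * x⁻¹) * x := by group
            _ = (g⁻¹ * x * g⁻¹⁻¹ * x⁻¹) * (y * x) := by rw [h2]; group
            _ = (g⁻¹ * x * g⁻¹⁻¹ * x⁻¹) * (x * y) := by rw [h3]
            _ = _ := by group
        calc x * (g * y * g⁻¹) = g * ((g⁻¹ * x * g) * y) * g⁻¹ := by group
          _ = g * (y * (g⁻¹ * x * g)) * g⁻¹ := by rw [h4]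
          _ = _ := by group
      exact mem_normalizer_of_cj_le (key g hg)

namespace TK

variable (h : TK S B Q V Xn ZJ B0 X M0 Y0 L W Z C A z)
include h

theorem exists_Z (i : ι) : ∃ x ∈ Z i, x ≠ 1 := by
  by_contra hc
  push Not at hc
  have h1 : Z i = ⊥ := eq_bot_iff.2 fun x hx => mem_bot.2 (hc x hx)
  have h2 := h.fr.cardZ i
  rw [h1, Subgroup.card_bot] at h2
  omega

/-- **the common group for the blocks over one line** -/
theorem exists_U1 [Finite G] (l : ι) : ∃ U : Subgroup G, IsElementaryAbelian 2 U ∧ U ≤ B0 ∧ U ≤ Y0 ∧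
    ∀ K N N1 N0, BK B B0 X M0 Y0 W l K N N1 N0 → ⁅N, K⁆ ≤ U ∧ K ≤ normalizer (U : Set G) := by
  obtain ⟨E, hE, hEB, hZE, hn⟩ := h.loc1 l
  obtain ⟨U, h1, h2, h3, -, h4⟩ := exists_U_aux h hE fun e he hc => h.mX e (h.BS (hEB he)) hc
  refine ⟨U, h1, h2, h3, fun K N N1 N0 k => ?_⟩
  obtain ⟨x, hx, hx1⟩ := h.exists_Z l
  refine h4 l K N N1 N0 k (fun g hg => hn g fun p hp y hy => k.cW p hp y (h.ZW p hy) g hg) ⟨x, h.ZW l hx, hx1, 1, by simp, ?_⟩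
  rw [mul_one]
  exact hZE (h.fr.Z_le l hx)

/-- **the common group for the blocks over two lines** -/
theorem exists_U2 [Finite G] {l m : ι} (hlm : l ≠ m) : ∃ U : Subgroup G, IsElementaryAbelian 2 U ∧ U ≤ B0 ∧ U ≤ Y0 ∧
    (∀ K N N1 N0, BK B B0 X M0 Y0 W l K N N1 N0 → ⁅N, K⁆ ≤ U ∧ K ≤ normalizer (U : Set G)) ∧
    ∀ K N N1 N0, BK B B0 X M0 Y0 W m K N N1 N0 → ⁅N, K⁆ ≤ U ∧ K ≤ normalizer (U : Set G) := by
  obtain ⟨E, hE, hEB, hZE, hn⟩ := h.loc2 l m hlm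
  obtain ⟨U, h1, h2, h3, -, h4⟩ := exists_U_aux h hE hEB
  obtain ⟨x, hx, hx1⟩ := h.exists_Z l
  obtain ⟨y, hy, hy1⟩ := h.exists_Z m
  have hxy := hZE x hx y hy hx1 hy1
  have hcm : x * y = y * x := h.fr.Vc (h.fr.ZV l hx) (h.fr.ZV m hy)
  refine ⟨U, h1, h2, h3, fun K N N1 N0 k => ?_, fun K N N1 N0 k => ?_⟩
  · exact h4 l K N N1 N0 k (fun g hg => hn g fun p hp _ y hy => k.cW p hp y (h.ZW p hy) g hg)
      ⟨x, h.ZW l hx, hx1, y, fun g hg => k.cW m (Ne.symm hlm) y (h.ZW m hy) g hg, hxy⟩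
  · exact h4 m K N N1 N0 k (fun g hg => hn g fun p _ hp y hy => k.cW p hp y (h.ZW p hy) g hg)
      ⟨y, h.ZW m hy, hy1, x, fun g hg => k.cW l hlm x (h.ZW l hx) g hg, by rw [← hcm]; exact hxy⟩

end TK

namespace BK

/-- `Claim.Bl` on `U` -/
theorem bl [Finite G] (h : TK S B Q V Xn ZJ B0 X M0 Y0 L W Z C A z) (k : BK B B0 X M0 Y0 W l K N N1 N0)
    {U H : Subgroup G} {AA : Set (Subgroup G)} (f : Fm S U H B0 (U ⊓ X) AA) (hV : ⁅N, K⁆ ≤ U)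
    (hK : K ≤ normalizer (U : Set G)) (hH : K ≤ H) : Bl S U H B0 (U ⊓ X) AA K ⁅N, K⁆ :=
  BlOf.bl_V k.pb f (by rw [h.zB]) hV hH hK

/-- an element of `[[N, K], B₀]` not centralised by any block over the same line -/
theorem exists_nc [Finite G] (k : BK B B0 X M0 Y0 W l K N N1 N0) {K' : Subgroup G}
    (hK' : ∀ w ∈ W l, (∀ g ∈ K', g * w = w * g) → w = 1) (hc : Nat.card (W l) = 4) :
    ∃ b ∈ B0, ∃ v ∈ (⁅N, K⁆ : Subgroup G), b * v * b⁻¹ * v⁻¹ ∉ centralizer (K' : Set G) := by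
  by_contra hcon
  push Not at hcon
  -- an element of `[N, K] - N₁`
  obtain ⟨v, hv, hv1⟩ := k.pb.exists_v
  obtain ⟨u, hu, n, hn, rfl⟩ := k.pb.exists_V hv
  have hu1 : u ∉ N1 := fun h1 => hv1 (mul_mem h1 (k.pb.N01 hn))
  have huN := k.pb.VN hu
  -- an element of `W l`
  obtain ⟨w, hw, hw1⟩ : ∃ w ∈ W l, w ≠ 1 := by
    by_contra h0
    push Not at h0
    have h1 : W l = ⊥ := eq_bot_iff.2 fun x hx => mem_bot.2 (h0 x hx)
    rw [h1, Subgroup.card_bot] at hc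
    omega
  obtain ⟨b, hb, n0, hn0, e⟩ := k.pb.line huN hu1 (k.WN hw)
  obtain ⟨t, ht, htB, htW, hf⟩ := k.tor
  have h1 := hcon b hb u hu
  have htb : t * b * t⁻¹ ∈ B0 := (mem_normalizer_iff.1 htB b).1 hb
  have htu : t * u * t⁻¹ ∈ (⁅N, K⁆ : Subgroup G) := (mem_normalizer_iff.1 (k.pb.LV ht) u).1 hu
  have h2 := hcon _ htb _ htu
  have e1 : b * u * b⁻¹ * u⁻¹ = w * n0⁻¹ := by rw [e]; group
  have e2 : t * b * t⁻¹ * (t * u * t⁻¹) * (t * b * t⁻¹)⁻¹ * (t * u * t⁻¹)⁻¹ = t * (b * u * b⁻¹ * u⁻¹) * t⁻¹ := by group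
  have e3 : t * (w * n0⁻¹) * t⁻¹ * (w * n0⁻¹)⁻¹ = t * w * t⁻¹ * w⁻¹ := by
    have h3 := k.pb.N0c t ht n0 hn0
    calc t * (w * n0⁻¹) * t⁻¹ * (w * n0⁻¹)⁻¹ = t * w * (n0⁻¹ * t⁻¹) * n0 * w⁻¹ := by group
      _ = t * w * ((t * n0)⁻¹) * n0 * w⁻¹ := by group
      _ = t * w * ((n0 * t)⁻¹) * n0 * w⁻¹ := by rw [h3]
      _ = _ := by group
  have h4 : t * w * t⁻¹ * w⁻¹ ∈ centralizer (K' : Set G) := by
    rw [← e3, ← e1, ← e2]
    exact mul_mem h2 (inv_mem h1)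
  have h5 := hK' _ (mul_mem (htW w hw) (inv_mem hw)) fun g hg => mem_centralizer_iff.1 h4 g hg
  exact hw1 (hf w hw (mul_inv_eq_one.1 h5))

end BK

variable {K' N' N1' N0' : Subgroup G}

/-- **(UNI)** -/
theorem uni' [Finite G] (h : TK S B Q V Xn ZJ B0 X M0 Y0 L W Z C A z) (k : BK B B0 X M0 Y0 W l K N N1 N0)
    (k' : BK B B0 X M0 Y0 W l K' N' N1' N0') :
    ⁅N', K'⁆ ≤ ⁅N, K⁆ ⊔ X ∧ cB B0 ⁅N, K⁆ = cB B0 ⁅N', K'⁆ := by
  obtain ⟨U, hU, hUB, hUY, hall⟩ := h.exists_U1 l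
  obtain ⟨h1, h2⟩ := hall K N N1 N0 k
  obtain ⟨h1', h2'⟩ := hall K' N' N1' N0' k'
  obtain ⟨AA, f, -⟩ := h.fml U (normalizer (U : Set G) ⊓ M0) hU hUB hUY inf_le_left inf_le_right
  have b1 := k.bl h f h1 h2 (le_inf h2 k.KM)
  have b2 := k'.bl h f h1' h2' (le_inf h2' k'.KM)
  have hm := k'.exists_nc (K' := K) (fun w hw hc => k.W_cen hw hc) (h.cardW l)
  exact ⟨(uni f b1 b2 hm).trans (sup_le_sup_left inf_le_right _), cB_eq f b1 b2 hm⟩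

/-- `[V X, B₀] = [V, B₀]` -/
theorem comm_supX [Finite G] (h : TK S B Q V Xn ZJ B0 X M0 Y0 L W Z C A z) {D D' : Subgroup G} (hD' : D' ≤ D ⊔ X)
    (hD : D ≤ B0) : ⁅D', B0⁆ ≤ ⁅D, B0⁆ := by
  rw [Subgroup.commutator_le]
  intro v hv b hb
  obtain ⟨d, hd, x, hx, rfl⟩ := mem_sup_comm (fun a ha b hb => h.cX (hD ha) hb) (hD' hv)
  have h1 : ⁅d * x, b⁆ = ⁅d, b⁆ := by
    rw [commutatorElement_def, commutatorElement_def]
    have h2 := h.cX hb hx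
    calc d * x * b * (d * x)⁻¹ * b⁻¹ = d * (x * b) * x⁻¹ * d⁻¹ * b⁻¹ := by group
      _ = d * (b * x) * x⁻¹ * d⁻¹ * b⁻¹ := by rw [h2]
      _ = _ := by group
  rw [h1]
  exact commutator_mem_commutator hd hb

/-- `[[N, K], B₀]` depends only on the line -/
theorem ch_eq [Finite G] (h : TK S B Q V Xn ZJ B0 X M0 Y0 L W Z C A z) (k : BK B B0 X M0 Y0 W l K N N1 N0)
    (k' : BK B B0 X M0 Y0 W l K' N' N1' N0') : ⁅⁅N, K⁆, B0⁆ = ⁅⁅N', K'⁆, B0⁆ :=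
  le_antisymm (comm_supX h (uni' h k' k).1 k'.VB0) (comm_supX h (uni' h k k').1 k.VB0)

end Cfsg.Agent.Omega.OM.Lev.Low.TorusK

end

section


/-!
# TORUS, `k ≥ 3` (helper607 #23961): the last page, abstract form

`K m` acts on `F m` (order `16`) as `SL₂(4)`, `W m` a line of `F m`, `B0` the common root group. `R m ⊴ K m`,
`K m = R m (K m ∩ B0)` centralises `F l`, `l ≠ m`.

* `Dt` : the data;
* `Dt.inf_cen` : `C_(F m)(R m) = 1`; `comm`, `dir` : the `F m` form a direct product; `zn` : `z` has full support;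
* `Dt.perm` : `L = ⟨K i0, S⟩` permutes the pairs `(F m, lines)`  (uses (Sig));
* `Dt.false` : **contradiction**.
-/

set_option autoImplicit false
set_option linter.unusedSectionVars false
set_option linter.unusedVariables false

namespace Cfsg.Agent.Omega.OM.Lev.Low.TorusK.EndD

open Subgroup Cfsg Cfsg.Agent.ZN Cfsg.Agent.ZN.ChoiceBase
open Cfsg.Agent.Omega.OM.Lev.Low.TorusK.Sig (cn cn_cn cn_mul cn_inv cn_one cn_inv_cn cn_cn_inv cn_eq_self cn_inj mem_of_norm)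

universe u

variable {G : Type u} [Group G]

/-- `F` is irreducible. -/
theorem irr [Finite G] {B0 K V V1 : Subgroup G} (h : Sig.M4 B0 K V V1) {l0 : G} (hl0 : l0 ∈ K) (hne : cj l0 V1 ≠ V1)
    {C : Subgroup G} (hCV : C ≤ V) (hK : ∀ k ∈ K, ∀ u ∈ C, cn k u ∈ C) {u : G} (hu : u ∈ C) (hu1 : u ≠ 1) : V ≤ C := by
  have h1 : ∀ v ∈ C, v ∉ V1 → V1 ≤ C := by
    intro v hv hv1 x hx
    obtain ⟨b, hb, e⟩ := h.full (hCV hv) hv1 hx
    have e2 : x = cn b v * v⁻¹ := by rw [e]; group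
    rw [e2]
    exact mul_mem (hK b (h.BK hb) v hv) (inv_mem hv)
  have h2 : V1 ≤ C := by
    by_cases hu2 : u ∈ V1
    · refine h1 (cn l0 u) (hK l0 hl0 u hu) fun h3 => ?_
      exact hu1 (h.opp l0 hl0 hne u hu2 h3)
    · exact h1 u hu hu2
  intro v hv
  obtain ⟨p, hp, q, hq, rfl⟩ := h.compl hl0 hne hv
  obtain ⟨w, hw, rfl⟩ := hq
  exact mul_mem (h2 hp) (hK l0 hl0 w (h2 hw))

/-- The data of the last page. -/
structure Dt {ι : Type*} (S B B0 X : Subgroup G) (K F W R : ι → Subgroup G) (i0 : ι) (z : G) : Prop where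
  two : IsPGroup 2 S
  BS : B ≤ S
  B0B : B0 ≤ B
  SB : S ≤ normalizer (B : Set G)
  SB0 : S ≤ normalizer (B0 : Set G)
  n4 : ∀ m, TorusK.N4 B0 (K m) (F m) (W m)
  FX : ∀ m, F m ⊓ X = W m
  FB0 : ∀ m, F m ≤ B0
  perm : ∀ s ∈ S, ∀ i, ∃ j, cj s (W i) = W j ∧ cj s (F i) = F j
  tr : ∀ m, ∃ s ∈ S, cj s (K i0) = K m ∧ cj s (W i0) = W m
  RK : ∀ m, R m ≤ K m
  KR : ∀ m, K m ≤ normalizer (R m : Set G)
  KRB : ∀ m, K m ≤ R m ⊔ B0
  RF : ∀ m l, l ≠ m → ∀ r ∈ R m, ∀ f ∈ F l, r * f = f * r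
  BW : B ≤ normalizer (W i0 : Set G)
  /-- `B` permutes the lines of `K i0` -/
  BL : ∀ b ∈ B, ∀ k ∈ K i0, ∃ k' ∈ K i0, cj b (cj k (W i0)) = cj k' (W i0)
  fx : ∃ x ∈ W i0, x ≠ 1 ∧ ∀ s ∈ S, s ∈ normalizer (W i0 : Set G) → s * x = x * s
  mv : ∃ t ∈ B, ∃ v ∈ W i0, t * v ≠ v * t
  syl : ∀ s ∈ S, s ∈ normalizer (W i0 : Set G) → ∀ T : Subgroup G, IsPGroup 2 T → B ≤ T →
    T ≤ K i0 ⊔ cj s (K i0) ⊔ B → T ≤ B
  zW : z ∈ ⨆ i, W i
  zn0 : ∀ i, z ∉ ⨆ (l) (_ : l ≠ i), W l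
  fact : ∀ H : Subgroup G, S ≤ H → (∃ U : Subgroup G, U ≠ ⊥ ∧ IsPGroup 2 U ∧ H ≤ normalizer (U : Set G)) →
    H ≤ (H ⊓ normalizer (X : Set G)) ⊔ (H ⊓ centralizer ({z} : Set G))

namespace Dt

variable {ι : Type*} {S B B0 X : Subgroup G} {K F W R : ι → Subgroup G} {i0 : ι} {z : G}
  (D : Dt S B B0 X K F W R i0 z)
include D

theorem m4 (m : ι) : Sig.M4 B0 (K m) (F m) (W m) := (SigN4.toSig (D.n4 m)).toM4

theorem mvK (m : ι) : ∃ l ∈ K m, cj l (W m) ≠ W m := by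
  obtain ⟨l, hl, v, hv, hne⟩ := (D.n4 m).mv
  refine ⟨l, hl, fun e => hne ?_⟩
  rw [← e]
  exact ⟨v, hv, rfl⟩

theorem WF (m : ι) : W m ≤ F m := (D.n4 m).V1V

/-- `C_(F m)(R m) = 1` -/
theorem inf_cen [Finite G] (m : ι) {u : G} (hu : u ∈ F m) (hc : ∀ r ∈ R m, r * u = u * r) : u = 1 := by
  by_contra hu1
  obtain ⟨l, hl, hne⟩ := D.mvK m
  have h1 : F m ≤ F m ⊓ centralizer (R m : Set G) := by
    refine irr (D.m4 m) hl hne inf_le_left ?_ (mem_inf.2 ⟨hu, mem_centralizer_iff.2 hc⟩) hu1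
    rintro k hk v ⟨hv, hvc⟩
    refine mem_inf.2 ⟨mem_of_norm ((D.n4 m).KV hk) hv, mem_centralizer_iff.2 fun r hr => ?_⟩
    have h2 : k⁻¹ * r * k ∈ R m := by
      have := (mem_normalizer_iff.1 (inv_mem (D.KR m hk)) r).1 hr
      rwa [inv_inv] at this
    have h3 := mem_centralizer_iff.1 hvc _ h2
    show r * (k * v * k⁻¹) = k * v * k⁻¹ * r
    calc r * (k * v * k⁻¹) = k * (k⁻¹ * r * k * v) * k⁻¹ := by group
      _ = k * (v * (k⁻¹ * r * k)) * k⁻¹ := by rw [h3]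
      _ = k * v * k⁻¹ * r := by group
  have h4 : R m ⊔ B0 ≤ centralizer (W m : Set G) := by
    refine sup_le (fun r hr => mem_centralizer_iff.2 fun w hw => ?_) fun b hb => mem_centralizer_iff.2 fun w hw => ?_
    · exact (mem_centralizer_iff.1 (h1 (D.WF m hw)).2 r hr).symm
    · exact ((D.n4 m).c1 b hb w hw).symm
  apply hne
  have h5 := D.KRB m hl
  refine mem_normalizer_iff_cj.1 (centralizer_le_normalizer _ (h4 h5))

theorem comm [Finite G] {i l : ι} (hil : i ≠ l) {u v : G} (hu : u ∈ F i) (hv : v ∈ F l) : u * v = v * u := by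
  have h1 : u * v * u⁻¹ * v⁻¹ ∈ F l :=
    mul_mem (mem_of_norm ((D.n4 l).KV ((D.n4 l).BK (D.FB0 i hu))) hv) (inv_mem hv)
  have h2 : u * v * u⁻¹ * v⁻¹ ∈ F i := by
    have e : u * v * u⁻¹ * v⁻¹ = u * (v * u⁻¹ * v⁻¹) := by group
    rw [e]
    exact mul_mem hu (mem_of_norm ((D.n4 i).KV ((D.n4 i).BK (D.FB0 l hv))) (inv_mem hu))
  have h3 := D.inf_cen i h2 fun r hr => D.RF i l (Ne.symm hil) r hr _ h1
  have h4 : u * v * (v * u)⁻¹ = 1 := by rw [← h3]; group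
  exact mul_inv_eq_one.1 h4

theorem RU (i : ι) : (⨆ (l) (_ : l ≠ i), F l) ≤ centralizer (R i : Set G) :=
  iSup₂_le fun l hl f hf => mem_centralizer_iff.2 fun r hr => D.RF i l hl r hr f hf

theorem dir [Finite G] (i : ι) : F i ⊓ ⨆ (l) (_ : l ≠ i), F l = ⊥ := by
  rw [Subgroup.eq_bot_iff_forall]
  rintro u ⟨hu, hu'⟩
  exact D.inf_cen i hu fun r hr => mem_centralizer_iff.1 (D.RU i hu') r hr

theorem zn [Finite G] (i : ι) : z ∉ ⨆ (l) (_ : l ≠ i), F l := by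
  intro hz
  have h1 : ⨆ i, W i ≤ W i ⊔ ⨆ (l) (_ : l ≠ i), W l := by
    refine iSup_le fun l => ?_
    by_cases e : l = i
    · subst e
      exact le_sup_left
    · exact le_trans (le_iSup₂ (f := fun (l : ι) (_ : l ≠ i) => W l) l e) le_sup_right
  have h2 : (⨆ (l) (_ : l ≠ i), W l) ≤ ⨆ (l) (_ : l ≠ i), F l := iSup₂_mono fun l _ => D.WF l
  have hcm : ∀ p ∈ W i, ∀ q ∈ ⨆ (l) (_ : l ≠ i), W l, p * q = q * p := by
    intro p hp q hq
    have h3 : (⨆ (l) (_ : l ≠ i), W l) ≤ centralizer ({p} : Set G) := iSup₂_le fun l hl w hw => by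
      rw [mem_centralizer_singleton_iff]
      exact (D.comm (Ne.symm hl) (D.WF i hp) (D.WF l hw)).symm
    exact (mem_centralizer_singleton_iff.1 (h3 hq)).symm
  obtain ⟨p, hp, q, hq, e⟩ := EndK.mem_sup_comm hcm (h1 D.zW)
  have hp1 : p = 1 := by
    refine D.inf_cen i (D.WF i hp) fun r hr => ?_
    have e1 := mem_centralizer_iff.1 (D.RU i hz) r hr
    have e2 := mem_centralizer_iff.1 (D.RU i (h2 hq)) r hr
    have e3 : p = z * q⁻¹ := by rw [e]; group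
    rw [e3]
    calc r * (z * q⁻¹) = r * z * q⁻¹ := by group
      _ = z * (r * q⁻¹) := by rw [e1]; group
      _ = z * (q⁻¹ * (q * r) * q⁻¹) := by group
      _ = z * (q⁻¹ * (r * q) * q⁻¹) := by rw [e2]
      _ = z * q⁻¹ * r := by group
  rw [hp1, one_mul] at e
  exact D.zn0 i (e ▸ hq)

/-- the lines of `F i` -/
def Ln (K W : ι → Subgroup G) (i : ι) : Set (Subgroup G) := {ℓ | ∃ k ∈ K i, ℓ = cj k (W i)}

omit D in
/-- `g` maps `(F i, lines)` to `(F j, lines)` -/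
def Pm (K F W : ι → Subgroup G) (i j : ι) (g : G) : Prop :=
  cj g (F i) = F j ∧ ∀ ℓ ∈ Ln K W i, cj g ℓ ∈ Ln K W j

omit D in
theorem Pm.mul {K F W : ι → Subgroup G} {i j l : ι} {g g' : G} (h : Pm K F W j l g) (h' : Pm K F W i j g') :
    Pm K F W i l (g * g') :=
  ⟨by rw [← cj_cj, h'.1, h.1], fun ℓ hℓ => by rw [← cj_cj]; exact h.2 _ (h'.2 ℓ hℓ)⟩

omit D in
theorem Pm.one {K F W : ι → Subgroup G} (i : ι) : Pm K F W i i 1 := ⟨cj_one _, fun ℓ hℓ => by rwa [cj_one]⟩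

/-- (Sig) -/
theorem sig [Finite G] : ∀ s ∈ S, s ∈ normalizer (W i0 : Set G) → ∀ k ∈ K i0, ∃ k' ∈ K i0,
    cj s (cj k (W i0)) = cj k' (W i0) := by
  intro s hs hsW
  obtain ⟨x, hx, hx1, hxc⟩ := D.fx
  obtain ⟨t, ht, hmv⟩ := D.mv
  have hFn : S ⊓ normalizer (W i0 : Set G) ≤ normalizer (F i0 : Set G) := by
    rintro s ⟨hs, hsW⟩
    obtain ⟨j, h1, h2⟩ := D.perm s hs i0
    rw [mem_normalizer_iff_cj.1 hsW] at h1
    have h3 : i0 = j := by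
      by_contra hne
      have h4 : W j ≤ F i0 ⊓ F j := le_inf (h1 ▸ D.WF i0) (D.WF j)
      have h5 : F i0 ⊓ F j ≤ F i0 ⊓ ⨆ (l) (_ : l ≠ i0), F l :=
        inf_le_inf_left _ (le_iSup₂_of_le j (Ne.symm hne) le_rfl)
      rw [D.dir i0] at h5
      have h6 := (D.n4 j).card1
      rw [eq_bot_iff.2 (h4.trans h5), Subgroup.card_bot] at h6
      omega
    rw [← h3] at h2
    exact mem_normalizer_iff_cj.2 h2
  have hBS1 : B ≤ S ⊓ normalizer (W i0 : Set G) := le_inf D.BS D.BW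
  exact SigN4.sig' (D.n4 i0) (D.two.to_le inf_le_left) hBS1 D.B0B (inf_le_left.trans D.SB) (inf_le_left.trans D.SB0) hFn
    inf_le_right D.BL hx hx1 (fun s hs => hxc s hs.1 hs.2) ht hmv (fun s hs => D.syl s hs.1 hs.2) s ⟨hs, hsW⟩

/-- `S` permutes the pairs `(F i, lines)` -/
theorem pmS [Finite G] {s : G} (hs : s ∈ S) (i : ι) : ∃ j, Pm K F W i j s := by
  obtain ⟨j, h1, h2⟩ := D.perm s hs i
  refine ⟨j, h2, ?_⟩
  rintro _ ⟨k, hk, rfl⟩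
  obtain ⟨a, ha, ea, ea'⟩ := D.tr i
  obtain ⟨b, hb, eb, eb'⟩ := D.tr j
  rw [← ea] at hk
  obtain ⟨k0, hk0, rfl⟩ := hk
  change ∃ k ∈ K j, cj s (cj (a * k0 * a⁻¹) (W i)) = cj k (W j)
  have hs' : b⁻¹ * s * a ∈ S := mul_mem (mul_mem (inv_mem hb) hs) ha
  have hs'W : b⁻¹ * s * a ∈ normalizer (W i0 : Set G) := by
    rw [mem_normalizer_iff_cj, mul_assoc, ← cj_cj, ← cj_cj, ea', h1, ← eb', cj_inv_cj]
  obtain ⟨k', hk', e⟩ := D.sig _ hs' hs'W k0 hk0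
  refine ⟨b * k' * b⁻¹, ?_, ?_⟩
  · rw [← eb]
    exact ⟨k', hk', rfl⟩
  · rw [← ea', ← eb', cj_cj, cj_cj, cj_cj]
    have e2 := congrArg (cj b) e
    rw [cj_cj, cj_cj, cj_cj] at e2
    have e3 : s * (a * k0 * a⁻¹) * a = b * (b⁻¹ * s * a) * k0 := by group
    have e4 : b * k' * b⁻¹ * b = b * k' := by group
    rw [e3, e4]
    exact e2

theorem pmK [Finite G] (m i : ι) {g : G} (hg : g ∈ K m) : Pm K F W i i g := by
  let N : Subgroup G :=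
    { carrier := {g | Pm K F W i i g ∧ Pm K F W i i g⁻¹}
      one_mem' := ⟨Pm.one i, by rw [inv_one]; exact Pm.one i⟩
      mul_mem' := by
        rintro g g' ⟨h1, h2⟩ ⟨h3, h4⟩
        exact ⟨h1.mul h3, by rw [mul_inv_rev]; exact h4.mul h2⟩
      inv_mem' := by
        rintro g ⟨h1, h2⟩
        exact ⟨h2, by rwa [inv_inv]⟩ }
  have hKi : ∀ g ∈ K i, Pm K F W i i g := by
    intro g hg
    refine ⟨mem_normalizer_iff_cj.1 ((D.n4 i).KV hg), ?_⟩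
    rintro _ ⟨k, hk, rfl⟩
    exact ⟨g * k, mul_mem hg hk, cj_cj _ _ _⟩
  have hKN : K i ≤ N := fun g hg => ⟨hKi g hg, hKi _ (inv_mem hg)⟩
  by_cases him : i = m
  · subst him
    exact hKi g hg
  · have hR : ∀ r ∈ R m, Pm K F W i i r := by
      intro r hr
      have h1 : ∀ H : Subgroup G, H ≤ F i → cj r H = H := by
        intro H hH
        have h2 : r ∈ centralizer (H : Set G) := mem_centralizer_iff.2 fun h hh => (D.RF m i him r hr h (hH hh)).symm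
        exact mem_normalizer_iff_cj.1 (centralizer_le_normalizer _ h2)
      refine ⟨h1 _ le_rfl, ?_⟩
      rintro _ ⟨k, hk, rfl⟩
      rw [h1 _ ((D.m4 i).lineV hk)]
      exact ⟨k, hk, rfl⟩
    have hRN : R m ≤ N := fun g hg => ⟨hR g hg, hR _ (inv_mem hg)⟩
    have h3 : K m ≤ N := (D.KRB m).trans (sup_le hRN ((D.n4 i).BK.trans hKN))
    exact (h3 hg).1

/-- **`L = ⟨K i0, S⟩` permutes the pairs.** -/
theorem pm [Finite G] {g : G} (hg : g ∈ K i0 ⊔ S) (i : ι) : ∃ j, Pm K F W i j g := by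
  let N : Subgroup G :=
    { carrier := {g | (∀ i, ∃ j, Pm K F W i j g) ∧ ∀ i, ∃ j, Pm K F W i j g⁻¹}
      one_mem' := ⟨fun i => ⟨i, Pm.one i⟩, fun i => ⟨i, by rw [inv_one]; exact Pm.one i⟩⟩
      mul_mem' := by
        rintro g g' ⟨h1, h2⟩ ⟨h3, h4⟩
        refine ⟨fun i => ?_, fun i => ?_⟩
        · obtain ⟨j, hj⟩ := h3 i
          obtain ⟨l, hl⟩ := h1 j
          exact ⟨l, hl.mul hj⟩
        · obtain ⟨j, hj⟩ := h2 i
          obtain ⟨l, hl⟩ := h4 j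
          exact ⟨l, by rw [mul_inv_rev]; exact hl.mul hj⟩
      inv_mem' := by
        rintro g ⟨h1, h2⟩
        exact ⟨h2, by simpa using h1⟩ }
  have h1 : K i0 ⊔ S ≤ N := sup_le (fun g hg => ⟨fun i => ⟨i, D.pmK i0 i hg⟩, fun i => ⟨i, D.pmK i0 i (inv_mem hg)⟩⟩)
    fun g hg => ⟨fun i => D.pmS hg i, fun i => D.pmS (inv_mem hg) i⟩
  exact (h1 hg).1 i

/-- **CONTRADICTION.** -/
theorem false [Finite G] : False := by
  have hSys : EndK.Sys (K i0 ⊔ S) F W (Ln K W) z :=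
    { comm := fun i l hil u hu v hv => D.comm hil hu hv
      dir := D.dir
      le := by
        rintro i _ ⟨k, hk, rfl⟩
        exact (D.m4 i).lineV hk
      mem := fun i => ⟨1, one_mem _, (cj_one _).symm⟩
      spr := by
        rintro i _ ⟨k, hk, rfl⟩ _ ⟨k', hk', rfl⟩ u hu hu' hu1
        exact (D.m4 i).spread hk hk' hu hu' hu1
      perm := fun g hg i => D.pm hg i
      zV := D.zW
      zn := D.zn }
  -- `L` is local
  have hloc : ∃ U : Subgroup G, U ≠ ⊥ ∧ IsPGroup 2 U ∧ K i0 ⊔ S ≤ normalizer (U : Set G) := by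
    refine ⟨⨆ i, F i, ?_, ?_, ?_⟩
    · intro e
      have h1 : F i0 ≤ ⊥ := by rw [← e]; exact le_iSup F i0
      have h2 := (D.n4 i0).card
      rw [eq_bot_iff.2 h1, Subgroup.card_bot] at h2
      omega
    · exact D.two.to_le ((iSup_le D.FB0).trans (D.B0B.trans D.BS))
    · intro g hg
      refine mem_normalizer_of_cj_le ?_
      rw [show cj g (⨆ i, F i) = (⨆ i, F i).map (MulAut.conj g).toMonoidHom from rfl, Subgroup.map_iSup]
      refine iSup_le fun i => ?_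
      obtain ⟨j, e, -⟩ := D.pm hg i
      rw [show (F i).map (MulAut.conj g).toMonoidHom = cj g (F i) from rfl, e]
      exact le_iSup F j
  have hf := D.fact _ le_sup_right hloc
  have hcj : ∀ g ∈ K i0 ⊔ S, g ∈ normalizer (X : Set G) → cj g (⨆ i, W i) ≤ ⨆ i, W i := by
    intro g hg hgX
    rw [show cj g (⨆ i, W i) = (⨆ i, W i).map (MulAut.conj g).toMonoidHom from rfl, Subgroup.map_iSup]
    refine iSup_le fun i => ?_
    obtain ⟨j, e, -⟩ := D.pm hg i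
    rw [show (W i).map (MulAut.conj g).toMonoidHom = cj g (W i) from rfl, ← D.FX i, cj_inf, e,
      mem_normalizer_iff_cj.1 hgX, D.FX j]
    exact le_iSup W j
  obtain ⟨l, hl, hne⟩ := D.mvK i0
  refine hSys.false_of (gen := (((K i0 ⊔ S) ⊓ normalizer (X : Set G) : Subgroup G) : Set G) ∪
    (((K i0 ⊔ S) ⊓ centralizer ({z} : Set G) : Subgroup G) : Set G)) ?_ ?_ (x := l) (le_sup_left (a := K i0) hl) (i := i0)
    (mem_normalizer_iff_cj.1 ((D.n4 i0).KV hl)) hne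
  · rw [Subgroup.closure_union, Subgroup.closure_eq, Subgroup.closure_eq]
    exact hf
  · rintro g (⟨hg, hgX⟩ | ⟨hg, hgz⟩)
    · right
      exact mem_normalizer_iff_cj.1 (mem_normalizer_of_cj_le (hcj g hg hgX))
    · left
      exact ⟨hg, mem_centralizer_singleton_iff.1 hgz⟩

end Dt

end Cfsg.Agent.Omega.OM.Lev.Low.TorusK.EndD

end

section


/-!
# TORUS, `k ≥ 3` (helper607 #23961): the last page over `TK` and `BK`

* `false_of` : for a family `K m` of `S`-conjugate torus blocks over the lines `W m`;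
* `false_one` : for one torus block.
-/

set_option autoImplicit false
set_option linter.unusedSectionVars false
set_option linter.unusedVariables false

namespace Cfsg.Agent.Omega.OM.Lev.Low.TorusK.EndTK

open Subgroup Cfsg Cfsg.Agent.ZN Cfsg.Agent.ZN.ChoiceBase
open Cfsg.Agent.Omega.OM.Lev.Low

universe u

variable {G : Type u} [Group G]

variable {ι : Type} {S B Q V Xn ZJ B0 X M0 Y0 : Subgroup G} {L W Z C A : ι → Subgroup G} {z : G}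

theorem W_inj (h : TK S B Q V Xn ZJ B0 X M0 Y0 L W Z C A z) {i j : ι} (e : W i = W j) : i = j := by
  by_contra hne
  have h2 := h.fr.WjC i j hne
  rw [← e] at h2
  have h3 : W i ≤ W i ⊓ C i := le_inf le_rfl h2
  rw [h.fr.dir i] at h3
  have h4 := h.cardW i
  rw [eq_bot_iff.2 h3, Subgroup.card_bot] at h4
  omega

theorem F_le {l : ι} {K N N1 N0 : Subgroup G} (k : BK B B0 X M0 Y0 W l K N N1 N0) : ⁅N, K⁆ ≤ N := by
  rw [Subgroup.commutator_le]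
  intro v hv g hg
  rw [commutatorElement_def]
  have h1 := k.pb.Nn g hg v⁻¹ (inv_mem hv)
  have e : v * g * v⁻¹ * g⁻¹ = v * (g * v⁻¹ * g⁻¹) := by group
  rw [e]
  exact mul_mem hv h1

theorem cj_comm (s : G) (N K : Subgroup G) : cj s ⁅N, K⁆ = ⁅cj s N, cj s K⁆ := Subgroup.map_commutator _ _ _

/-- `z_l`: the elements of `S` which normalise `W l` centralise `Z l`. -/
theorem fx [Finite G] (h : TK S B Q V Xn ZJ B0 X M0 Y0 L W Z C A z) (i0 : ι) :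
    ∃ x ∈ W i0, x ≠ 1 ∧ ∀ s ∈ S, s ∈ normalizer (W i0 : Set G) → s * x = x * s := by
  have h1 : Z i0 ≠ ⊥ := by
    intro e
    have h2 := h.fr.cardZ i0
    rw [e, Subgroup.card_bot] at h2
    omega
  obtain ⟨⟨x, hx⟩, hx1'⟩ := Subgroup.ne_bot_iff_exists_ne_one.1 h1
  have hx1 : x ≠ 1 := fun e => hx1' (Subtype.ext e)
  refine ⟨x, h.ZW i0 hx, hx1, fun s hs hsW => ?_⟩
  obtain ⟨j, e1, e2, -⟩ := h.perm s hs i0
  rw [mem_normalizer_iff_cj.1 hsW] at e1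
  have e3 := W_inj h e1
  rw [← e3] at e2
  have h3 : s * x * s⁻¹ ∈ Z i0 := by
    have : s * x * s⁻¹ ∈ cj s (Z i0) := ⟨x, hx, rfl⟩
    rwa [e2] at this
  have h4 : s * x * s⁻¹ ≠ 1 := by
    intro e
    apply hx1
    calc x = s⁻¹ * (s * x * s⁻¹) * s := by group
      _ = 1 := by rw [e]; group
  exact mul_inv_eq_iff_eq_mul.1 (h.Z_two i0 h3 hx h4 hx1)

theorem BW (h : TK S B Q V Xn ZJ B0 X M0 Y0 L W Z C A z) (i0 : ι) [Finite G] : B ≤ normalizer (W i0 : Set G) := by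
  intro b hb
  refine mem_normalizer_of_cj_le ?_
  rintro _ ⟨w, hw, rfl⟩
  exact (h.fr.blk i0).nV b ((h.fr.blk i0).BL hb) w hw

theorem syl [Finite G] (h : TK S B Q V Xn ZJ B0 X M0 Y0 L W Z C A z) {i0 : ι} {K N N1 N0 : Subgroup G}
    (k : BK B B0 X M0 Y0 W i0 K N N1 N0) : ∀ s ∈ S, s ∈ normalizer (W i0 : Set G) → ∀ T : Subgroup G, IsPGroup 2 T →
      B ≤ T → T ≤ K ⊔ cj s K ⊔ B → T ≤ B := by
  intro s hs hsW T hT hBT hle
  refine h.syl i0 T hT hBT fun p hp => hle.trans ?_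
  have k' := BK.cj h k hs (mem_normalizer_iff_cj.1 hsW)
  refine sup_le (sup_le ?_ ?_) ?_
  · exact fun x hx => mem_centralizer_iff.2 fun w hw => (k.cW p hp w (h.ZW p hw) x hx).symm
  · exact fun x hx => mem_centralizer_iff.2 fun w hw => (k'.cW p hp w (h.ZW p hw) x hx).symm
  · exact fun x hx => mem_centralizer_iff.2 fun w hw => (((h.fr.mem_ZJ w).1 (h.fr.Z_le p hw)).2 x hx).symm

/-- **The last page, for a family of `S`-conjugate blocks** (`B` permutes the lines `(W i0)^k`, `k ∈ K i0`). -/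
theorem false_BL [Finite G] [Finite ι] (h : TK S B Q V Xn ZJ B0 X M0 Y0 L W Z C A z) {i0 : ι}
    {K N N1 N0 : ι → Subgroup G} (bk : ∀ m, BK B B0 X M0 Y0 W m (K m) (N m) (N1 m) (N0 m))
    (n4 : ∀ m, N4 B0 (K m) ⁅N m, K m⁆ (W m)) (FX : ∀ m, ⁅N m, K m⁆ ⊓ X = W m)
    (perm : ∀ s ∈ S, ∀ i j, cj s (W i) = W j → cj s ⁅N i, K i⁆ = ⁅N j, K j⁆)
    (tr : ∀ m, ∃ s ∈ S, cj s (K i0) = K m ∧ cj s (W i0) = W m)
    (theta : ∀ m, ∃ R ≤ K m, K m ≤ normalizer (R : Set G) ∧ K m ≤ R ⊔ B0 ∧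
      ∀ l, l ≠ m → R ≤ centralizer ((⁅N l, K l⁆ : Subgroup G) : Set G))
    (BL : ∀ b ∈ B, ∀ k ∈ K i0, ∃ k' ∈ K i0, cj b (cj k (W i0)) = cj k' (W i0)) : False := by
  choose R hRK hKR hKRB hRF using theta
  have D : EndD.Dt S B B0 X K (fun m => ⁅N m, K m⁆) W R i0 z :=
    { two := h.two
      BS := h.BS
      B0B := h.B0B
      SB := h.SB
      SB0 := h.SB0
      n4 := n4
      FX := FX
      FB0 := fun m => (F_le (bk m)).trans (bk m).pb.NB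
      perm := fun s hs i => by
        obtain ⟨j, e, -, -⟩ := h.perm s hs i
        exact ⟨j, e, perm s hs i j e⟩
      tr := tr
      RK := hRK
      KR := hKR
      KRB := hKRB
      RF := fun m l hl r hr f hf => (mem_centralizer_iff.1 (hRF m l hl hr) f hf).symm
      BW := BW h i0
      BL := BL
      fx := fx h i0
      mv := by
        obtain ⟨t, ht, -, w, hw, hne⟩ := h.exists_t i0
        exact ⟨t, ht, w, hw, hne⟩
      syl := syl h (bk i0)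
      zW := zj_le h.fr (fun i => (h.ZW i).trans (le_iSup W i)) h.zJ
      zn0 := fun i hi => h.zC i ((iSup₂_le fun l hl => h.fr.WjC i l (Ne.symm hl) : (⨆ (l) (_ : l ≠ i), W l) ≤ C i) hi)
      fact := h.fact }
  exact D.false

/-- **The last page, for a family of `S`-conjugate blocks.** -/
theorem false_of [Finite G] [Finite ι] (h : TK S B Q V Xn ZJ B0 X M0 Y0 L W Z C A z) {i0 : ι}
    {K N N1 N0 : ι → Subgroup G} (bk : ∀ m, BK B B0 X M0 Y0 W m (K m) (N m) (N1 m) (N0 m))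
    (n4 : ∀ m, N4 B0 (K m) ⁅N m, K m⁆ (W m)) (FX : ∀ m, ⁅N m, K m⁆ ⊓ X = W m)
    (perm : ∀ s ∈ S, ∀ i j, cj s (W i) = W j → cj s ⁅N i, K i⁆ = ⁅N j, K j⁆)
    (tr : ∀ m, ∃ s ∈ S, cj s (K i0) = K m ∧ cj s (W i0) = W m)
    (theta : ∀ m, ∃ R ≤ K m, K m ≤ normalizer (R : Set G) ∧ K m ≤ R ⊔ B0 ∧
      ∀ l, l ≠ m → R ≤ centralizer ((⁅N l, K l⁆ : Subgroup G) : Set G))
    (hBN : ∀ b ∈ B, ∀ g ∈ K i0, ∃ g' ∈ K i0, cj b (cj g (N1 i0)) = cj g' (N1 i0)) : False := by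
  have hSF : ∀ b ∈ B, cj b ⁅N i0, K i0⁆ = ⁅N i0, K i0⁆ := fun b hb =>
    perm b (h.BS hb) i0 i0 (mem_normalizer_iff_cj.1 (BW h i0 hb))
  have hN1X : N1 i0 ≤ X := by
    rw [← h.zB]
    intro v hv
    have hvN := (bk i0).pb.N1N hv
    exact mem_zc.2 ⟨(bk i0).pb.NB hvN, SQ1.Bau.elem_sq (bk i0).pb.el v hvN, fun b hb => (bk i0).pb.N1c b hb v hv⟩
  have hFN1 : ⁅N i0, K i0⁆ ⊓ N1 i0 = W i0 := by
    refine le_antisymm ?_ (le_inf (n4 i0).V1V (bk i0).WN)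
    rw [← FX i0]
    exact inf_le_inf_left _ hN1X
  have hFg : ∀ g ∈ K i0, cj g (W i0) = ⁅N i0, K i0⁆ ⊓ cj g (N1 i0) := by
    intro g hg
    rw [← hFN1, cj_inf, mem_normalizer_iff_cj.1 ((n4 i0).KV hg)]
  refine false_BL h bk n4 FX perm tr theta ?_
  intro b hb k hk
  obtain ⟨k', hk', e⟩ := hBN b hb k hk
  refine ⟨k', hk', ?_⟩
  rw [hFg k hk, cj_inf, hSF b hb, e, ← hFg k' hk']

/-- **The last page, for one torus block.** -/
theorem false_one [Finite G] [Finite ι] (h : TK S B Q V Xn ZJ B0 X M0 Y0 L W Z C A z) {i0 : ι}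
    {K N N1 N0 : Subgroup G} (k : BK B B0 X M0 Y0 W i0 K N N1 N0)
    (n4 : ∀ l (K N N1 N0 : Subgroup G), BK B B0 X M0 Y0 W l K N N1 N0 → N4 B0 K ⁅N, K⁆ (W l))
    (FX : ∀ l (K N N1 N0 : Subgroup G), BK B B0 X M0 Y0 W l K N N1 N0 → ⁅N, K⁆ ⊓ X = W l)
    (chi : ∀ l (K N N1 N0 K' N' N1' N0' : Subgroup G), BK B B0 X M0 Y0 W l K N N1 N0 →
      BK B B0 X M0 Y0 W l K' N' N1' N0' → ⁅N, K⁆ = ⁅N', K'⁆)
    (theta : ∀ K N N1 N0 : ι → Subgroup G, (∀ m, BK B B0 X M0 Y0 W m (K m) (N m) (N1 m) (N0 m)) → ∀ m,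
      ∃ R ≤ K m, K m ≤ normalizer (R : Set G) ∧ K m ≤ R ⊔ B0 ∧
        ∀ l, l ≠ m → R ≤ centralizer ((⁅N l, K l⁆ : Subgroup G) : Set G))
    (hBN : ∀ b ∈ B, ∀ g ∈ K, ∃ g' ∈ K, cj b (cj g N1) = cj g' N1) : False := by
  classical
  have htr : ∀ m, ∃ s ∈ S, cj s (W i0) = W m ∧ (m = i0 → s = 1) := by
    intro m
    by_cases e : m = i0
    · subst e
      exact ⟨1, one_mem _, cj_one _, fun _ => rfl⟩
    · obtain ⟨s, hs, e'⟩ := h.tr i0 m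
      exact ⟨s, hs, e', fun e'' => absurd e'' e⟩
  choose s hs hsW hs1 using htr
  have hs0 : s i0 = 1 := hs1 i0 rfl
  have bk : ∀ m, BK B B0 X M0 Y0 W m (cj (s m) K) (cj (s m) N) (cj (s m) N1) (cj (s m) N0) := fun m =>
    BK.cj h k (hs m) (hsW m)
  refine false_of h (i0 := i0) bk (fun m => n4 m _ _ _ _ (bk m)) (fun m => FX m _ _ _ _ (bk m)) ?_ ?_
    (theta _ _ _ _ bk) ?_
  · intro t ht i j e
    rw [cj_comm]
    exact chi j _ _ _ _ _ _ _ _ (BK.cj h (bk i) ht e) (bk j)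
  · intro m
    refine ⟨s m, hs m, ?_, hsW m⟩
    rw [hs0, cj_one]
  · rw [hs0, cj_one, cj_one]
    exact hBN

end Cfsg.Agent.Omega.OM.Lev.Low.TorusK.EndTK

end
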