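import Cfsg.Agent.Mrg.Omega.OM.PB
import Cfsg.Agent.ZN.ChoiceSit

section


/-!
# Conjugates of blocks `PB`

* `PB.cj` : `PB (B^g) (L^g) (N^g) (N₁^g) (N₀^g) q`.
-/

set_option autoImplicit false

namespace Cfsg.Agent.Omega.OM.Lev.Low.TorusK.PBC

open Subgroup Cfsg Cfsg.Agent.ZN Cfsg.Agent.ZN.ChoiceBase
open Cfsg.Agent.Omega.SQ1.Bau (Mv)

universe u

variable {G : Type u} [Group G]

theorem mem_cj' {g x : G} {H : Subgroup G} : x ∈ cj g H ↔ g⁻¹ * x * g ∈ H := by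
  constructor
  · rintro ⟨y, hy, rfl⟩
    have e : g⁻¹ * (MulAut.conj g).toMonoidHom y * g = y := by
      show g⁻¹ * (g * y * g⁻¹) * g = y
      group
    rw [e]
    exact hy
  · intro h
    refine ⟨_, h, ?_⟩
    show g * (g⁻¹ * x * g) * g⁻¹ = x
    group

theorem cj_mem {g x : G} {H : Subgroup G} (h : x ∈ H) : g * x * g⁻¹ ∈ cj g H := ⟨x, h, rfl⟩

theorem ex_cj {g x : G} {H : Subgroup G} (h : x ∈ cj g H) : ∃ y ∈ H, x = g * y * g⁻¹ := by
  obtain ⟨y, hy, rfl⟩ := h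
  exact ⟨y, hy, rfl⟩

theorem cj_mem_iff {g x : G} {H : Subgroup G} : g * x * g⁻¹ ∈ cj g H ↔ x ∈ H := by
  rw [mem_cj']
  have e : g⁻¹ * (g * x * g⁻¹) * g = x := by group
  rw [e]

theorem mv_cj {g x : G} {H : Subgroup G} : Mv (cj g H) (g * x * g⁻¹) ↔ Mv H x := by
  constructor
  · rintro ⟨v, hv, hv'⟩
    obtain ⟨v, hv1, rfl⟩ := ex_cj hv
    refine ⟨v, hv1, fun h => hv' ?_⟩
    have e : g * x * g⁻¹ * (g * v * g⁻¹) * (g * x * g⁻¹)⁻¹ = g * (x * v * x⁻¹) * g⁻¹ := by group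
    rw [e]
    exact cj_mem h
  · rintro ⟨v, hv, hv'⟩
    refine ⟨_, cj_mem hv, fun h => hv' ?_⟩
    have e : g * x * g⁻¹ * (g * v * g⁻¹) * (g * x * g⁻¹)⁻¹ = g * (x * v * x⁻¹) * g⁻¹ := by group
    rw [e] at h
    exact cj_mem_iff.1 h

theorem comm_cj {g x y : G} : (g * x * g⁻¹) * (g * y * g⁻¹) = (g * y * g⁻¹) * (g * x * g⁻¹) ↔ x * y = y * x := by
  constructor
  · intro h
    have e1 : (g * x * g⁻¹) * (g * y * g⁻¹) = g * (x * y) * g⁻¹ := by group
    have e2 : (g * y * g⁻¹) * (g * x * g⁻¹) = g * (y * x) * g⁻¹ := by group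
    rw [e1, e2] at h
    exact mul_left_cancel (mul_right_cancel h)
  · intro h
    have e1 : (g * x * g⁻¹) * (g * y * g⁻¹) = g * (x * y) * g⁻¹ := by group
    have e2 : (g * y * g⁻¹) * (g * x * g⁻¹) = g * (y * x) * g⁻¹ := by group
    rw [e1, e2, h]

variable {B L N N1 N0 : Subgroup G} {q : ℕ}

theorem zc_cj' (g : G) (B : Subgroup G) : zc (cj g B) = cj g (zc B) := by
  ext x
  rw [mem_cj', ChoiceBase.mem_zc, ChoiceBase.mem_zc, mem_cj']
  refine and_congr_right fun _ => and_congr ?_ ?_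
  · constructor
    · intro h
      have e : (g⁻¹ * x * g) ^ 2 = g⁻¹ * x ^ 2 * g := by rw [pow_two, pow_two]; group
      rw [e, h]; group
    · intro h
      have e : x ^ 2 = g * (g⁻¹ * x * g) ^ 2 * g⁻¹ := by rw [pow_two, pow_two]; group
      rw [e, h]; group
  · constructor
    · intro h y hy
      have h1 := h _ (cj_mem (g := g) hy)
      have e1 : y = g⁻¹ * (g * y * g⁻¹) * g := by group
      rw [e1]
      calc g⁻¹ * (g * y * g⁻¹) * g * (g⁻¹ * x * g) = g⁻¹ * ((g * y * g⁻¹) * x) * g := by group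
        _ = g⁻¹ * (x * (g * y * g⁻¹)) * g := by rw [h1]
        _ = _ := by group
    · intro h y hy0
      obtain ⟨y, hy, rfl⟩ := ex_cj hy0
      have h1 := h y hy
      calc g * y * g⁻¹ * x = g * (y * (g⁻¹ * x * g)) * g⁻¹ := by group
        _ = g * ((g⁻¹ * x * g) * y) * g⁻¹ := by rw [h1]
        _ = _ := by group

/-- **Conjugates of blocks.** -/
theorem pb_cj (h : PB B L N N1 N0 q) (g : G) : PB (cj g B) (cj g L) (cj g N) (cj g N1) (cj g N0) q where
  Bp := IsPGroup.map h.Bp _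
  BL := cj_mono g h.BL
  el := isElementaryAbelian_cj g h.el
  NB := cj_mono g h.NB
  Nn := by
    rintro l hl0 v hv0
    obtain ⟨l, hl, rfl⟩ := ex_cj hl0
    obtain ⟨v, hv, rfl⟩ := ex_cj hv0
    have e : g * l * g⁻¹ * (g * v * g⁻¹) * (g * l * g⁻¹)⁻¹ = g * (l * v * l⁻¹) * g⁻¹ := by group
    rw [e]
    exact cj_mem (h.Nn l hl v hv)
  N1N := cj_mono g h.N1N
  N1c := by
    rintro b hb0 v hv0
    obtain ⟨b, hb, rfl⟩ := ex_cj hb0
    obtain ⟨v, hv, rfl⟩ := ex_cj hv0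
    exact comm_cj.2 (h.N1c b hb v hv)
  N01 := cj_mono g h.N01
  N0c := by
    rintro b hb0 v hv0
    obtain ⟨b, hb, rfl⟩ := ex_cj hb0
    obtain ⟨v, hv, rfl⟩ := ex_cj hv0
    exact comm_cj.2 (h.N0c b hb v hv)
  card := by rw [card_cj, card_cj]; exact h.card
  card1 := by rw [card_cj, card_cj]; exact h.card1
  opp := by
    rintro l hl0 hm v hv0 hv'
    obtain ⟨l, hl, rfl⟩ := ex_cj hl0
    obtain ⟨v, hv, rfl⟩ := ex_cj hv0
    have e : g * l * g⁻¹ * (g * v * g⁻¹) * (g * l * g⁻¹)⁻¹ = g * (l * v * l⁻¹) * g⁻¹ := by group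
    rw [e] at hv' ⊢
    exact cj_mem (h.opp l hl (mv_cj.1 hm) v hv (cj_mem_iff.1 hv'))
  quad := by
    rintro b hb0 v hv0
    obtain ⟨b, hb, rfl⟩ := ex_cj hb0
    obtain ⟨v, hv, rfl⟩ := ex_cj hv0
    have e : g * b * g⁻¹ * (g * v * g⁻¹) * (g * b * g⁻¹)⁻¹ * (g * v * g⁻¹)⁻¹ = g * (b * v * b⁻¹ * v⁻¹) * g⁻¹ := by
      group
    rw [e]
    exact cj_mem (h.quad b hb v hv)
  cent := by
    rintro b hb0 hex v hv0 hv'
    obtain ⟨b, hb, rfl⟩ := ex_cj hb0
    obtain ⟨v, hv, rfl⟩ := ex_cj hv0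
    have e : g * b * g⁻¹ * (g * v * g⁻¹) * (g * b * g⁻¹)⁻¹ * (g * v * g⁻¹)⁻¹ = g * (b * v * b⁻¹ * v⁻¹) * g⁻¹ := by
      group
    rw [e] at hv'
    refine cj_mem (h.cent b hb ?_ v hv (cj_mem_iff.1 hv'))
    obtain ⟨w, hw0, hne⟩ := hex
    obtain ⟨w, hw, rfl⟩ := ex_cj hw0
    exact ⟨w, hw, fun e => hne (comm_cj.2 e)⟩
  cardB := by
    have e : cj g B ⊓ centralizer (cj g N : Set G) = cj g (B ⊓ centralizer (N : Set G)) := by
      rw [cj_inf, cj_centralizer]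
    rw [e, card_cj, card_cj]
    exact h.cardB
  one := h.one
  mv := by
    obtain ⟨l, hl, hm⟩ := h.mv
    exact ⟨_, cj_mem hl, mv_cj.2 hm⟩
  gen := by
    rintro l hl0 hm X hX hX'
    obtain ⟨l, hl, rfl⟩ := ex_cj hl0
    have h1 := h.gen l hl (mv_cj.1 hm) (cj g⁻¹ X) (fun b hb => ?_) fun b hb => ?_
    · intro x hx0
      obtain ⟨x, hx, rfl⟩ := ex_cj hx0
      have h2 := mem_cj'.1 (h1 hx)
      simpa using h2
    · rw [mem_cj']
      simpa using hX (cj_mem hb)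
    · rw [mem_cj']
      have h2 := hX' _ (cj_mem hb)
      have e : g * l * g⁻¹ * (g * b * g⁻¹) * (g * l * g⁻¹)⁻¹ = g⁻¹⁻¹ * (l * b * l⁻¹) * g⁻¹ := by group
      rwa [e] at h2
  act := by
    rintro l hl0 z hz0
    rw [zc_cj'] at hz0
    obtain ⟨l, hl, rfl⟩ := ex_cj hl0
    obtain ⟨z, hz, rfl⟩ := ex_cj hz0
    have e : g * l * g⁻¹ * (g * z * g⁻¹) * (g * l * g⁻¹)⁻¹ * (g * z * g⁻¹)⁻¹ = g * (l * z * l⁻¹ * z⁻¹) * g⁻¹ := by
      group
    rw [e]
    exact cj_mem (h.act l hl z hz)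
  cor := by
    rintro l hl0 x hx0 hx'
    obtain ⟨l, hl, rfl⟩ := ex_cj hl0
    obtain ⟨x, hx, rfl⟩ := ex_cj hx0
    have e : g * l * g⁻¹ * (g * x * g⁻¹) * (g * l * g⁻¹)⁻¹ = g * (l * x * l⁻¹) * g⁻¹ := by group
    rw [e]
    exact cj_mem (h.cor l hl x hx fun v hv => comm_cj.1 (hx' _ (cj_mem hv)))
  syl := by
    intro T hB hL hT
    have h1 := h.syl (cj g⁻¹ T) ?_ ?_ (IsPGroup.map hT _)
    · rw [← h1, cj_cj, mul_inv_cancel, cj_one]
    · have := cj_mono g⁻¹ hB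
      rwa [cj_inv_cj] at this
    · have := cj_mono g⁻¹ hL
      rwa [cj_inv_cj] at this
  tor := by
    rintro z hz1 hz0 z' hz1' hz0'
    obtain ⟨z, hz, rfl⟩ := ex_cj hz1
    obtain ⟨z', hz', rfl⟩ := ex_cj hz1'
    obtain ⟨x, hx, hxB, hxz⟩ := h.tor z hz (fun e => hz0 (cj_mem e)) z' hz' fun e => hz0' (cj_mem e)
    refine ⟨_, cj_mem hx, ?_, ?_⟩
    · rw [mem_normalizer_iff] at hxB ⊢
      intro b
      rw [mem_cj', mem_cj']
      have h1 := hxB (g⁻¹ * b * g)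
      have e : g⁻¹ * (g * x * g⁻¹ * b * (g * x * g⁻¹)⁻¹) * g = x * (g⁻¹ * b * g) * x⁻¹ := by group
      rw [e]
      exact h1
    · have e : g * x * g⁻¹ * (g * z * g⁻¹) * (g * x * g⁻¹)⁻¹ * (g * z' * g⁻¹)⁻¹ =
          g * (x * z * x⁻¹ * z'⁻¹) * g⁻¹ := by group
      rw [e]
      exact cj_mem hxz

end Cfsg.Agent.Omega.OM.Lev.Low.TorusK.PBC

end

section


/-!
# TORUS (the last exception of TEXT LL, `q = 2`): (Sig) of helper607 #23961

`K` acts on `V` (order `16`) as `SL₂(4)`, `V1` a line, `B0` the root group of `V1`. `S1` is a 2-group which normalises `B0`,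
`B`, `V`, `V1` and centralises `z ∈ V1`; `B ≤ S1` normalises `K`, moves `V1`, and is a Sylow 2-subgroup of `⟨K, K^s, B⟩`.

* `N4` : the literal data; `M4` : what is used;
* `M4.full`, `M4.spread`, `M4.root` ;
* `N4.sig` : **`S1` permutes the lines `V1^k`, `k ∈ K`** (`B` permutes the lines: hypothesis; `B ≤ N(K)`: `PL.of_norm`).
-/

set_option autoImplicit false
set_option linter.unusedSectionVars false
set_option linter.unusedVariables false
set_option linter.unusedSimpArgs false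

namespace Cfsg.Agent.Omega.OM.Lev.Low.TorusK.Sig

open Subgroup Cfsg Cfsg.Agent.ZN.ChoiceBase Cfsg.Agent.ZN.ChoiceSit

universe u

variable {G : Type u} [Group G]

/-- `u • w` -/
def cn (u w : G) : G := u * w * u⁻¹

theorem cn_cn (u v w : G) : cn (u * v) w = cn u (cn v w) := by simp only [cn]; group

theorem cn_mul (u v w : G) : cn u (v * w) = cn u v * cn u w := by simp only [cn]; group

theorem cn_inv (u v : G) : cn u v⁻¹ = (cn u v)⁻¹ := by simp only [cn]; group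

theorem cn_one (w : G) : cn 1 w = w := by simp [cn]

theorem cn_inv_cn (u w : G) : cn u⁻¹ (cn u w) = w := by rw [← cn_cn, inv_mul_cancel, cn_one]

theorem cn_cn_inv (u w : G) : cn u (cn u⁻¹ w) = w := by rw [← cn_cn, mul_inv_cancel, cn_one]

theorem cn_eq_self {u w : G} : cn u w = w ↔ u * w = w * u := by
  unfold cn
  rw [mul_inv_eq_iff_eq_mul]

theorem cn_inj {u v w : G} : cn u v = cn u w ↔ v = w :=
  ⟨fun h => by rw [← cn_inv_cn u v, h, cn_inv_cn], fun h => by rw [h]⟩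

theorem mem_cj' {u w : G} {H : Subgroup G} (h : w ∈ H) : cn u w ∈ cj u H := ⟨w, h, rfl⟩

theorem cn_inv_eq {u w w' : G} : cn u⁻¹ w = w' ↔ w = cn u w' :=
  ⟨fun h => by rw [← h, cn_cn_inv], fun h => by rw [h, cn_inv_cn]⟩

theorem mem_of_norm {u w : G} {H : Subgroup G} (hu : u ∈ normalizer (H : Set G)) (h : w ∈ H) : cn u w ∈ H :=
  (mem_normalizer_iff.1 hu w).1 h

theorem comm_of_sq {H : Subgroup G} (sq : ∀ x ∈ H, x * x = 1) {x y : G} (hx : x ∈ H) (hy : y ∈ H) : x * y = y * x := by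
  have h1 := sq _ (mul_mem hx hy)
  have h2 : x⁻¹ = x := inv_eq_of_mul_eq_one_left (sq x hx)
  have h3 : y⁻¹ = y := inv_eq_of_mul_eq_one_left (sq y hy)
  have h4 : (x * y)⁻¹ = x * y := inv_eq_of_mul_eq_one_left h1
  rw [← h4, mul_inv_rev, h2, h3]

/-- four elements -/
theorem four_cases {Q : Type*} (h4 : Nat.card Q = 4) {p q r s : Q} (h1 : p ≠ q) (h2 : p ≠ r) (h3 : p ≠ s) (h5 : q ≠ r)
    (h6 : q ≠ s) (h7 : r ≠ s) (t : Q) : t = p ∨ t = q ∨ t = r ∨ t = s := by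
  classical
  have hf : Finite Q := Nat.finite_of_card_ne_zero (by omega)
  have := Fintype.ofFinite Q
  rw [Nat.card_eq_fintype_card] at h4
  have h8 : ({p, q, r, s} : Finset Q).card = 4 := by
    rw [Finset.card_insert_of_notMem, Finset.card_insert_of_notMem, Finset.card_insert_of_notMem, Finset.card_singleton]
    · simpa using h7
    · simp [h5, h6]
    · simp [h1, h2, h3]
  have h9 : ({p, q, r, s} : Finset Q) = Finset.univ := Finset.eq_univ_of_card _ (by rw [h8, h4])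
  have h10 : t ∈ ({p, q, r, s} : Finset Q) := by rw [h9]; exact Finset.mem_univ t
  simpa using h10

/-- four elements of a four-group -/
theorem four_sub {H : Subgroup G} (h4 : Nat.card H = 4) (sq : ∀ x ∈ H, x * x = 1) {x y : G} (hx : x ∈ H) (hy : y ∈ H)
    (h1 : x ≠ 1) (h2 : y ≠ 1) (h3 : x ≠ y) {t : G} (ht : t ∈ H) : t = 1 ∨ t = x ∨ t = y ∨ t = x * y := by
  have hxy : x * y ≠ 1 := fun e => h3 (by
    have := mul_left_cancel (e.trans (sq x hx).symm)
    exact this.symm)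
  rcases four_cases h4 (p := (1 : H)) (q := ⟨x, hx⟩) (r := ⟨y, hy⟩) (s := ⟨x * y, mul_mem hx hy⟩)
    (fun e => h1 (congrArg Subtype.val e).symm) (fun e => h2 (congrArg Subtype.val e).symm)
    (fun e => hxy (congrArg Subtype.val e).symm) (fun e => h3 (congrArg Subtype.val e))
    (fun e => h2 (by have := congrArg Subtype.val e; simpa using this))
    (fun e => h1 (by have := congrArg Subtype.val e; simpa using this)) ⟨t, ht⟩ with h | h | h | h
  · exact Or.inl (congrArg Subtype.val h)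
  · exact Or.inr (Or.inl (congrArg Subtype.val h))
  · exact Or.inr (Or.inr (Or.inl (congrArg Subtype.val h)))
  · exact Or.inr (Or.inr (Or.inr (congrArg Subtype.val h)))

/-- A Sylow group covers a 2-quotient. -/
theorem exists_of_syl [Finite G] {T R C : Subgroup G} (hT : Syl T R) (hC : C ≤ R)
    (hn : ∀ r ∈ R, ∀ c ∈ C, r * c * r⁻¹ ∈ C) (sq : ∀ r ∈ R, ∃ n : ℕ, r ^ 2 ^ n ∈ C) {r : G} (hr : r ∈ R) :
    ∃ t ∈ T, t⁻¹ * r ∈ C := by
  have hN : (C.subgroupOf R).Normal := ⟨fun n hn' g => by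
    rw [mem_subgroupOf] at hn' ⊢
    exact hn g g.2 n hn'⟩
  have h2 : IsPGroup 2 (R ⧸ C.subgroupOf R) := by
    intro q
    obtain ⟨x, rfl⟩ := QuotientGroup.mk_surjective q
    obtain ⟨n, h⟩ := sq x x.2
    refine ⟨n, ?_⟩
    rw [← QuotientGroup.mk_pow, QuotientGroup.eq_one_iff, mem_subgroupOf]
    exact h
  have : Fact (Nat.Prime 2) := ⟨Nat.prime_two⟩
  obtain ⟨n, hn2⟩ := IsPGroup.iff_card.1 h2
  have h3 : (C ⊔ T).relIndex R ∣ 2 ^ n := by
    rw [← hn2]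
    exact relIndex_dvd_of_le_left R le_sup_left
  have h4 : (C ⊔ T).relIndex R ∣ T.relIndex R := relIndex_dvd_of_le_left R le_sup_right
  have h5 : (C ⊔ T).relIndex R = 1 := by
    obtain ⟨m, hm, e⟩ := (Nat.dvd_prime_pow Nat.prime_two).1 h3
    rcases Nat.eq_zero_or_pos m with rfl | hm'
    · rw [e, pow_zero]
    · exact absurd ((dvd_pow_self 2 (by omega)).trans (e ▸ h4)) (syl_not_dvd hT)
  have h6 : R ≤ C ⊔ T := relIndex_eq_one.1 h5
  let Q : Subgroup G :=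
    { carrier := {g | ∃ t ∈ T, t⁻¹ * g ∈ C}
      one_mem' := ⟨1, one_mem _, by simp⟩
      mul_mem' := by
        rintro a b ⟨s, hs, ha⟩ ⟨t, ht, hb⟩
        refine ⟨s * t, mul_mem hs ht, ?_⟩
        have e : (s * t)⁻¹ * (a * b) = t⁻¹ * (s⁻¹ * a) * t⁻¹⁻¹ * (t⁻¹ * b) := by group
        rw [e]
        exact mul_mem (hn _ (inv_mem (hT.1 ht)) _ ha) hb
      inv_mem' := by
        rintro a ⟨s, hs, ha⟩
        refine ⟨s⁻¹, inv_mem hs, ?_⟩
        have e : s⁻¹⁻¹ * a⁻¹ = s * (s⁻¹ * a)⁻¹ * s⁻¹ := by group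
        rw [e]
        exact hn _ (hT.1 hs) _ (inv_mem ha) }
  have h7 : C ⊔ T ≤ Q := sup_le (fun c hc => ⟨1, one_mem _, by simpa using hc⟩)
    fun t ht => ⟨t, ht, by rw [inv_mul_cancel]; exact one_mem _⟩
  exact h7 (h6 hr)

/-- What is used of `N4`. -/
structure M4 (B0 K V V1 : Subgroup G) : Prop where
  sq : ∀ v ∈ V, v * v = 1
  card : Nat.card V = 16
  V1V : V1 ≤ V
  card1 : Nat.card V1 = 4
  BK : B0 ≤ K
  KV : K ≤ normalizer (V : Set G)
  c1 : ∀ b ∈ B0, ∀ v ∈ V1, cn b v = v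
  quad : ∀ b ∈ B0, ∀ v ∈ V, cn b v * v⁻¹ ∈ V1
  cent : ∀ b ∈ B0, (∃ v ∈ V, cn b v ≠ v) → ∀ v ∈ V, cn b v = v → v ∈ V1
  cardB : Nat.card B0 = Nat.card ↥(B0 ⊓ centralizer (V : Set G)) * 4
  opp : ∀ l ∈ K, cj l V1 ≠ V1 → ∀ v ∈ V1, cn l v ∈ V1 → v = 1

/-- The literal data of helper607. -/
structure N4 (B0 K V V1 : Subgroup G) : Prop where
  el : IsElementaryAbelian 2 V
  card : Nat.card V = 16
  V1V : V1 ≤ V
  card1 : Nat.card V1 = 4
  BK : B0 ≤ K
  KV : K ≤ normalizer (V : Set G)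
  c1 : ∀ b ∈ B0, ∀ v ∈ V1, b * v = v * b
  quad : ∀ b ∈ B0, ∀ v ∈ V, b * v * b⁻¹ * v⁻¹ ∈ V1
  cent : ∀ b ∈ B0, (∃ v ∈ V, b * v ≠ v * b) → ∀ v ∈ V, b * v = v * b → v ∈ V1
  cardB : Nat.card B0 = Nat.card ↥(B0 ⊓ centralizer (V : Set G)) * 4
  opp : ∀ l ∈ K, (∃ v ∈ V1, l * v * l⁻¹ ∉ V1) → ∀ v ∈ V1, l * v * l⁻¹ ∈ V1 → v = 1
  mv : ∃ l ∈ K, ∃ v ∈ V1, l * v * l⁻¹ ∉ V1

theorem N4.toM4 {B0 K V V1 : Subgroup G} (h : N4 B0 K V V1) : M4 B0 K V V1 where
  sq v hv := by rw [← pow_two]; exact h.el.2 v hv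
  card := h.card
  V1V := h.V1V
  card1 := h.card1
  BK := h.BK
  KV := h.KV
  c1 b hb v hv := cn_eq_self.2 (h.c1 b hb v hv)
  quad := h.quad
  cent b hb := by
    rintro ⟨v, hv, hne⟩ w hw e
    exact h.cent b hb ⟨v, hv, fun e => hne (cn_eq_self.2 e)⟩ w hw (cn_eq_self.1 e)
  cardB := h.cardB
  opp l hl hne := by
    refine h.opp l hl ?_
    by_contra hcon
    push Not at hcon
    have hf : Finite V1 := Nat.finite_of_card_ne_zero (by rw [h.card1]; omega)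
    apply hne
    refine Subgroup.eq_of_le_of_card_ge ?_ (by rw [card_cj])
    rintro _ ⟨v, hv, rfl⟩
    exact hcon v hv

namespace M4

variable {B0 K V V1 : Subgroup G} (h : M4 B0 K V V1)
include h

theorem fin : Finite V := Nat.finite_of_card_ne_zero (by rw [h.card]; omega)

theorem comm {u v : G} (hu : u ∈ V) (hv : v ∈ V) : u * v = v * u := comm_of_sq h.sq hu hv

theorem inv' {u : G} (hu : u ∈ V) : u⁻¹ = u := inv_eq_of_mul_eq_one_left (h.sq u hu)

theorem conj {l : G} (hl : l ∈ K) : M4 (cj l B0) K V (cj l V1) := by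
  have hV : cj l V = V := mem_normalizer_iff_cj.1 (h.KV hl)
  have hK : ∀ {k : G}, k ∈ K → cn l⁻¹ k ∈ K := fun hk => mul_mem (mul_mem (inv_mem hl) hk) (inv_mem (inv_mem hl))
  have hvl : ∀ {v : G}, v ∈ V → cn l⁻¹ v ∈ V := fun hv => mem_of_norm (h.KV (inv_mem hl)) hv
  have key : ∀ g v : G, cn (cn l⁻¹ g) (cn l⁻¹ v) = cn l⁻¹ (cn g v) := fun g v => by simp only [cn]; group
  exact
    { sq := h.sq
      card := h.card
      V1V := by rw [← hV]; exact cj_mono l h.V1V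
      card1 := by rw [card_cj, h.card1]
      BK := by
        rintro _ ⟨b, hb, rfl⟩
        exact mul_mem (mul_mem hl (h.BK hb)) (inv_mem hl)
      KV := h.KV
      c1 := by
        rintro _ ⟨b, hb, rfl⟩ _ ⟨v, hv, rfl⟩
        show cn (cn l b) (cn l v) = cn l v
        have : cn (cn l b) (cn l v) = cn l (cn b v) := by simp only [cn]; group
        rw [this, h.c1 b hb v hv]
      quad := by
        rintro _ ⟨b, hb, rfl⟩ v hv
        show cn (cn l b) v * v⁻¹ ∈ _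
        have := h.quad b hb _ (hvl hv)
        refine ⟨_, this, ?_⟩
        show cn l _ = _
        simp only [cn]; group
      cent := by
        rintro _ ⟨b, hb, rfl⟩ ⟨v, hv, hne⟩ w hw e
        change cn (cn l b) v ≠ v at hne
        change cn (cn l b) w = w at e
        have h1 : ∀ v, cn l⁻¹ (cn (cn l b) v) = cn b (cn l⁻¹ v) := fun v => by simp only [cn]; group
        have h2 := h.cent b hb ⟨cn l⁻¹ v, hvl hv, fun e' => hne (by rw [← h1, cn_inj] at e'; exact e')⟩ (cn l⁻¹ w)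
          (hvl hw) (by rw [← h1, e])
        exact ⟨_, h2, cn_cn_inv l w⟩
      cardB := by
        have h1 : cj l (B0 ⊓ centralizer (V : Set G)) = cj l B0 ⊓ centralizer (V : Set G) := by
          rw [cj_inf, cj_centralizer, hV]
        rw [← h1, card_cj, card_cj, h.cardB]
      opp := by
        intro k hk hne v hv hkv
        obtain ⟨v, hv, rfl⟩ := hv
        change cn k (cn l v) ∈ _ at hkv
        rw [mem_cj] at hkv
        have h1 : cn (cn l⁻¹ k) v ∈ V1 := by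
          have e : cn (cn l⁻¹ k) v = l⁻¹ * cn k (cn l v) * l := by simp only [cn]; group
          rw [e]; exact hkv
        have h2 : cj (cn l⁻¹ k) V1 ≠ V1 := by
          intro e
          apply hne
          have := congrArg (cj l) e
          rw [cj_cj] at this
          rw [cj_cj, ← this]
          congr 1
          simp only [cn]; group
        have h3 := h.opp _ (hK hk) h2 v hv h1
        rw [h3]
        show cn l 1 = 1
        simp [cn] }

/-- two lines with a common element `≠ 1` are equal -/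
theorem spread {k k' v : G} (hk : k ∈ K) (hk' : k' ∈ K) (h1 : v ∈ cj k V1) (h2 : v ∈ cj k' V1) (hv : v ≠ 1) :
    cj k V1 = cj k' V1 := by
  by_contra hne
  rw [mem_cj] at h1 h2
  have h3 : cj (k'⁻¹ * k) V1 ≠ V1 := by
    intro e
    apply hne
    have := congrArg (cj k') e
    rw [cj_cj] at this
    rw [← this]
    congr 1
    group
  have h4 := h.opp _ (mul_mem (inv_mem hk') hk) h3 _ h1 (by
    have e : cn (k'⁻¹ * k) (k⁻¹ * v * k) = k'⁻¹ * v * k' := by simp only [cn]; group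
    rw [e]; exact h2)
  apply hv
  calc v = k * (k⁻¹ * v * k) * k⁻¹ := by group
    _ = 1 := by rw [h4]; group

theorem inf_bot {k v : G} (hk : k ∈ K) (hne : cj k V1 ≠ V1) (h1 : v ∈ V1) (h2 : v ∈ cj k V1) : v = 1 := by
  by_contra hv
  apply hne
  have := h.spread hk (one_mem K) h2 (by rwa [cj_one]) hv
  rwa [cj_one] at this

/-- an element of `B0` which fixes `v ∈ V`, `v ∉ V1`, centralises `V` -/
theorem triv {b v : G} (hb : b ∈ B0) (hv : v ∈ V) (hv1 : v ∉ V1) (e : cn b v = v) : ∀ w ∈ V, cn b w = w := by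
  intro w hw
  by_contra hne
  exact hv1 (h.cent b hb ⟨w, hw, hne⟩ v hv e)

theorem eq_of_one {b b' v : G} (hb : b ∈ B0) (hb' : b' ∈ B0) (hv : v ∈ V) (hv1 : v ∉ V1) (e : cn b v = cn b' v) :
    ∀ w ∈ V, cn b w = cn b' w := by
  intro w hw
  have h1 := h.triv (mul_mem (inv_mem hb') hb) hv hv1 (by rw [cn_cn, e, cn_inv_cn]) w hw
  rw [cn_cn, cn_inv_eq] at h1
  exact h1

/-- `b ↦ [b, v]` is onto `V1` -/
theorem full [Finite G] {v x : G} (hv : v ∈ V) (hv1 : v ∉ V1) (hx : x ∈ V1) : ∃ b ∈ B0, cn b v = x * v := by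
  let f : B0 →* V1 :=
    { toFun := fun b => ⟨cn (b : G) v * v⁻¹, h.quad b b.2 v hv⟩
      map_one' := by
        apply Subtype.ext
        simp [cn]
      map_mul' := by
        intro b b'
        apply Subtype.ext
        show cn ((b : G) * (b' : G)) v * v⁻¹ = cn (b : G) v * v⁻¹ * (cn (b' : G) v * v⁻¹)
        have h1 := h.c1 b b.2 _ (h.quad b' b'.2 v hv)
        have h2 : cn ((b : G) * (b' : G)) v * v⁻¹ = cn (b : G) (cn (b' : G) v * v⁻¹) * (cn (b : G) v * v⁻¹) := by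
          simp only [cn]; group
        rw [h2, h1]
        exact comm_of_sq (fun x hx => h.sq x (h.V1V hx)) (h.quad b' b'.2 v hv) (h.quad b b.2 v hv) }
  have hker : f.ker = (B0 ⊓ centralizer (V : Set G)).subgroupOf B0 := by
    ext b
    rw [MonoidHom.mem_ker, mem_subgroupOf]
    constructor
    · intro e
      have e1 : cn (b : G) v = v := by
        have := congrArg Subtype.val e
        change cn (b : G) v * v⁻¹ = 1 at this
        rwa [mul_inv_eq_one] at this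
      refine mem_inf.2 ⟨b.2, mem_centralizer_iff.2 ?_⟩
      intro w hw
      exact (cn_eq_self.1 (h.triv b.2 hv hv1 e1 w hw)).symm
    · rintro ⟨-, hb⟩
      apply Subtype.ext
      show cn (b : G) v * v⁻¹ = 1
      rw [mul_inv_eq_one, cn_eq_self]
      exact (mem_centralizer_iff.1 hb v hv).symm
  have hfV : Finite V1 := Nat.finite_of_card_ne_zero (by rw [h.card1]; omega)
  have h1 : Nat.card f.range = 4 := by
    rw [← Subgroup.index_ker, hker]
    have h2 := Subgroup.relIndex_mul_relIndex ⊥ (B0 ⊓ centralizer (V : Set G)) B0 bot_le inf_le_left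
    rw [relIndex_bot_left, relIndex_bot_left, h.cardB] at h2
    exact Nat.eq_of_mul_eq_mul_left Nat.card_pos h2
  have h6 : f.range = ⊤ := Subgroup.eq_top_of_card_eq _ (by rw [h1, h.card1])
  obtain ⟨b, hb⟩ := (MonoidHom.range_eq_top.1 h6) ⟨x, hx⟩
  refine ⟨b, b.2, ?_⟩
  have := congrArg Subtype.val hb
  change cn (b : G) v * v⁻¹ = x at this
  rw [← this]; group

theorem lineV {k : G} (hk : k ∈ K) : cj k V1 ≤ V := by
  rw [← mem_normalizer_iff_cj.1 (h.KV hk)]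
  exact cj_mono k h.V1V

theorem compl {k v : G} (hk : k ∈ K) (hne : cj k V1 ≠ V1) (hv : v ∈ V) : ∃ p ∈ V1, ∃ q ∈ cj k V1, v = p * q := by
  have hf := h.fin
  have hf1 : Finite V1 := Nat.finite_of_card_ne_zero (by rw [h.card1]; omega)
  have hc2 : Nat.card (cj k V1) = 4 := by rw [card_cj, h.card1]
  have hf2 : Finite (cj k V1) := Nat.finite_of_card_ne_zero (by rw [hc2]; omega)
  let f : V1 × cj k V1 → V := fun x => ⟨(x.1 : G) * x.2, mul_mem (h.V1V x.1.2) (h.lineV hk x.2.2)⟩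
  have hinj : Function.Injective f := by
    rintro ⟨p, q⟩ ⟨p', q'⟩ e
    have e1 : (p : G) * q = p' * q' := congrArg Subtype.val e
    have e2 : (p' : G)⁻¹ * p = q' * (q : G)⁻¹ := by
      rw [inv_mul_eq_iff_eq_mul, ← mul_assoc, ← e1]; group
    have e3 : (p' : G)⁻¹ * p = 1 := h.inf_bot hk hne (mul_mem (inv_mem p'.2) p.2)
      (e2 ▸ mul_mem q'.2 (inv_mem q.2))
    have e4 : (q' : G) * (q : G)⁻¹ = 1 := e2 ▸ e3
    have e5 : (p' : G) = p := inv_mul_eq_one.1 e3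
    have e6 : (q' : G) = q := mul_inv_eq_one.1 e4
    rw [Prod.mk.injEq]
    exact ⟨Subtype.ext e5.symm, Subtype.ext e6.symm⟩
  have hcard : Nat.card (V1 × cj k V1) = Nat.card V := by rw [Nat.card_prod, h.card1, hc2, h.card]
  have hsurj : Function.Surjective f := ((Nat.bijective_iff_injective_and_card f).2 ⟨hinj, hcard⟩).2
  obtain ⟨⟨p, q⟩, e⟩ := hsurj ⟨v, hv⟩
  exact ⟨p, p.2, q, q.2, (congrArg Subtype.val e).symm⟩

theorem exists_ne (k : G) : ∃ q ∈ cj k V1, q ≠ 1 := by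
  by_contra hcon
  push Not at hcon
  have h1 : cj k V1 = ⊥ := (Subgroup.eq_bot_iff_forall _).2 hcon
  have h2 : Nat.card (cj k V1) = 4 := by rw [card_cj, h.card1]
  rw [h1, Subgroup.card_bot] at h2
  omega

end M4

/-- `g` permutes the lines -/
def PL (K V1 : Subgroup G) (g : G) : Prop := ∀ k ∈ K, ∃ k' ∈ K, cj g (cj k V1) = cj k' V1

theorem PL.mul {K V1 : Subgroup G} {g g' : G} (h : PL K V1 g) (h' : PL K V1 g') : PL K V1 (g * g') := by
  intro k hk
  obtain ⟨k1, hk1, e1⟩ := h' k hk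
  obtain ⟨k2, hk2, e2⟩ := h k1 hk1
  exact ⟨k2, hk2, by rw [← cj_cj, e1, e2]⟩

theorem PL.of_mem {K V1 : Subgroup G} {g : G} (h : g ∈ K) : PL K V1 g := fun k hk => ⟨g * k, mul_mem h hk, cj_cj _ _ _⟩

theorem PL.of_norm {K V1 : Subgroup G} {g : G} (h : g ∈ normalizer (K : Set G)) (h' : g ∈ normalizer (V1 : Set G)) :
    PL K V1 g := by
  intro k hk
  refine ⟨g * k * g⁻¹, (mem_normalizer_iff.1 h k).1 hk, ?_⟩
  rw [← cj_cj, ← cj_cj, mem_normalizer_iff_cj.1 (inv_mem h')]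

theorem PL.conj {K V1 : Subgroup G} {g l : G} (hl : l ∈ K) (h : PL K V1 g) : PL K (cj l V1) g := by
  intro k hk
  obtain ⟨k', hk', e⟩ := h (k * l) (mul_mem hk hl)
  refine ⟨k' * l⁻¹, mul_mem hk' (inv_mem hl), ?_⟩
  rw [cj_cj k, e, cj_cj]
  congr 1
  group

theorem PL.congr {K V V1 : Subgroup G} {g g' : G} (hV : ∀ k ∈ K, cj k V1 ≤ V) (e : ∀ v ∈ V, cn g v = cn g' v)
    (h : PL K V1 g) : PL K V1 g' := by
  intro k hk
  obtain ⟨k', hk', e'⟩ := h k hk
  refine ⟨k', hk', ?_⟩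
  rw [← e']
  apply le_antisymm
  · rintro _ ⟨v, hv, rfl⟩
    exact ⟨v, hv, e v (hV k hk hv)⟩
  · rintro _ ⟨v, hv, rfl⟩
    exact ⟨v, hv, (e v (hV k hk hv)).symm⟩

namespace M4

variable {B0 K V V1 : Subgroup G} (h : M4 B0 K V V1)
include h

/-- **ROOT**: what acts trivially on `V1` and on `V/V1` and permutes the lines, acts as an element of `B0`. -/
theorem root [Finite G] {g k : G} (hk : k ∈ K) (hne : cj k V1 ≠ V1) (hg : PL K V1 g) (g1 : ∀ v ∈ V1, cn g v = v)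
    (g2 : ∀ v ∈ V, cn g v * v⁻¹ ∈ V1) : ∃ b ∈ B0, ∀ v ∈ V, cn g v = cn b v := by
  obtain ⟨q0, hq0, hq1⟩ := h.exists_ne k
  have hqV : q0 ∈ V := h.lineV hk hq0
  have hqn : q0 ∉ V1 := fun e => hq1 (h.inf_bot hk hne e hq0)
  obtain ⟨b, hb, e⟩ := h.full hqV hqn (g2 q0 hqV)
  have e1 : cn b q0 = cn g q0 := by rw [e]; group
  refine ⟨b, hb, ?_⟩
  obtain ⟨k', hk', ek⟩ := hg k hk
  have hbk := mul_mem (h.BK hb) hk
  have h1 : cj k' V1 = cj (b * k) V1 := by
    refine h.spread hk' hbk (v := cn g q0) ?_ ?_ ?_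
    · rw [← ek]; exact mem_cj' hq0
    · rw [← e1, ← cj_cj]; exact mem_cj' hq0
    · intro e'
      apply hq1
      rw [← cn_inv_cn g q0, e']
      simp [cn]
  have h2 : cj (b * k) V1 ≠ V1 := by
    intro e'
    apply hne
    have hbn : cj b V1 = V1 := by
      have hf1 : Finite V1 := Nat.finite_of_card_ne_zero (by rw [h.card1]; omega)
      refine Subgroup.eq_of_le_of_card_ge ?_ (by rw [card_cj])
      rintro _ ⟨v, hv, rfl⟩
      show cn b v ∈ V1
      rw [h.c1 b hb v hv]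
      exact hv
    rw [← cj_cj] at e'
    have := congrArg (cj b⁻¹) e'
    rw [cj_inv_cj] at this
    rw [this]
    nth_rewrite 1 [← hbn]
    rw [cj_inv_cj]
  have h3 : ∀ q ∈ cj k V1, cn g q = cn b q := by
    intro q hq
    have h4 : cn g q ∈ cj (b * k) V1 := by rw [← h1, ← ek]; exact mem_cj' hq
    have h5 : cn b q ∈ cj (b * k) V1 := by rw [← cj_cj]; exact mem_cj' hq
    have h6 : cn g q * (cn b q)⁻¹ ∈ V1 := by
      have e2 : cn g q * (cn b q)⁻¹ = (cn g q * q⁻¹) * (cn b q * q⁻¹)⁻¹ := by group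
      rw [e2]
      exact mul_mem (g2 q (h.lineV hk hq)) (inv_mem (h.quad b hb q (h.lineV hk hq)))
    exact mul_inv_eq_one.1 (h.inf_bot hbk h2 h6 (mul_mem h4 (inv_mem h5)))
  intro v hv
  obtain ⟨p, hp, q, hq, rfl⟩ := h.compl hk hne hv
  rw [cn_mul, cn_mul, g1 p hp, h.c1 b hb p hp, h3 q hq]

/-- `B0` is transitive on the lines `≠ V1`. -/
theorem trans [Finite G] {k k' : G} (hk : k ∈ K) (hne : cj k V1 ≠ V1) (hk' : k' ∈ K) (hne' : cj k' V1 ≠ V1) :
    ∃ b ∈ B0, cj b (cj k V1) = cj k' V1 := by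
  obtain ⟨q0, hq0, hq1⟩ := h.exists_ne k
  have hqV : q0 ∈ V := h.lineV hk hq0
  have hqn : q0 ∉ V1 := fun e => hq1 (h.inf_bot hk hne e hq0)
  obtain ⟨p, hp, q, hq, e⟩ := h.compl hk' hne' hqV
  obtain ⟨b, hb, eb⟩ := h.full hqV hqn hp
  have e1 : cn b q0 = q := by
    rw [eb, e, ← mul_assoc, h.sq p (h.V1V hp), one_mul]
  refine ⟨b, hb, ?_⟩
  rw [cj_cj]
  refine h.spread (mul_mem (h.BK hb) hk) hk' (v := q) ?_ hq ?_
  · rw [← e1, ← cj_cj]; exact mem_cj' hq0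
  · rintro rfl
    rw [mul_one] at e
    exact hqn (e ▸ hp)

end M4

/-- a 2-element which fixes `x` under its cube fixes `x` -/
theorem fix_of_cube {g x : G} (h2 : ∃ n : ℕ, g ^ 2 ^ n = 1) (h3 : cn (g * (g * g)) x = x) : cn g x = x := by
  obtain ⟨n, hn⟩ := h2
  have h4 : Nat.Coprime (orderOf g) 3 := by
    have h5 : orderOf g ∣ 2 ^ n := orderOf_dvd_of_pow_eq_one hn
    exact Nat.Coprime.coprime_dvd_left h5 (Nat.Coprime.pow_left n (by decide))
  obtain ⟨m, hm⟩ := exists_pow_eq_self_of_coprime h4.symm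
  have h6 : ∀ m : ℕ, cn ((g ^ 3) ^ m) x = x := by
    intro m
    induction m with
    | zero => rw [pow_zero, cn_one]
    | succ m ih =>
      rw [pow_succ, cn_cn]
      have e : g ^ 3 = g * (g * g) := by rw [pow_succ, pow_two, mul_assoc]
      rw [e, h3, ← e, ih]
  have := h6 m
  rwa [hm] at this

/-- a 2-element on a four-group which it does not centralise -/
theorem two_on_four {g : G} {H : Subgroup G} (h4 : Nat.card H = 4) (sq : ∀ x ∈ H, x * x = 1)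
    (h2 : ∃ n : ℕ, g ^ 2 ^ n = 1) (hn : ∀ x ∈ H, cn g x ∈ H) (hne : ∃ x ∈ H, cn g x ≠ x) :
    ∃ c ∈ H, ∃ d ∈ H, c ≠ 1 ∧ d ≠ 1 ∧ c ≠ d ∧ cn g c = c ∧ cn g d = c * d := by
  obtain ⟨x, hx, hne⟩ := hne
  have h1 : ∀ {y : G}, cn g y = 1 → y = 1 := by
    intro y e
    rw [← cn_inv_cn g y, e]
    simp [cn]
  have hx1 : x ≠ 1 := by
    rintro rfl
    exact hne (by simp [cn])
  have hy := hn x hx
  have hy1 : cn g x ≠ 1 := fun e => hx1 (h1 e)
  have hxy : x * cn g x ≠ 1 := by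
    intro e
    have := mul_left_cancel (e.trans (sq x hx).symm)
    exact hne this
  rcases four_sub h4 sq hx hy hx1 hy1 (fun e => hne e.symm) (hn _ hy) with h | h | h | h
  · exact absurd (h1 h) hy1
  · refine ⟨x * cn g x, mul_mem hx hy, x, hx, hxy, hx1, ?_, ?_, ?_⟩
    · intro e
      apply hy1
      exact mul_left_cancel (e.trans (mul_one x).symm)
    · rw [cn_mul, h]
      exact comm_of_sq sq hy hx
    · rw [mul_assoc, comm_of_sq sq hy hx, ← mul_assoc, sq x hx, one_mul]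
  · exact absurd (cn_inj.1 h) hne
  · exfalso
    apply hne
    apply fix_of_cube h2
    rw [cn_cn, cn_cn, h, cn_mul, h, comm_of_sq sq hx hy, ← mul_assoc, sq _ hy, one_mul]

/-- the fixed points of `t` on a four-group: `1, a` -/
theorem fix_four {t a b y : G} {H : Subgroup G} (h4 : Nat.card H = 4) (sq : ∀ x ∈ H, x * x = 1) (ha : a ∈ H)
    (hb : b ∈ H) (a1 : a ≠ 1) (b1 : b ≠ 1) (ab : a ≠ b) (ta : cn t a = a) (tb : cn t b ≠ b) (hy : y ∈ H)
    (ty : cn t y = y) : y = 1 ∨ y = a := by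
  rcases four_sub h4 sq ha hb a1 b1 ab hy with h | h | h | h
  · exact Or.inl h
  · exact Or.inr h
  · exact absurd (h ▸ ty) tb
  · exfalso
    apply tb
    rw [h, cn_mul, ta] at ty
    exact mul_left_cancel ty

/-- The basis `a, b` of `V1`, `c, d` of a second line. -/
structure Dat (B0 K V V1 L0 : Subgroup G) (a b c d t α w : G) : Prop where
  ha : a ∈ V1
  hb : b ∈ V1
  a1 : a ≠ 1
  b1 : b ≠ 1
  ab : a ≠ b
  line : ∃ l ∈ K, L0 = cj l V1
  ne : L0 ≠ V1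
  hc : c ∈ L0
  hd : d ∈ L0
  c1 : c ≠ 1
  d1 : d ≠ 1
  cd : c ≠ d
  hα : α ∈ B0
  αc : cn α c = a * c
  αd : cn α d = b * d
  ta : cn t a = a
  tb : cn t b = a * b
  tc : cn t c = c
  td : cn t d = c * d
  hw : w ∈ K
  wa : cn w a = c
  wb : cn w b = d
  wc : cn w c = a
  wd : cn w d = b

namespace M4

variable {B0 K V V1 : Subgroup G} (h : M4 B0 K V V1)
include h

/-- conjugation of `b ∈ B0` by `g` which normalises `B0`, fixes `c ∉ V1` and `[b, c]`, does not change the action of `b`. -/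
theorem conj_same {g b c : G} (gV : ∀ v ∈ V, cn g v ∈ V) (hgB : cn g b ∈ B0) (hb : b ∈ B0) (hc : c ∈ V)
    (hc1 : c ∉ V1) (gc : cn g c = c) (gx : cn g (cn b c) = cn b c) : ∀ v ∈ V, cn b (cn g v) = cn g (cn b v) := by
  have key : ∀ v, cn (cn g b) (cn g v) = cn g (cn b v) := fun v => by simp only [cn]; group
  have h1 : cn (cn g b) c = cn b c := by
    have := key c
    rw [gc, gx] at this
    exact this
  have h2 := h.eq_of_one hgB hb hc hc1 h1
  intro v hv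
  rw [← key, h2 _ (gV v hv)]

/-- rewriting rules for four elements of `V` -/
theorem rules {a b c d : G} (ha : a ∈ V) (hb : b ∈ V) (hc : c ∈ V) (hd : d ∈ V) :
    (b * a = a * b ∧ c * a = a * c ∧ d * a = a * d ∧ c * b = b * c ∧ d * b = b * d ∧ d * c = c * d) ∧
    ((∀ x, b * (a * x) = a * (b * x)) ∧ (∀ x, c * (a * x) = a * (c * x)) ∧ (∀ x, d * (a * x) = a * (d * x)) ∧
      (∀ x, c * (b * x) = b * (c * x)) ∧ (∀ x, d * (b * x) = b * (d * x)) ∧ (∀ x, d * (c * x) = c * (d * x))) ∧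
    (a * a = 1 ∧ b * b = 1 ∧ c * c = 1 ∧ d * d = 1) ∧
    ((∀ x, a * (a * x) = x) ∧ (∀ x, b * (b * x) = x) ∧ (∀ x, c * (c * x) = x) ∧ (∀ x, d * (d * x) = x)) := by
  have cm : ∀ {x y : G}, x ∈ V → y ∈ V → ∀ z : G, x * (y * z) = y * (x * z) := fun hx hy z => by
    rw [← mul_assoc, h.comm hx hy, mul_assoc]
  have sm : ∀ {x : G}, x ∈ V → ∀ z : G, x * (x * z) = z := fun hx z => by
    rw [← mul_assoc, h.sq _ hx, one_mul]
  exact ⟨⟨h.comm hb ha, h.comm hc ha, h.comm hd ha, h.comm hc hb, h.comm hd hb, h.comm hd hc⟩,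
    ⟨cm hb ha, cm hc ha, cm hd ha, cm hc hb, cm hd hb, cm hd hc⟩, ⟨h.sq a ha, h.sq b hb, h.sq c hc, h.sq d hd⟩,
    ⟨sm ha, sm hb, sm hc, sm hd⟩⟩

end M4

theorem exists_third {H : Subgroup G} (h4 : Nat.card H = 4) (c : G) : ∃ d ∈ H, d ≠ 1 ∧ d ≠ c := by
  by_contra hcon
  push Not at hcon
  have h1 : (H : Set G) ⊆ {1, c} := by
    intro x hx
    by_cases h : x = 1
    · exact Or.inl h
    · exact Or.inr (hcon x hx h)
  have h2 := Set.ncard_le_ncard h1 (Set.toFinite _)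
  have h3 : ({1, c} : Set G).ncard ≤ 2 := by
    have := Set.ncard_insert_le (1 : G) {c}
    rw [Set.ncard_singleton] at this
    exact this
  have h5 : (H : Set G).ncard = 4 := by rw [← h4]; rfl
  omega

namespace M4

variable {B0 K V V1 : Subgroup G} (h : M4 B0 K V V1)
include h

set_option maxHeartbeats 1000000 in
theorem exists_dat [Finite G] {B : Subgroup G} (hB2 : IsPGroup 2 B) (hB0 : B0 ≤ B)
    (hBB0 : B ≤ normalizer (B0 : Set G)) (hBV : B ≤ normalizer (V : Set G)) (hBV1 : B ≤ normalizer (V1 : Set G))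
    (hPL : ∀ b ∈ B, PL K V1 b) {z : G} (hz : z ∈ V1) (hz1 : z ≠ 1) (hBz : ∀ b ∈ B, cn b z = z) {t0 : G}
    (ht0 : t0 ∈ B) (hmv : ∃ v ∈ V1, cn t0 v ≠ v) {l0 : G} (hl0 : l0 ∈ K) (hne : cj l0 V1 ≠ V1) :
    ∃ t ∈ B, ∃ b c d α w, Dat B0 K V V1 (cj l0 V1) z b c d t α w := by
  obtain ⟨k1, hk1, ek1⟩ := hPL t0 ht0 l0 hl0
  obtain ⟨b1, hb1, eb1⟩ := h.trans hk1 (by
    rw [← ek1]
    intro e
    apply hne
    have e1 : cj t0 V1 = V1 := mem_normalizer_iff_cj.1 (hBV1 ht0)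
    rw [← cj_inv_cj t0 (cj l0 V1), e, ← e1, cj_inv_cj, e1]) hl0 hne
  have ht : b1 * t0 ∈ B := mul_mem (hB0 hb1) ht0
  have tL : cj (b1 * t0) (cj l0 V1) = cj l0 V1 := by rw [← cj_cj b1, ek1, eb1]
  have tmv : ∃ v ∈ V1, cn (b1 * t0) v ≠ v := by
    obtain ⟨v, hv, e⟩ := hmv
    refine ⟨v, hv, ?_⟩
    rw [cn_cn, h.c1 b1 hb1 _ (mem_of_norm (hBV1 ht0) hv)]
    exact e
  have tz := hBz _ ht
  generalize b1 * t0 = t at ht tL tmv tz
  clear eb1 hb1 ek1 hk1
  have t2 : ∃ n : ℕ, t ^ 2 ^ n = 1 := by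
    obtain ⟨n, hn⟩ := hB2 ⟨t, ht⟩
    exact ⟨n, congrArg Subtype.val hn⟩
  have tn : ∀ q ∈ cj l0 V1, cn t q ∈ cj l0 V1 := fun q hq => by
    have := mem_cj' (u := t) hq
    rwa [tL] at this
  have tni : ∀ q ∈ cj l0 V1, cn t⁻¹ q ∈ cj l0 V1 := fun q hq => by
    have := mem_cj' (u := t⁻¹) hq
    rwa [mem_normalizer_iff_cj.1 (inv_mem (mem_normalizer_iff_cj.2 tL))] at this
  have tV : ∀ v ∈ V, cn t v ∈ V := fun v hv => mem_of_norm (hBV ht) hv
  have tVi : ∀ v ∈ V, cn t⁻¹ v ∈ V := fun v hv => mem_of_norm (inv_mem (hBV ht)) hv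
  have LV : cj l0 V1 ≤ V := h.lineV hl0
  have c4 : Nat.card (cj l0 V1) = 4 := by rw [card_cj, h.card1]
  have out : ∀ q ∈ cj l0 V1, q ≠ 1 → q ∉ V1 := fun q hq hq1 hq2 => hq1 (h.inf_bot hl0 hne hq2 hq)
  have sq1 : ∀ x ∈ V1, x * x = 1 := fun x hx => h.sq x (h.V1V hx)
  have sqL : ∀ x ∈ cj l0 V1, x * x = 1 := fun x hx => h.sq x (LV hx)
  obtain ⟨v0, hv0, ev0⟩ := tmv
  have v01 : v0 ≠ 1 := by
    rintro rfl
    exact ev0 (by simp [cn])
  have v0z : z ≠ v0 := by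
    rintro rfl
    exact ev0 tz
  -- what an element of `B0` with `[α, c] = z` does
  have hA : ∀ c ∈ cj l0 V1, c ≠ 1 → ∀ d ∈ cj l0 V1, d ≠ 1 → c ≠ d → ∀ α ∈ B0, cn α c = z * c →
      cn α d * d⁻¹ ≠ 1 ∧ z ≠ cn α d * d⁻¹ := by
    intro c hc c1 d hd d1 cd α hα αc
    have hno : ∀ q ∈ cj l0 V1, q ≠ 1 → cn α q ≠ q := by
      intro q hq q1 e
      have := h.triv hα (LV hq) (out q hq q1) e c (LV hc)
      rw [αc] at this
      exact hz1 (mul_eq_right.1 this)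
    constructor
    · intro e
      exact hno d hd d1 (mul_inv_eq_one.1 e)
    · intro e
      apply hno (c * d) (mul_mem hc hd)
      · intro e'
        exact cd (by rw [← h.inv' (LV hd)]; exact eq_inv_of_mul_eq_one_left e')
      · have e2 : cn α d = z * d := by rw [e]; group
        rw [cn_mul, αc, e2, h.comm (h.V1V hz) (LV hc), mul_assoc, ← mul_assoc z z d, sq1 z hz, one_mul]
  have tLmv : ∃ q ∈ cj l0 V1, cn t q ≠ q := by
    by_contra hcon
    push Not at hcon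
    obtain ⟨c, hc, c1⟩ := h.exists_ne l0
    obtain ⟨d, hd, d1, dc⟩ := exists_third c4 c
    obtain ⟨α, hα, αc⟩ := h.full (LV hc) (out c hc c1) hz
    obtain ⟨h1, h2⟩ := hA c hc c1 d hd d1 (Ne.symm dc) α hα αc
    have h3 := h.conj_same tV ((mem_normalizer_iff.1 (hBB0 ht) α).1 hα) hα (LV hc) (out c hc c1) (hcon c hc)
      (by rw [αc, cn_mul, tz, hcon c hc])
    have h4 := fix_four h.card1 sq1 hz hv0 hz1 v01 v0z tz ev0 (h.quad α hα d (LV hd))
      (by
        show cn t (cn α d * d⁻¹) = cn α d * d⁻¹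
        rw [cn_mul, ← h3 d (LV hd), cn_inv, hcon d hd])
    rcases h4 with h4 | h4
    · exact h1 h4
    · exact h2 h4.symm
  obtain ⟨c, hc, d, hd, c1, d1, cd, tc, td⟩ := two_on_four c4 sqL t2 tn tLmv
  obtain ⟨α, hα, αc⟩ := h.full (LV hc) (out c hc c1) hz
  obtain ⟨b1, zb⟩ := hA c hc c1 d hd d1 cd α hα αc
  have tα := h.conj_same tV ((mem_normalizer_iff.1 (hBB0 ht) α).1 hα) hα (LV hc) (out c hc c1) tc
      (by rw [αc, cn_mul, tz, tc])
  have hb : cn α d * d⁻¹ ∈ V1 := h.quad α hα d (LV hd)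
  have αd : cn α d = cn α d * d⁻¹ * d := by group
  generalize cn α d * d⁻¹ = b at hb αd b1 zb
  have zV := h.V1V hz
  have bV := h.V1V hb
  have cV := LV hc
  have dV := LV hd
  obtain ⟨⟨r1, r2, r3, r4, r5, r6⟩, ⟨s1, s2, s3, s4, s5, s6⟩, ⟨q1, q2, q3, q4⟩, ⟨p1, p2, p3, p4⟩⟩ :=
    h.rules zV bV cV dV
  have tb : cn t b = z * b := by
    have e := tα d dV
    rw [td, cn_mul, αc, αd, cn_mul, td] at e
    have e2 : z * b * (c * d) = cn t b * (c * d) := by
      rw [← e]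
      simp only [mul_assoc, s4]
    exact (mul_right_cancel e2).symm
  -- `β`
  have h' := h.conj hl0
  have zL : z ∉ cj l0 V1 := fun e => out z e hz1 hz
  obtain ⟨β, hβ, βz⟩ := h'.full zV zL hc
  have tβ : ∀ v ∈ V, cn t (cn β v) = cn β (cn t v) := by
    have key : ∀ v, cn (cn t β) (cn t v) = cn t (cn β v) := fun v => by simp only [cn]; group
    have hnek : cj l0⁻¹ (cj l0 V1) ≠ cj l0 V1 := by rw [cj_inv_cj]; exact Ne.symm hne
    obtain ⟨β2, hβ2, eβ⟩ := h'.root (g := cn t β) (inv_mem hl0) hnek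
      (PL.conj hl0 (PL.mul (PL.mul (hPL t ht) (PL.of_mem (h'.BK hβ))) (hPL _ (inv_mem ht))))
      (by
        intro v hv
        have e := key (cn t⁻¹ v)
        rw [cn_cn_inv] at e
        rw [e, h'.c1 β hβ _ (tni v hv), cn_cn_inv])
      (by
        intro v hv
        have e := key (cn t⁻¹ v)
        rw [cn_cn_inv] at e
        have e2 := tn _ (h'.quad β hβ _ (tVi v hv))
        rw [cn_mul, cn_inv, cn_cn_inv, ← e] at e2
        exact e2)
    have e3 : cn β2 z = cn β z := by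
      rw [← eβ z zV]
      have e := key z
      rw [tz] at e
      rw [e, βz, cn_mul, tc, tz]
    have e4 := h'.eq_of_one hβ2 hβ zV zL e3
    intro v hv
    rw [← key, eβ _ (tV v hv), e4 _ (tV v hv)]
  have he : cn β b * b⁻¹ ∈ cj l0 V1 := h'.quad β hβ b bV
  have βb : cn β b = cn β b * b⁻¹ * b := by group
  generalize cn β b * b⁻¹ = e at he βb
  have hline : cj β V1 = cj (α * l0) V1 := by
    refine h.spread (h'.BK hβ) (mul_mem (h.BK hα) hl0) (v := c * z) ?_ ?_ ?_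
    · rw [← βz]; exact mem_cj' hz
    · rw [h.comm cV zV, ← αc, ← cj_cj]; exact mem_cj' hc
    · intro e'
      apply out c hc c1
      rw [eq_inv_of_mul_eq_one_left e']
      exact inv_mem hz
  have hed : e = d := by
    have h1 : cn β b ∈ cj β V1 := mem_cj' hb
    rw [hline, ← cj_cj] at h1
    obtain ⟨q, hq, eq⟩ := h1
    change cn α q = cn β b at eq
    rw [βb] at eq
    have h2 := h.quad α hα q (LV hq)
    change cn α q * q⁻¹ ∈ V1 at h2
    have eV := LV he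
    have qV := LV hq
    have h3 : cn α q * q⁻¹ * b⁻¹ = e * q⁻¹ := by
      rw [eq, mul_assoc, mul_assoc, h.comm bV (mul_mem (inv_mem qV) (inv_mem bV))]
      group
    have h4 : e * q⁻¹ = 1 := h.inf_bot hl0 hne (h3 ▸ mul_mem h2 (inv_mem hb)) (mul_mem he (inv_mem hq))
    have h5 : e = q := mul_inv_eq_one.1 h4
    subst h5
    by_contra hne'
    have h6 : cn α (e * d) = e * d := by
      rw [cn_mul, eq, αd, mul_assoc, p2]
    have h7 : e * d ≠ 1 := fun e' => hne' (by rw [← h.inv' dV]; exact eq_inv_of_mul_eq_one_left e')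
    have h8 := h.triv hα (mul_mem eV dV) (out _ (mul_mem he hd) h7) h6 c cV
    rw [αc] at h8
    exact hz1 (mul_eq_right.1 h8)
  subst hed
  have αz : cn α z = z := h.c1 α hα z hz
  have αb : cn α b = b := h.c1 α hα b hb
  have βc : cn β c = c := h'.c1 β hβ c hc
  have βe : cn β e = e := h'.c1 β hβ e hd
  refine ⟨t, ht, b, c, e, α, α * (β * α), ?_⟩
  exact
    { ha := hz
      hb := hb
      a1 := hz1
      b1 := b1
      ab := zb
      line := ⟨l0, hl0, rfl⟩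
      ne := hne
      hc := hc
      hd := hd
      c1 := c1
      d1 := d1
      cd := cd
      hα := hα
      αc := αc
      αd := αd
      ta := tz
      tb := tb
      tc := tc
      td := td
      hw := mul_mem (h.BK hα) (mul_mem (h'.BK hβ) (h.BK hα))
      wa := by
        simp only [cn_cn, cn_mul, αz, βz, αc, mul_assoc, r1, r2, r3, r4, r5, r6, s1, s2, s3, s4, s5, s6, q1, q2, q3, q4,
          p1, p2, p3, p4, mul_one, one_mul]
      wb := by
        simp only [cn_cn, cn_mul, αb, αd, βb, mul_assoc, r1, r2, r3, r4, r5, r6, s1, s2, s3, s4, s5, s6, q1, q2, q3, q4,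
          p1, p2, p3, p4, mul_one, one_mul]
      wc := by
        simp only [cn_cn, cn_mul, αz, αc, βz, βc, mul_assoc, r1, r2, r3, r4, r5, r6, s1, s2, s3, s4, s5, s6, q1, q2, q3,
          q4, p1, p2, p3, p4, mul_one, one_mul]
      wd := by
        simp only [cn_cn, cn_mul, αb, αd, βb, βe, mul_assoc, r1, r2, r3, r4, r5, r6, s1, s2, s3, s4, s5, s6, q1, q2, q3,
          q4, p1, p2, p3, p4, mul_one, one_mul] }

end M4

/-- trivial on `V1` and on `V/V1` -/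
def Tr (V V1 : Subgroup G) (g : G) : Prop := (∀ v ∈ V1, cn g v = v) ∧ ∀ v ∈ V, cn g v * v⁻¹ ∈ V1

theorem Tr.mul {V V1 : Subgroup G} {g g' : G} (h : Tr V V1 g) (h' : Tr V V1 g') (hV : ∀ v ∈ V, cn g' v ∈ V) :
    Tr V V1 (g * g') := by
  refine ⟨fun v hv => by rw [cn_cn, h'.1 v hv, h.1 v hv], fun v hv => ?_⟩
  have e : cn (g * g') v * v⁻¹ = cn g (cn g' v) * (cn g' v)⁻¹ * (cn g' v * v⁻¹) := by
    rw [cn_cn]; group
  rw [e]
  exact mul_mem (h.2 _ (hV v hv)) (h'.2 v hv)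

theorem Tr.inv {V V1 : Subgroup G} {g : G} (h : Tr V V1 g) (hV : ∀ v ∈ V, cn g⁻¹ v ∈ V) :
    Tr V V1 g⁻¹ := by
  refine ⟨fun v hv => by rw [cn_inv_eq, h.1 v hv], fun v hv => ?_⟩
  have h1 := h.2 _ (hV v hv)
  rw [cn_cn_inv] at h1
  have e : cn g⁻¹ v * v⁻¹ = (v * (cn g⁻¹ v)⁻¹)⁻¹ := by group
  rw [e]
  exact inv_mem h1

theorem Tr.conj {V V1 : Subgroup G} {g t : G} (h : Tr V V1 g) (htV : ∀ v ∈ V, cn t⁻¹ v ∈ V)
    (ht1 : ∀ v ∈ V1, cn t⁻¹ v ∈ V1) (ht2 : ∀ v ∈ V1, cn t v ∈ V1) : Tr V V1 (t * g * t⁻¹) := by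
  refine ⟨fun v hv => ?_, fun v hv => ?_⟩
  · rw [cn_cn, cn_cn, h.1 _ (ht1 v hv), cn_cn_inv]
  · have h1 := ht2 _ (h.2 _ (htV v hv))
    rw [cn_mul, cn_inv, cn_cn_inv] at h1
    rw [cn_cn, cn_cn]
    exact h1

theorem Tr.congr {V V1 : Subgroup G} {g g' : G} (h : Tr V V1 g) (h1V : V1 ≤ V) (e : ∀ v ∈ V, cn g' v = cn g v) :
    Tr V V1 g' := by
  refine ⟨fun v hv => ?_, fun v hv => ?_⟩
  · rw [e v (h1V hv), h.1 v hv]
  · rw [e v hv]
    exact h.2 v hv

namespace M4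

variable {B0 K V V1 : Subgroup G} (h : M4 B0 K V V1)
include h

theorem tr {b : G} (hb : b ∈ B0) : Tr V V1 b := ⟨h.c1 b hb, h.quad b hb⟩

theorem ext4 {L0 : Subgroup G} {a b c d t α w : G} (D : Dat B0 K V V1 L0 a b c d t α w) {f g : G}
    (ea : cn f a = cn g a) (eb : cn f b = cn g b) (ec : cn f c = cn g c) (ed : cn f d = cn g d) :
    ∀ v ∈ V, cn f v = cn g v := by
  obtain ⟨l0, hl0, rfl⟩ := D.line
  intro v hv
  have c4 : Nat.card (cj l0 V1) = 4 := by rw [card_cj, h.card1]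
  have sqL : ∀ x ∈ cj l0 V1, x * x = 1 := fun x hx => h.sq x (h.lineV hl0 hx)
  have sq1 : ∀ x ∈ V1, x * x = 1 := fun x hx => h.sq x (h.V1V hx)
  have e1 : ∀ g : G, cn g 1 = 1 := fun g => by simp [cn]
  obtain ⟨p, hp, q, hq, rfl⟩ := h.compl hl0 D.ne hv
  have h1 : cn f p = cn g p := by
    rcases four_sub h.card1 sq1 D.ha D.hb D.a1 D.b1 D.ab hp with h | h | h | h
    · rw [h, e1, e1]
    · rw [h, ea]
    · rw [h, eb]
    · rw [h, cn_mul, cn_mul, ea, eb]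
  have h2 : cn f q = cn g q := by
    rcases four_sub c4 sqL D.hc D.hd D.c1 D.d1 D.cd hq with h | h | h | h
    · rw [h, e1, e1]
    · rw [h, ec]
    · rw [h, ed]
    · rw [h, cn_mul, cn_mul, ec, ed]
  rw [cn_mul, cn_mul, h1, h2]

/-- a 2-element which centralises `V1` and normalises `V`, `B0` is trivial on `V/V1` -/
theorem tr_of_cent {L0 : Subgroup G} {a b c d t α w : G} (D : Dat B0 K V V1 L0 a b c d t α w) {s : G}
    (s2 : ∃ n : ℕ, s ^ 2 ^ n = 1) (sV : ∀ v ∈ V, cn s v ∈ V) (sB : ∀ b ∈ B0, cn s b ∈ B0)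
    (s1 : ∀ v ∈ V1, cn s v = v) : Tr V V1 s := by
  obtain ⟨l0, hl0, rfl⟩ := D.line
  have hne := D.ne
  have hc := D.hc
  have LV : cj l0 V1 ≤ V := h.lineV hl0
  have c4 : Nat.card (cj l0 V1) = 4 := by rw [card_cj, h.card1]
  have out : ∀ q ∈ cj l0 V1, q ≠ 1 → q ∉ V1 := fun q hq hq1 hq2 => hq1 (h.inf_bot hl0 hne hq2 hq)
  have sqL : ∀ x ∈ cj l0 V1, x * x = 1 := fun x hx => h.sq x (LV hx)
  have i1 : ∃ x ∈ cj l0 V1, x ≠ 1 ∧ cn s x * x⁻¹ ∈ V1 := by
    by_contra hcon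
    push Not at hcon
    have key : ∀ x ∈ cj l0 V1, x ≠ 1 → ∀ p ∈ V1, cn s x ≠ p * x := by
      intro x hx x1 p hp e
      apply hcon x hx x1
      rw [e]
      simpa using hp
    have key2 : ∀ x ∈ cj l0 V1, x ≠ 1 → ∀ p ∈ V1, cn s x ≠ p := by
      intro x hx x1 p hp e
      apply out x hx x1
      rw [← s1 p hp, cn_inj] at e
      exact e ▸ hp
    obtain ⟨p1, hp1, x1, hx1, e1⟩ := h.compl hl0 hne (sV c (LV hc))
    obtain ⟨p2, hp2, x2, hx2, e2⟩ := h.compl hl0 hne (sV x1 (LV hx1))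
    have x11 : x1 ≠ 1 := by
      rintro rfl
      exact key2 c hc D.c1 p1 hp1 (by rw [e1, mul_one])
    have cx : c ≠ x1 := by
      rintro rfl
      exact key c hc D.c1 p1 hp1 e1
    obtain ⟨⟨r1, r2, r3, r4, r5, r6⟩, ⟨u1, u2, u3, u4, u5, u6⟩, ⟨q1, q2, q3, q4⟩, ⟨v1, v2, v3, v4⟩⟩ :=
      h.rules (h.V1V hp1) (h.V1V hp2) (LV hc) (LV hx1)
    rcases four_sub c4 sqL hc hx1 D.c1 x11 cx hx2 with h3 | h3 | h3 | h3
    · exact key2 x1 hx1 x11 p2 hp2 (by rw [e2, h3, mul_one])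
    · refine key (c * x1) (mul_mem hc hx1) ?_ (p1 * p2) (mul_mem hp1 hp2) ?_
      · intro e'
        exact cx (by rw [← h.inv' (LV hx1)]; exact eq_inv_of_mul_eq_one_left e')
      · rw [cn_mul, e1, e2, h3]
        simp only [mul_assoc, r1, r2, r3, r4, r5, r6, u1, u2, u3, u4, u5, u6]
    · exact key x1 hx1 x11 p2 hp2 (by rw [e2, h3])
    · have h5 : cn s c = c := by
        apply fix_of_cube s2
        rw [cn_cn, cn_cn, e1, cn_mul, s1 p1 hp1, e2, h3, cn_mul, cn_mul, cn_mul, s1 p1 hp1, s1 p2 hp2, e1, e2, h3]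
        simp only [mul_assoc, r1, r2, r3, r4, r5, r6, u1, u2, u3, u4, u5, u6, q1, q2, q3, q4, v1, v2, v3, v4, mul_one,
          one_mul]
      exact key c hc D.c1 1 (one_mem _) (by rw [h5, one_mul])
  obtain ⟨x, hx, x1, hp⟩ := i1
  have xV := LV hx
  have hα := D.hα
  have sα : ∀ v ∈ V, cn α (cn s v) = cn s (cn α v) := by
    have key : ∀ v, cn (cn s α) (cn s v) = cn s (cn α v) := fun v => by simp only [cn]; group
    have hy := h.quad α hα x xV
    have ey : cn α x = cn α x * x⁻¹ * x := by group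
    have ep : cn s x = cn s x * x⁻¹ * x := by group
    change cn α x * x⁻¹ ∈ V1 at hy
    have h1 := key x
    rw [ey, ep] at h1
    generalize cn α x * x⁻¹ = y at hy ey h1
    generalize cn s x * x⁻¹ = p at hp ep h1
    rw [cn_mul, h.c1 _ (sB α hα) p hp, cn_mul, s1 y hy, ep, ← mul_assoc, h.comm (h.V1V hy) (h.V1V hp), mul_assoc] at h1
    have h2 : cn (cn s α) x = cn α x := by
      rw [mul_left_cancel h1, ey]
    have h3 := h.eq_of_one (sB α hα) hα xV (out x hx x1) h2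
    intro v hv
    rw [← key, h3 _ (sV v hv)]
  refine ⟨s1, fun v hv => ?_⟩
  by_contra hcon
  have hy := h.quad α hα v hv
  have ey : cn α v = cn α v * v⁻¹ * v := by group
  change cn α v * v⁻¹ ∈ V1 at hy
  have h4 := sα v hv
  rw [ey] at h4
  generalize cn α v * v⁻¹ = y at hy ey h4
  rw [cn_mul, s1 y hy] at h4
  have h5 : cn α (cn s v * v⁻¹) = cn s v * v⁻¹ := by
    rw [cn_mul, cn_inv, h4, ey, mul_inv_rev]
    have h6 : y * cn s v * (v⁻¹ * y⁻¹) = y * (cn s v * v⁻¹) * y⁻¹ := by group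
    rw [h6, h.comm (h.V1V hy) (mul_mem (sV v hv) (inv_mem hv))]
    group
  have h7 := h.triv hα (mul_mem (sV v hv) (inv_mem hv)) hcon h5 c (LV hc)
  rw [D.αc] at h7
  exact D.a1 (mul_eq_right.1 h7)

set_option maxHeartbeats 1000000 in
/-- **(Sig)** for the elements which centralise `V1`. -/
theorem sig_cent [Finite G] {L0 B S1 : Subgroup G} (hS2 : IsPGroup 2 S1) (hBS : B ≤ S1) (hB0 : B0 ≤ B)
    (hSB : S1 ≤ normalizer (B : Set G)) (hSB0 : S1 ≤ normalizer (B0 : Set G)) (hSV : S1 ≤ normalizer (V : Set G))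
    (hSV1 : S1 ≤ normalizer (V1 : Set G)) (hPL : ∀ b ∈ B, PL K V1 b) {a b c d t α w : G}
    (D : Dat B0 K V V1 L0 a b c d t α w) (ht : t ∈ B) {s : G} (hs : s ∈ S1) (s1 : ∀ v ∈ V1, cn s v = v)
    (hsyl : ∀ T : Subgroup G, IsPGroup 2 T → B ≤ T → T ≤ K ⊔ cj s K ⊔ B → T ≤ B) : PL K V1 s := by
  obtain ⟨l0, hl0, rfl⟩ := D.line
  have hne := D.ne
  have hc := D.hc
  have hd := D.hd
  have LV : cj l0 V1 ≤ V := h.lineV hl0
  have c4 : Nat.card (cj l0 V1) = 4 := by rw [card_cj, h.card1]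
  have out : ∀ q ∈ cj l0 V1, q ≠ 1 → q ∉ V1 := fun q hq hq1 hq2 => hq1 (h.inf_bot hl0 hne hq2 hq)
  have sq1 : ∀ x ∈ V1, x * x = 1 := fun x hx => h.sq x (h.V1V hx)
  have sqL : ∀ x ∈ cj l0 V1, x * x = 1 := fun x hx => h.sq x (LV hx)
  have aV := h.V1V D.ha
  have bV := h.V1V D.hb
  have cV := LV hc
  have dV := LV hd
  have two : ∀ {g : G}, g ∈ S1 → ∃ n : ℕ, g ^ 2 ^ n = 1 := by
    intro g hg
    obtain ⟨n, hn⟩ := hS2 ⟨g, hg⟩
    exact ⟨n, congrArg Subtype.val hn⟩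
  have nV : ∀ {g : G}, g ∈ S1 → ∀ v ∈ V, cn g v ∈ V := fun hg v hv => mem_of_norm (hSV hg) hv
  have nV1 : ∀ {g : G}, g ∈ S1 → ∀ v ∈ V1, cn g v ∈ V1 := fun hg v hv => mem_of_norm (hSV1 hg) hv
  have nB0 : ∀ {g : G}, g ∈ S1 → ∀ v ∈ B0, cn g v ∈ B0 := fun hg v hv => mem_of_norm (hSB0 hg) hv
  have tb : cn t b ≠ b := by
    rw [D.tb]
    exact fun e => D.a1 (mul_eq_right.1 e)
  -- `s` is trivial on `V/V1`
  have hs' := h.tr_of_cent D (two hs) (nV hs) (nB0 hs) s1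
  obtain ⟨α0, hα0, e0⟩ := h.full cV (out c hc D.c1) (hs'.2 c cV)
  have e0' : cn α0 c = cn s c := by rw [e0]; group
  have hα0S : α0 ∈ S1 := hBS (hB0 hα0)
  have s'S : α0⁻¹ * s ∈ S1 := mul_mem (inv_mem hα0S) hs
  have s'Tr : Tr V V1 (α0⁻¹ * s) := ((h.tr hα0).inv (nV (inv_mem hα0S))).mul hs' (nV hs)
  have s'c : cn (α0⁻¹ * s) c = c := by rw [cn_cn, ← e0', cn_inv_cn]
  have hs0 : s = α0 * (α0⁻¹ * s) := by group
  have hr : α0⁻¹ * s = α0⁻¹ * s := rfl
  generalize hs'def : α0⁻¹ * s = s' at s'S s'Tr s'c hs0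
  have hy : cn s' d * d⁻¹ ∈ V1 := s'Tr.2 d dV
  have s'd : cn s' d = cn s' d * d⁻¹ * d := by group
  generalize cn s' d * d⁻¹ = y at hy s'd
  have yV := h.V1V hy
  -- `κ = [s', t]`
  have hκ : ∀ v ∈ V, cn s' (cn t v) = cn t (cn s' v) := by
    have htS := hBS ht
    have hκB : s' * (t * s'⁻¹ * t⁻¹) ∈ B := by
      have e : s' * (t * s'⁻¹ * t⁻¹) = s' * t * s'⁻¹ * t⁻¹ := by group
      rw [e]
      exact mul_mem ((mem_normalizer_iff.1 (hSB s'S) t).1 ht) (inv_mem ht)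
    have hκT : Tr V V1 (s' * (t * s'⁻¹ * t⁻¹)) :=
      s'Tr.mul ((s'Tr.inv (nV (inv_mem s'S))).conj (nV (inv_mem htS)) (nV1 (inv_mem htS)) (nV1 htS))
        (nV (mul_mem (mul_mem htS (inv_mem s'S)) (inv_mem htS)))
    obtain ⟨b0, hb0, e1⟩ := h.root hl0 hne (hPL _ hκB) hκT.1 hκT.2
    have e2 : cn b0 c = c := by
      rw [← e1 c cV, cn_cn, cn_cn, cn_cn]
      have e3 : cn t⁻¹ c = c := cn_inv_eq.2 D.tc.symm
      have e4 : cn s'⁻¹ c = c := cn_inv_eq.2 s'c.symm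
      rw [e3, e4, D.tc, s'c]
    have e5 := h.triv hb0 cV (out c hc D.c1) e2
    intro v hv
    have e6 := e1 (cn t (cn s' v)) (nV htS _ (nV s'S v hv))
    rw [e5 _ (nV htS _ (nV s'S v hv)), ← cn_cn, ← cn_cn] at e6
    have e7 : s' * (t * s'⁻¹ * t⁻¹) * t * s' = s' * t := by group
    rw [e7, cn_cn] at e6
    exact e6
  obtain ⟨⟨r1, r2, r3, r4, r5, r6⟩, ⟨u1, u2, u3, u4, u5, u6⟩, ⟨q1, q2, q3, q4⟩, ⟨p1, p2, p3, p4⟩⟩ :=
    h.rules aV bV cV dV
  have ty : cn t y = y := by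
    have e := hκ d dV
    rw [D.td, cn_mul, s'c, s'd, cn_mul, D.td, ← mul_assoc, h.comm cV yV, mul_assoc] at e
    exact (mul_right_cancel e).symm
  rcases fix_four h.card1 sq1 D.ha D.hb D.a1 D.b1 D.ab D.ta tb hy ty with rfl | rfl
  · -- `s` acts as `α0`
    rw [one_mul] at s'd
    have e1 : ∀ v ∈ V, cn s' v = cn 1 v := h.ext4 D (by rw [cn_one, s'Tr.1 _ D.ha]) (by rw [cn_one, s'Tr.1 _ D.hb])
      (by rw [cn_one, s'c]) (by rw [cn_one, s'd])
    refine PL.congr (g := α0) (V := V) (fun k hk => h.lineV hk) ?_ (PL.of_mem (h.BK hα0))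
    intro v hv
    rw [hs0, cn_cn, e1 v hv, cn_one]
  · exfalso
    -- `s'' = α s'`
    have hαS : α ∈ S1 := hBS (hB0 D.hα)
    have ssS : α * s' ∈ S1 := mul_mem hαS s'S
    have ssT : Tr V V1 (α * s') := (h.tr D.hα).mul s'Tr (nV s'S)
    have ssa : cn (α * s') y = y := ssT.1 y D.ha
    have ssb : cn (α * s') b = b := ssT.1 b D.hb
    have ssc : cn (α * s') c = y * c := by rw [cn_cn, s'c, D.αc]
    have ssd : cn (α * s') d = y * (b * d) := by rw [cn_cn, s'd, cn_mul, D.αd, h.c1 α D.hα y D.ha]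
    have hmem : ∀ g ∈ K, (α * s') * g * (α * s')⁻¹ ∈ K ⊔ cj s K ⊔ B := by
      intro g hg
      have e : (α * s') * g * (α * s')⁻¹ = (α * α0⁻¹) * (s * g * s⁻¹) * (α * α0⁻¹)⁻¹ := by
        rw [← hs'def]; group
      rw [e]
      have h1 : α * α0⁻¹ ∈ K ⊔ cj s K ⊔ B :=
        le_sup_left (a := K ⊔ cj s K) (le_sup_left (a := K) (mul_mem (h.BK D.hα) (inv_mem (h.BK hα0))))
      have h2 : s * g * s⁻¹ ∈ K ⊔ cj s K ⊔ B :=
        le_sup_left (a := K ⊔ cj s K) (le_sup_right (a := K) (mem_cj' hg))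
      exact mul_mem (mul_mem h1 h2) (inv_mem h1)
    generalize α * s' = ss at ssS ssT ssa ssb ssc ssd hmem
    have isa : cn ss⁻¹ y = y := cn_inv_eq.2 ssa.symm
    have isb : cn ss⁻¹ b = b := cn_inv_eq.2 ssb.symm
    have isc : cn ss⁻¹ c = y * c := cn_inv_eq.2 (by rw [cn_mul, ssa, ssc, p1])
    have isd : cn ss⁻¹ d = y * (b * d) := cn_inv_eq.2 (by
      rw [cn_mul, cn_mul, ssa, ssb, ssd, u1, p1, p2])
    have hwX : w ∈ K ⊔ cj s K ⊔ B := le_sup_left (a := K ⊔ cj s K) (le_sup_left (a := K) D.hw)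
    have htX : t ∈ K ⊔ cj s K ⊔ B := le_sup_right (a := K ⊔ cj s K) ht
    have fX : w * (ss * w * ss⁻¹) * t * w ∈ K ⊔ cj s K ⊔ B :=
      mul_mem (mul_mem (mul_mem hwX (hmem w D.hw)) htX) hwX
    have fa : cn (w * (ss * w * ss⁻¹) * t * w) y = cn ss y := by
      simp only [cn_cn, cn_mul, D.ta, D.tb, D.tc, D.td, D.wa, D.wb, D.wc, D.wd, isa, isb, isc, isd, ssa, ssb, ssc, ssd,
        mul_assoc, r1, r2, r3, r4, r5, r6, u1, u2, u3, u4, u5, u6, q1, q2, q3, q4, p1, p2, p3, p4, mul_one, one_mul]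
    have fb : cn (w * (ss * w * ss⁻¹) * t * w) b = cn ss b := by
      simp only [cn_cn, cn_mul, D.ta, D.tb, D.tc, D.td, D.wa, D.wb, D.wc, D.wd, isa, isb, isc, isd, ssa, ssb, ssc, ssd,
        mul_assoc, r1, r2, r3, r4, r5, r6, u1, u2, u3, u4, u5, u6, q1, q2, q3, q4, p1, p2, p3, p4, mul_one, one_mul]
    have fc : cn (w * (ss * w * ss⁻¹) * t * w) c = cn ss c := by
      simp only [cn_cn, cn_mul, D.ta, D.tb, D.tc, D.td, D.wa, D.wb, D.wc, D.wd, isa, isb, isc, isd, ssa, ssb, ssc, ssd,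
        mul_assoc, r1, r2, r3, r4, r5, r6, u1, u2, u3, u4, u5, u6, q1, q2, q3, q4, p1, p2, p3, p4, mul_one, one_mul]
    have fd : cn (w * (ss * w * ss⁻¹) * t * w) d = cn ss d := by
      simp only [cn_cn, cn_mul, D.ta, D.tb, D.tc, D.td, D.wa, D.wb, D.wc, D.wd, isa, isb, isc, isd, ssa, ssb, ssc, ssd,
        mul_assoc, r1, r2, r3, r4, r5, r6, u1, u2, u3, u4, u5, u6, q1, q2, q3, q4, p1, p2, p3, p4, mul_one, one_mul]
    have hf := h.ext4 D fa fb fc fd
    generalize w * (ss * w * ss⁻¹) * t * w = f at fX hf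
    clear fa fb fc fd
    generalize hXdef : K ⊔ cj s K ⊔ B = X at *
    have hXV : X ≤ normalizer (V : Set G) := by
      rw [← hXdef]
      refine sup_le (sup_le h.KV ?_) (hBS.trans hSV)
      rintro _ ⟨k, hk, rfl⟩
      exact mul_mem (mul_mem (hSV hs) (h.KV hk)) (inv_mem (hSV hs))
    have hBX : B ≤ X := by rw [← hXdef]; exact le_sup_right
    have xV : ∀ {g : G}, g ∈ X → ∀ v ∈ V, cn g v ∈ V := fun hg v hv => mem_of_norm (hXV hg) hv
    let Y : Subgroup G :=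
      { carrier := {g | g ∈ X ∧ ∃ y ∈ S1, ∀ v ∈ V, cn g v = cn y v}
        one_mem' := ⟨one_mem _, 1, one_mem _, fun v _ => rfl⟩
        mul_mem' := by
          rintro g g' ⟨hg, y, hy, e⟩ ⟨hg', y', hy', e'⟩
          refine ⟨mul_mem hg hg', y * y', mul_mem hy hy', fun v hv => ?_⟩
          rw [cn_cn, cn_cn, e' v hv, e _ (nV hy' v hv)]
        inv_mem' := by
          rintro g ⟨hg, y, hy, e⟩
          refine ⟨inv_mem hg, y⁻¹, inv_mem hy, fun v hv => ?_⟩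
          have h1 := e _ (nV (inv_mem hy) v hv)
          rw [cn_cn_inv] at h1
          rw [cn_inv_eq, h1] }
    have hYX : Y ≤ X := fun g hg => hg.1
    have hBY : B ≤ Y := fun g hg => ⟨hBX hg, g, hBS hg, fun v _ => rfl⟩
    have hfY : f ∈ Y := ⟨fX, ss, ssS, hf⟩
    have hsylY : Syl B Y := ⟨hBY, hS2.to_le hBS, fun Q hQ hQ2 hBQ => le_antisymm (hsyl Q hQ2 hBQ (hQ.trans hYX)) hBQ⟩
    have hCY : X ⊓ centralizer (V : Set G) ≤ Y := by
      rintro g ⟨hg, hgc⟩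
      refine ⟨hg, 1, one_mem _, fun v hv => ?_⟩
      rw [cn_one, cn_eq_self]
      exact (mem_centralizer_iff.1 hgc v hv).symm
    have memC : ∀ {g : G}, g ∈ X → (∀ v ∈ V, cn g v = v) → g ∈ X ⊓ centralizer (V : Set G) := by
      intro g hg e
      exact mem_inf.2 ⟨hg, mem_centralizer_iff.2 fun v hv => (cn_eq_self.1 (e v hv)).symm⟩
    have Cmem : ∀ {g : G}, g ∈ X ⊓ centralizer (V : Set G) → ∀ v ∈ V, cn g v = v := by
      rintro g ⟨hg, hgc⟩ v hv
      exact cn_eq_self.2 (mem_centralizer_iff.1 hgc v hv).symm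
    obtain ⟨t1, ht1, hC⟩ := exists_of_syl hsylY hCY
      (by
        intro r hr c' hc'
        apply memC (mul_mem (mul_mem (hYX hr) hc'.1) (inv_mem (hYX hr)))
        intro v hv
        rw [cn_cn, cn_cn, Cmem hc' _ (xV (inv_mem (hYX hr)) v hv), cn_cn_inv])
      (by
        intro r hr
        obtain ⟨hrX, y', hy', e⟩ := hr
        obtain ⟨n, hn⟩ := two hy'
        refine ⟨n, memC (pow_mem hrX _) ?_⟩
        have h1 : ∀ m : ℕ, ∀ v ∈ V, cn (r ^ m) v = cn (y' ^ m) v := by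
          intro m
          induction m with
          | zero => intro v _; rw [pow_zero, pow_zero]
          | succ m ih =>
            intro v hv
            rw [pow_succ, pow_succ, cn_cn, cn_cn, e v hv, ih _ (nV hy' v hv)]
        intro v hv
        rw [h1 _ v hv, hn, cn_one])
      hfY
    have h1 : ∀ v ∈ V, cn t1 v = cn ss v := by
      intro v hv
      have h2 := Cmem hC v hv
      rw [cn_cn, cn_inv_eq] at h2
      rw [← h2, hf v hv]
    have h3 := ssT.congr h.V1V h1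
    obtain ⟨b0, hb0, e1⟩ := h.root hl0 hne (hPL _ ht1) h3.1 h3.2
    have h4 := h.eq_of_one hb0 D.hα cV (out c hc D.c1) (by rw [← e1 c cV, h1 c cV, ssc, D.αc]) d dV
    rw [← e1 d dV, h1 d dV, ssd, D.αd] at h4
    exact D.a1 (mul_eq_right.1 h4)

end M4

/-- **(Sig)**: `S1` permutes the lines. (Not used of the literal data of `N4`: `cor`, `gen`, `tor`.) -/
theorem N4.sig [Finite G] {B0 K V V1 B S1 : Subgroup G} (h : N4 B0 K V V1) (hS2 : IsPGroup 2 S1) (hBS : B ≤ S1)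
    (hB0 : B0 ≤ B) (hSB : S1 ≤ normalizer (B : Set G)) (hSB0 : S1 ≤ normalizer (B0 : Set G))
    (hSV : S1 ≤ normalizer (V : Set G)) (hSV1 : S1 ≤ normalizer (V1 : Set G))
    (hPL : ∀ b ∈ B, ∀ k ∈ K, ∃ k' ∈ K, cj b (cj k V1) = cj k' V1) {z : G}
    (hz : z ∈ V1) (hz1 : z ≠ 1) (hSz : ∀ s ∈ S1, s * z = z * s) {t : G} (ht : t ∈ B) (hmv : ∃ v ∈ V1, t * v ≠ v * t)
    (hsyl : ∀ s ∈ S1, ∀ T : Subgroup G, IsPGroup 2 T → B ≤ T → T ≤ K ⊔ cj s K ⊔ B → T ≤ B) :
    ∀ s ∈ S1, ∀ k ∈ K, ∃ k' ∈ K, cj s (cj k V1) = cj k' V1 := by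
  have h4 := h.toM4
  have hmv' : ∃ v ∈ V1, cn t v ≠ v := by
    obtain ⟨v, hv, e⟩ := hmv
    exact ⟨v, hv, fun e' => e (cn_eq_self.1 e')⟩
  have hSz' : ∀ s ∈ S1, cn s z = z := fun s hs => cn_eq_self.2 (hSz s hs)
  obtain ⟨l0, hl0, v0, hv0, hl⟩ := h.mv
  have hne : cj l0 V1 ≠ V1 := by
    intro e
    apply hl
    rw [← e]
    exact mem_cj' hv0
  obtain ⟨t', ht', b, c, d, α, w, D⟩ := h4.exists_dat (hS2.to_le hBS) hB0 (hBS.trans hSB0) (hBS.trans hSV)
    (hBS.trans hSV1) hPL hz hz1 (fun b hb => hSz' b (hBS hb)) ht hmv' hl0 hne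
  have sq1 : ∀ x ∈ V1, x * x = 1 := fun x hx => h4.sq x (h4.V1V hx)
  intro s hs
  by_cases hc : ∀ v ∈ V1, cn s v = v
  · exact h4.sig_cent hS2 hBS hB0 hSB hSB0 hSV hSV1 hPL D ht' hs hc (hsyl s hs)
  · push Not at hc
    obtain ⟨v, hv, ev⟩ := hc
    have key : ∀ {g : G}, g ∈ S1 → (∃ v ∈ V1, cn g v ≠ v) → cn g b = z * b := by
      intro g hg hmv
      have hgb : cn g b ∈ V1 := mem_of_norm (hSV1 hg) D.hb
      rcases four_sub h.card1 sq1 D.ha D.hb D.a1 D.b1 D.ab hgb with h1 | h1 | h1 | h1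
      · exact absurd (by rw [← cn_inv_cn g b, h1]; simp [cn]) D.b1
      · rw [← hSz' g hg, cn_inj] at h1
        exact absurd h1.symm D.ab
      · exfalso
        obtain ⟨v, hv, ev⟩ := hmv
        apply ev
        rcases four_sub h.card1 sq1 D.ha D.hb D.a1 D.b1 D.ab hv with h2 | h2 | h2 | h2
        · rw [h2]; simp [cn]
        · rw [h2, hSz' g hg]
        · rw [h2, h1]
        · rw [h2, cn_mul, hSz' g hg, h1]
      · exact h1
    have hts : t'⁻¹ * s ∈ S1 := mul_mem (inv_mem (hBS ht')) hs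
    have h1 : cn (t'⁻¹ * s) b = b := by
      rw [cn_cn, key hs ⟨v, hv, ev⟩, ← D.tb, cn_inv_cn]
    have h2 : ∀ v ∈ V1, cn (t'⁻¹ * s) v = v := by
      intro v hv
      rcases four_sub h.card1 sq1 D.ha D.hb D.a1 D.b1 D.ab hv with h2 | h2 | h2 | h2
      · rw [h2]; simp [cn]
      · rw [h2, hSz' _ hts]
      · rw [h2, h1]
      · rw [h2, cn_mul, hSz' _ hts, h1]
    have h3 := h4.sig_cent hS2 hBS hB0 hSB hSB0 hSV hSV1 hPL D ht' hts h2 (hsyl _ hts)
    have h5 := PL.mul (hPL t' ht') h3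
    rw [mul_inv_cancel_left] at h5
    exact h5

end Cfsg.Agent.Omega.OM.Lev.Low.TorusK.Sig

end

section


/-!
# TORUS, `k ≥ 4`, (Sig) of helper607 #23961 = LEMMA U of helper472 #24331, abstract part

`W` elementary abelian of order 16, `c ≤ W` of order 4; subgroups of `MulAut W`: `K` (`= SL₂(4)`), `B₀ ≤ K` its Sylow
2-subgroup fixing `c`, `B` Sylow in `Y ≥ K`.

* `St c`, `Un c`;
* `Dt` : the data;
* `Dt.main` : a 2-element `s` which normalises `Y`, `c` (and `⟨B, s⟩` a 2-group) lies in `B`.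
-/

set_option autoImplicit false
set_option linter.unusedSectionVars false
set_option linter.unusedVariables false

namespace Cfsg.Agent.Omega.OM.Lev.Low.TorusK.SigU

open Subgroup

section abs

variable {W : Type*} [CommGroup W]

/-- the elements which preserve `c` -/
def St (c : Subgroup W) : Subgroup (MulAut W) where
  carrier := {x | ∀ v, x v ∈ c ↔ v ∈ c}
  one_mem' := fun v => Iff.rfl
  mul_mem' := fun {a b} ha hb v => by
    show a (b v) ∈ c ↔ v ∈ c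
    rw [ha, hb]
  inv_mem' := fun {a} ha v => by
    rw [← ha, MulAut.apply_inv_self]

theorem mem_St {c : Subgroup W} {x : MulAut W} : x ∈ St c ↔ ∀ v, x v ∈ c ↔ v ∈ c := Iff.rfl

/-- the elements which are trivial on `c` and `W / c` -/
def Un (c : Subgroup W) : Subgroup (MulAut W) where
  carrier := {x | (∀ v ∈ c, x v = v) ∧ ∀ v, x v * v⁻¹ ∈ c}
  one_mem' := ⟨fun v _ => rfl, fun v => by
    show v * v⁻¹ ∈ c
    rw [mul_inv_cancel]; exact one_mem _⟩
  mul_mem' := fun {a b} ha hb => ⟨fun v hv => by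
    show a (b v) = v
    rw [hb.1 v hv, ha.1 v hv], fun v => by
    show a (b v) * v⁻¹ ∈ c
    have h1 := mul_mem (ha.2 (b v)) (hb.2 v)
    have e : a (b v) * (b v)⁻¹ * (b v * v⁻¹) = a (b v) * v⁻¹ := by group
    rwa [e] at h1⟩
  inv_mem' := fun {a} ha => ⟨fun v hv => by
      have h1 := congrArg (a⁻¹ : MulAut W) (ha.1 v hv)
      rw [MulAut.inv_apply_self] at h1
      exact h1.symm, fun v => by
      have h1 := ha.2 (a⁻¹ v)
      rw [MulAut.apply_inv_self] at h1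
      have h2 := inv_mem h1
      have e : (v * (a⁻¹ v)⁻¹)⁻¹ = a⁻¹ v * v⁻¹ := by rw [mul_inv_rev, inv_inv]
      rwa [e] at h2⟩

theorem mem_Un {c : Subgroup W} {x : MulAut W} : x ∈ Un c ↔ (∀ v ∈ c, x v = v) ∧ ∀ v, x v * v⁻¹ ∈ c := Iff.rfl

theorem Un_St (c : Subgroup W) : Un c ≤ St c := by
  intro x hx v
  have h1 := hx.2 v
  constructor
  · intro h2
    have h3 := mul_mem (inv_mem h1) h2
    have e : (x v * v⁻¹)⁻¹ * x v = v := by group
    rwa [e] at h3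
  · intro h2
    rw [hx.1 v h2]
    exact h2

theorem inv_eq (sq : ∀ v : W, v * v = 1) (v : W) : v⁻¹ = v := (eq_inv_of_mul_eq_one_left (sq v)).symm

theorem Un_sq (sq : ∀ v : W, v * v = 1) {c : Subgroup W} {x : MulAut W} (hx : x ∈ Un c) : x * x = 1 := by
  ext v
  show x (x v) = v
  have h1 := hx.1 _ (hx.2 v)
  rw [map_mul, map_inv, inv_eq sq (x v), inv_eq sq v] at h1
  exact mul_right_cancel (h1.trans (mul_comm _ _))

theorem Un_comm {c : Subgroup W} {x y : MulAut W} (hx : x ∈ Un c) (hy : y ∈ Un c) : x * y = y * x := by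
  ext v
  show x (y v) = y (x v)
  have h1 := hx.1 _ (hy.2 v)
  have h2 := hy.1 _ (hx.2 v)
  rw [map_mul, map_inv, mul_inv_eq_iff_eq_mul] at h1 h2
  rw [h1, h2, mul_assoc, mul_assoc, mul_comm v⁻¹, mul_comm v⁻¹, ← mul_assoc, ← mul_assoc, mul_comm (y v)]

theorem Un_norm {c : Subgroup W} {x g : MulAut W} (hg : g ∈ St c) (hx : x ∈ Un c) : g * x * g⁻¹ ∈ Un c := by
  refine ⟨fun v hv => ?_, fun v => ?_⟩
  · show g (x (g⁻¹ v)) = v
    rw [hx.1 _ ((inv_mem hg v).2 hv), MulAut.apply_inv_self]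
  · show g (x (g⁻¹ v)) * v⁻¹ ∈ c
    have h1 := (hg _).2 (hx.2 (g⁻¹ v))
    rwa [map_mul, map_inv, MulAut.apply_inv_self] at h1

/-! ### Groups of order 4 -/

theorem four {D : Subgroup W} (hD : Nat.card D = 4) (sq : ∀ v : W, v * v = 1) {v w : W} (hv : v ∈ D)
    (hw : w ∈ D) (hv1 : v ≠ 1) (hw1 : w ≠ 1) (hvw : v ≠ w) {x : W} (hx : x ∈ D) :
    x = 1 ∨ x = v ∨ x = w ∨ x = v * w := by
  classical
  have h1 : v * w ≠ 1 := fun e => hvw (by rw [← inv_eq sq w]; exact eq_inv_of_mul_eq_one_left e)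
  have h2 : v * w ≠ v := fun e => hw1 (by simpa using e)
  have h3 : v * w ≠ w := fun e => hv1 (by simpa using e)
  have hfin : (D : Set W).Finite := Set.finite_of_ncard_ne_zero (by
    rw [← Nat.card_coe_set_eq]
    show Nat.card D ≠ 0
    rw [hD]; norm_num)
  have hs : ({1, v, w, v * w} : Set W) ⊆ D := by
    rintro y (rfl | rfl | rfl | rfl)
    · exact one_mem _
    · exact hv
    · exact hw
    · exact mul_mem hv hw
  have hc : ({1, v, w, v * w} : Set W).ncard = 4 := by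
    rw [Set.ncard_insert_of_notMem, Set.ncard_insert_of_notMem, Set.ncard_insert_of_notMem, Set.ncard_singleton]
    · simp only [Set.mem_singleton_iff]
      exact fun e => h3 e.symm
    · simp only [Set.mem_insert_iff, Set.mem_singleton_iff]
      rintro (e | e)
      · exact hvw e
      · exact h2 e.symm
    · simp only [Set.mem_insert_iff, Set.mem_singleton_iff]
      rintro (e | e | e)
      · exact hv1 e.symm
      · exact hw1 e.symm
      · exact h1 e.symm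
  have he : ({1, v, w, v * w} : Set W) = D := Set.eq_of_subset_of_ncard_le hs (by
    rw [hc, ← Nat.card_coe_set_eq]
    exact hD.le) hfin
  have h4 : x ∈ ({1, v, w, v * w} : Set W) := by rw [he]; exact hx
  simpa using h4

/-- `h` acts without fixed points on the group `D` (of order 4) -/
structure Fp (D : Subgroup W) (h : MulAut W) : Prop where
  sq : ∀ v : W, v * v = 1
  card : Nat.card D = 4
  mem : ∀ v ∈ D, h v ∈ D
  fix : ∀ v ∈ D, h v = v → v = 1

namespace Fp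

variable {D : Subgroup W} {h g : MulAut W} (H : Fp D h)

include H

theorem exists_ne : ∃ v ∈ D, v ≠ 1 := by
  by_contra hc
  push Not at hc
  have h1 : D = ⊥ := by
    rw [eq_bot_iff]
    intro v hv
    exact mem_bot.2 (hc v hv)
  have h2 := H.card
  rw [h1, Subgroup.card_bot] at h2
  omega

theorem cases {v x : W} (hv : v ∈ D) (hv1 : v ≠ 1) (hx : x ∈ D) : x = 1 ∨ x = v ∨ x = h v ∨ x = v * h v :=
  four H.card H.sq hv (H.mem v hv) hv1 (fun e => hv1 (by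
    have h1 := congrArg (h⁻¹ : MulAut W) e
    rwa [MulAut.inv_apply_self, map_one] at h1)) (fun e => hv1 (H.fix v hv e.symm)) hx

theorem ne_one {v : W} (hv1 : v ≠ 1) (g : MulAut W) : g v ≠ 1 := fun e => hv1 (by
    have h1 := congrArg (g⁻¹ : MulAut W) e
    rwa [MulAut.inv_apply_self, map_one] at h1)

theorem sq' {v : W} (hv : v ∈ D) (hv1 : v ≠ 1) : h (h v) = v * h v := by
  rcases H.cases hv hv1 (H.mem _ (H.mem v hv)) with e | e | e | e
  · exact absurd e (H.ne_one (H.ne_one hv1 h) h)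
  · exfalso
    have h1 : h (v * h v) = v * h v := by rw [map_mul, e, mul_comm]
    have h2 := H.fix _ (mul_mem hv (H.mem v hv)) h1
    have h3 : h v = v := by
      have h4 := eq_inv_of_mul_eq_one_right h2
      rwa [inv_eq H.sq] at h4
    exact hv1 (H.fix v hv h3)
  · exact absurd (H.fix _ (H.mem v hv) e) (H.ne_one hv1 h)
  · exact e

theorem three {v : W} (hv : v ∈ D) : h (h (h v)) = v := by
  by_cases hv1 : v = 1
  · rw [hv1, map_one, map_one, map_one]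
  · rw [H.sq' hv hv1, map_mul, H.sq' hv hv1, mul_comm, mul_assoc, H.sq, mul_one]

theorem ext_two {f₁ f₂ : W →* W} {v : W} (hv : v ∈ D) (hv1 : v ≠ 1) (e1 : f₁ v = f₂ v) (e2 : f₁ (h v) = f₂ (h v))
    {x : W} (hx : x ∈ D) : f₁ x = f₂ x := by
  rcases H.cases hv hv1 hx with rfl | rfl | rfl | rfl
  · rw [map_one, map_one]
  · exact e1
  · exact e2
  · rw [map_mul, map_mul, e1, e2]

theorem eq_or (H' : Fp D g) : (∀ x ∈ D, g x = h x) ∨ ∀ x ∈ D, g x = h (h x) := by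
  obtain ⟨v, hv, hv1⟩ := H.exists_ne
  rcases H.cases hv hv1 (H'.mem v hv) with e | e | e | e
  · exact absurd e (H.ne_one hv1 g)
  · exact absurd (H'.fix v hv e) hv1
  · left
    intro x hx
    refine H.ext_two (f₁ := g.toMonoidHom) (f₂ := h.toMonoidHom) hv hv1 e ?_ hx
    show g (h v) = h (h v)
    rw [← e, H'.sq' hv hv1, e, H.sq' hv hv1]
  · right
    intro x hx
    refine H.ext_two (f₁ := g.toMonoidHom) (f₂ := (h * h : MulAut W).toMonoidHom) hv hv1 ?_ ?_ hx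
    · show g v = h (h v)
      rw [e, H.sq' hv hv1]
    · show g (h v) = h (h (h v))
      have e1 : h v = v * g v := by rw [e, ← mul_assoc, H.sq, one_mul]
      rw [H.three hv]
      have e2 : g (h v) = g v * g (g v) := by rw [e1, map_mul]
      rw [e2, H'.sq' hv hv1, mul_comm, mul_assoc, H.sq, mul_one]

theorem cent (hg : ∀ v ∈ D, g v ∈ D) (hc : ∀ v ∈ D, g (h v) = h (g v)) :
    (∀ x ∈ D, g x = x) ∨ (∀ x ∈ D, g x = h x) ∨ ∀ x ∈ D, g x = h (h x) := by
  obtain ⟨v, hv, hv1⟩ := H.exists_ne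
  rcases H.cases hv hv1 (hg v hv) with e | e | e | e
  · exact absurd e (H.ne_one hv1 g)
  · left
    intro x hx
    refine H.ext_two (f₁ := g.toMonoidHom) (f₂ := MonoidHom.id W) hv hv1 e ?_ hx
    show g (h v) = h v
    rw [hc v hv, e]
  · right; left
    intro x hx
    refine H.ext_two (f₁ := g.toMonoidHom) (f₂ := h.toMonoidHom) hv hv1 e ?_ hx
    show g (h v) = h (h v)
    rw [hc v hv, e]
  · right; right
    intro x hx
    refine H.ext_two (f₁ := g.toMonoidHom) (f₂ := (h * h : MulAut W).toMonoidHom) hv hv1 ?_ ?_ hx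
    · show g v = h (h v)
      rw [e, H.sq' hv hv1]
    · show g (h v) = h (h (h v))
      rw [hc v hv, e, ← H.sq' hv hv1]

theorem cent_three (hg : ∀ v ∈ D, g v ∈ D) (hc : ∀ v ∈ D, g (h v) = h (g v)) {x : W} (hx : x ∈ D) :
    g (g (g x)) = x := by
  rcases H.cent hg hc with e | e | e
  · rw [e x hx, e x hx, e x hx]
  · rw [e x hx, e _ (H.mem x hx), e _ (H.mem _ (H.mem x hx)), H.three hx]
  · have h1 := H.mem x hx
    have h2 := H.mem _ h1
    rw [e x hx, e _ h2, H.three h1, e _ h1, H.three hx]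

theorem cent_two (hg : ∀ v ∈ D, g v ∈ D) (hc : ∀ v ∈ D, g (h v) = h (g v)) (h2 : ∀ v ∈ D, g (g v) = v) {x : W}
    (hx : x ∈ D) : g x = x := by
  have h1 := H.cent_three hg hc hx
  rw [h2 _ (hg x hx)] at h1
  exact h1

end Fp

theorem exists_fix (sq : ∀ v : W, v * v = 1) {c : Subgroup W} {s : MulAut W} {n : ℕ}
    (hn : s ^ (2 ^ n) = 1) (hc : ∃ v, v ∉ c) : ∃ v, v ∉ c ∧ s v * v⁻¹ ∈ c := by
  by_contra hcon
  push Not at hcon
  have key : ∀ m : ℕ, ∀ v, v ∉ c → (s ^ (2 ^ m)) v * v ∉ c := by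
    intro m
    induction m with
    | zero =>
      intro v hv
      have h1 := hcon v hv
      rw [inv_eq sq] at h1
      rwa [pow_zero, pow_one]
    | succ m ih =>
      intro v hv
      have h1 := ih _ (ih v hv)
      have e : (s ^ (2 ^ m)) ((s ^ (2 ^ m)) v * v) * ((s ^ (2 ^ m)) v * v) = (s ^ (2 ^ (m + 1))) v * v := by
        rw [map_mul, pow_succ 2 m, mul_comm (2 ^ m) 2, two_mul, pow_add, MulAut.mul_apply]
        rw [mul_assoc, ← mul_assoc ((s ^ (2 ^ m)) v), sq, one_mul]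
      rwa [e] at h1
  obtain ⟨v, hv⟩ := hc
  apply key n v hv
  rw [hn, MulAut.one_apply, sq]
  exact one_mem _

/-- a 2-element which fixes a vector inverts `h` -/
theorem Fp.of_t {D : Subgroup W} {h t : MulAut W} (H : Fp D h) (H' : Fp D (t * h * t⁻¹)) (tD : t ∈ St D)
    (hf : ∃ v ∈ D, v ≠ 1 ∧ t v = v) (hn : ∃ v ∈ D, t v ≠ v) : ∀ v ∈ D, (t * h * t⁻¹) v = h (h v) := by
  rcases H.eq_or H' with e | e
  · exfalso
    have hc : ∀ v ∈ D, t (h v) = h (t v) := by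
      intro v hv
      have h1 := e (t v) ((tD v).2 hv)
      rwa [MulAut.mul_apply, MulAut.mul_apply, MulAut.inv_apply_self] at h1
    obtain ⟨v, hv, hv1, hv2⟩ := hf
    obtain ⟨w, hw, hw2⟩ := hn
    rcases H.cent (fun v hv => (tD v).2 hv) hc with e1 | e1 | e1
    · exact hw2 (e1 w hw)
    · exact hv1 (H.fix v hv (by rw [← e1 v hv]; exact hv2))
    · have h2 : h (h v) = v := by rw [← e1 v hv]; exact hv2
      have h3 := H.three hv
      rw [h2] at h3
      exact hv1 (H.fix v hv h3)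
  · exact e

/-- the action on `W / c` -/
def quo {c : Subgroup W} (g : MulAut W) (hg : g ∈ St c) : MulAut (W ⧸ c) :=
  QuotientGroup.congr c c g (by
    ext v
    simp only [mem_map]
    constructor
    · rintro ⟨w, hw, rfl⟩
      exact (hg w).2 hw
    · intro hv
      exact ⟨g⁻¹ v, (inv_mem hg v).2 hv, MulAut.apply_inv_self _ _ _⟩)

theorem quo_mk {c : Subgroup W} {g : MulAut W} (hg : g ∈ St c) (v : W) :
    quo g hg (QuotientGroup.mk v) = QuotientGroup.mk (g v) := rfl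

theorem mk_eq {c : Subgroup W} {v w : W} : (QuotientGroup.mk v : W ⧸ c) = QuotientGroup.mk w ↔ v * w⁻¹ ∈ c := by
  rw [QuotientGroup.eq]
  constructor
  · intro h
    have := inv_mem h
    rwa [mul_inv_rev, inv_inv, mul_comm] at this
  · intro h
    have := inv_mem h
    rwa [mul_inv_rev, inv_inv, mul_comm] at this

theorem p3 {G : Type*} [Group G] (x : G) : x ^ 3 = x * x * x := by rw [pow_succ, pow_two]

theorem idA {G : Type*} [Group G] {b h : G} (hb : b * b = 1) (h3 : h ^ 3 = 1) (hg : (b * h) ^ 3 = 1) :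
    (h * b * h⁻¹)⁻¹ * h * (h * b * h⁻¹) = b * h := by
  have eb : b⁻¹ = b := (eq_inv_of_mul_eq_one_left hb).symm
  have e3 : h * (h * h) = 1 := by rw [← h3, p3, mul_assoc]
  have e4 : b * (h * (b * (h * (b * h)))) = 1 := by rw [← hg, p3]; group
  have e5 : h⁻¹ * h⁻¹ = h := by
    have : h * h * h = 1 := by rw [mul_assoc]; exact e3
    rw [← mul_inv_rev]
    exact (eq_inv_of_mul_eq_one_right this).symm
  have e6 : h * b * h * b = b * h⁻¹ := by
    have h1 : b * (h * b * h * b) * h = 1 := by rw [← e4]; group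
    have h2 : b * (h * b * h * b) = h⁻¹ := eq_inv_of_mul_eq_one_left h1
    rw [← h2, ← mul_assoc, hb, one_mul]
  calc (h * b * h⁻¹)⁻¹ * h * (h * b * h⁻¹) = h * b⁻¹ * h * b * h⁻¹ := by group
    _ = b * (h⁻¹ * h⁻¹) := by rw [eb, e6, mul_assoc]
    _ = b * h := by rw [e5]

/-! ### The data -/

structure Dt (c : Subgroup W) (K B B₀ Y : Subgroup (MulAut W)) (h t : MulAut W) (z : W) : Prop where
  sq : ∀ v : W, v * v = 1
  cW : Nat.card W = 16
  cc : Nat.card c = 4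
  B₀K : B₀ ≤ K
  KY : K ≤ Y
  BY : B ≤ Y
  Bc : B ≤ St c
  pB : IsPGroup 2 B
  syl : ∀ T : Subgroup (MulAut W), B ≤ T → T ≤ Y → IsPGroup 2 T → T ≤ B
  sylK : ∀ T : Subgroup (MulAut W), B₀ ≤ T → T ≤ K → IsPGroup 2 T → T ≤ B₀
  BK : ∀ b ∈ B, ∀ x ∈ K, b * x * b⁻¹ ∈ K
  un : B₀ ≤ Un c
  free : ∀ b ∈ B₀, ∀ v, v ∉ c → b v = v → b = 1
  c4 : Nat.card B₀ = 4
  ti : ∀ x ∈ K, x ∈ St c ∨ ∀ v ∈ c, x v ∈ c → v = 1
  mv : ∃ x ∈ K, x ∉ St c
  hK : h ∈ K
  hc : h ∈ St c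
  h3 : h ^ 3 = 1
  hf : ∀ v ∈ c, h v = v → v = 1
  hq : ∀ v, h v * v⁻¹ ∈ c → v ∈ c
  mB : ∀ b ∈ B, (∀ v ∈ c, b v = v) → b ∈ B₀
  tB : t ∈ B
  tn : ∃ v ∈ c, t v ≠ v
  zc : z ∈ c
  z1 : z ≠ 1
  tz : t z = z

theorem norm_of {X T : Subgroup (MulAut W)} (h1 : ∀ g ∈ T, ∀ y ∈ X, g * y * g⁻¹ ∈ X) :
    T ≤ normalizer (X : Set (MulAut W)) := by
  intro g hg
  rw [mem_normalizer_iff]
  refine fun y => ⟨fun hy => h1 g hg y hy, fun hy => ?_⟩
  have h2 := h1 _ (inv_mem hg) _ hy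
  have e : g⁻¹ * (g * y * g⁻¹) * g⁻¹⁻¹ = y := by group
  rwa [e] at h2

namespace Dt

variable {c : Subgroup W} {K B B₀ Y : Subgroup (MulAut W)} {h t : MulAut W} {z : W} (D : Dt c K B B₀ Y h t z)

include D

theorem Un_p {X : Subgroup (MulAut W)} (hX : X ≤ Un c) : IsPGroup 2 X := by
  intro x
  refine ⟨1, ?_⟩
  rw [pow_one, pow_two]
  exact Subtype.ext (Un_sq D.sq (hX x.2))

theorem KUn {x : MulAut W} (hx : x ∈ K) (hu : x ∈ Un c) : x ∈ B₀ :=
  D.sylK (K ⊓ Un c) (le_inf D.B₀K D.un) inf_le_left (D.Un_p inf_le_right) ⟨hx, hu⟩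

theorem YUnB {x : MulAut W} (hx : x ∈ Y) (hu : x ∈ Un c) : x ∈ B := by
  have hn : B ≤ normalizer ((Y ⊓ Un c : Subgroup (MulAut W)) : Set (MulAut W)) :=
    norm_of fun g hg y hy => ⟨Y.mul_mem (Y.mul_mem (D.BY hg) hy.1) (Y.inv_mem (D.BY hg)), Un_norm (D.Bc hg) hy.2⟩
  have hp : IsPGroup 2 (B ⊔ (Y ⊓ Un c) : Subgroup (MulAut W)) :=
    IsPGroup.to_sup_of_normal_right' D.pB (D.Un_p inf_le_right) hn
  exact D.syl _ le_sup_left (sup_le D.BY inf_le_left) hp (mem_sup_right ⟨hx, hu⟩)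

theorem YUn {x : MulAut W} (hx : x ∈ Y) (hu : x ∈ Un c) : x ∈ B₀ := D.mB x (D.YUnB hx hu) hu.1

theorem B₀B : B₀ ≤ B := fun _ hx => D.YUnB (D.KY (D.B₀K hx)) (D.un hx)

theorem KN {g x : MulAut W} (hg : g ∈ K) (hg' : g ∈ St c) (hx : x ∈ B₀) : g * x * g⁻¹ ∈ B₀ :=
  D.KUn (mul_mem (mul_mem hg (D.B₀K hx)) (inv_mem hg)) (Un_norm hg' (D.un hx))

theorem BB {g x : MulAut W} (hg : g ∈ B) (hx : x ∈ B₀) : g * x * g⁻¹ ∈ B₀ :=
  D.KUn (D.BK g hg x (D.B₀K hx)) (Un_norm (D.Bc hg) (D.un hx))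

theorem orb [Finite W] {v a : W} (hv : v ∉ c) (ha : a ∈ c) : ∃ b ∈ B₀, b v = v * a := by
  have hinj : Function.Injective (fun b : B₀ => (⟨(b : MulAut W) v * v⁻¹, (D.un b.2).2 v⟩ : c)) := by
    intro b b' e
    have e1 : (b : MulAut W) v = (b' : MulAut W) v := by
      have := congrArg Subtype.val e
      exact mul_right_cancel this
    have h1 : ((b' : MulAut W)⁻¹ * b) v = v := by rw [MulAut.mul_apply, e1, MulAut.inv_apply_self]
    have h2 := D.free _ (mul_mem (inv_mem b'.2) b.2) v hv h1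
    exact Subtype.ext (inv_mul_eq_one.1 h2).symm
  have hbij := hinj.bijective_of_nat_card_le (by rw [D.c4, D.cc])
  obtain ⟨b, hb⟩ := hbij.2 ⟨a, ha⟩
  refine ⟨b, b.2, ?_⟩
  have := congrArg Subtype.val hb
  simp only at this
  rw [mul_inv_eq_iff_eq_mul] at this
  rw [this, mul_comm]

theorem fpc : Fp c h := ⟨D.sq, D.cc, fun v hv => (D.hc v).2 hv, D.hf⟩

theorem dec [Finite W] {x : MulAut W} (hti : ∀ v ∈ c, x v ∈ c → v = 1) (w : W) :
    ∃ a ∈ c, ∃ m ∈ c, w = a * x m := by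
  have hinj : Function.Injective (fun p : c × c => (p.1 : W) * x p.2) := by
    rintro ⟨a, m⟩ ⟨a', m'⟩ e
    simp only at e
    have h1 : x ((m : W) * (m' : W)⁻¹) = (a : W)⁻¹ * a' := by
      rw [map_mul, map_inv, mul_inv_eq_iff_eq_mul, mul_assoc, ← e, inv_mul_cancel_left]
    have h2 : (m : W) * (m' : W)⁻¹ = 1 :=
      hti _ (mul_mem m.2 (inv_mem m'.2)) (by rw [h1]; exact mul_mem (inv_mem a.2) a'.2)
    have h3 : (m : W) = m' := mul_inv_eq_one.1 h2
    rw [h3] at e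
    exact Prod.ext (Subtype.ext (mul_right_cancel e)) (Subtype.ext h3)
  have hb := hinj.bijective_of_nat_card_le (by rw [Nat.card_prod, D.cc, D.cW])
  obtain ⟨⟨a, m⟩, e⟩ := hb.2 w
  exact ⟨a, a.2, m, m.2, e.symm⟩

theorem ti' {x : MulAut W} (hx : x ∈ K) (hn : x ∉ St c) : ∀ v ∈ c, x v ∈ c → v = 1 := (D.ti x hx).resolve_left hn

theorem lines [Finite W] {x x' : MulAut W} (hx : x ∈ K) (hn : x ∉ St c) (hx' : x' ∈ K) (hn' : x' ∉ St c) :
    ∃ b ∈ B₀, x'⁻¹ * b * x ∈ St c := by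
  obtain ⟨a, ha, w, hw, e⟩ := D.dec (D.ti' hx hn) (x' z)
  have hw1 : w ≠ 1 := by
    rintro rfl
    rw [map_one, mul_one] at e
    exact D.z1 (D.ti' hx' hn' z D.zc (by rw [e]; exact ha))
  have hxw : x w ∉ c := fun h => hw1 (D.ti' hx hn w hw h)
  obtain ⟨b, hb, hbe⟩ := D.orb hxw ha
  refine ⟨b, hb, ?_⟩
  rcases D.ti (x'⁻¹ * b * x) (mul_mem (mul_mem (inv_mem hx') (D.B₀K hb)) hx) with h1 | h1
  · exact h1
  · exfalso
    apply hw1
    apply h1 w hw
    show x'⁻¹ (b (x w)) ∈ c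
    rw [hbe, mul_comm, ← e, MulAut.inv_apply_self]
    exact D.zc

theorem free' {x b : MulAut W} (hx : x ∈ K) (hn : x ∉ St c) (hb : b ∈ B₀) (hs : x⁻¹ * b * x ∈ St c) : b = 1 := by
  have h1 : (x⁻¹ * b * x) z ∈ c := (hs z).2 D.zc
  have h2 : x z ∉ c := fun h => D.z1 (D.ti' hx hn z D.zc h)
  refine D.free b hb (x z) h2 ?_
  have h3 := (D.un hb).2 (x z)
  have e : b (x z) * (x z)⁻¹ = x ((x⁻¹ * b * x) z * z⁻¹) := by
    rw [map_mul, map_inv]
    congr 1
    show b (x z) = x (x⁻¹ (b (x z)))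
    rw [MulAut.apply_inv_self]
  rw [e] at h3
  have h4 := D.ti' hx hn _ (mul_mem h1 (inv_mem D.zc)) h3
  rw [h4, map_one] at e
  exact mul_inv_eq_one.1 e

/-- an `h`-invariant line `≠ c` -/
theorem exists_line [Finite W] : ∃ x ∈ K, x ∉ St c ∧ x⁻¹ * h * x ∈ St c := by
  obtain ⟨x, hx, hn⟩ := D.mv
  obtain ⟨b, hb, hs⟩ := D.lines hx hn (mul_mem D.hK hx) fun h1 => hn (by
    have := mul_mem (inv_mem D.hc) h1
    rwa [inv_mul_cancel_left] at this)
  have hb2 := Un_sq D.sq (D.un hb)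
  have eb : b⁻¹ = b := (eq_inv_of_mul_eq_one_left hb2).symm
  have h1 : x⁻¹ * (b * h) * x ∈ St c := by
    have := inv_mem hs
    have e : ((h * x)⁻¹ * b * x)⁻¹ = x⁻¹ * (b⁻¹ * h) * x := by group
    rwa [e, eb] at this
  have h2 : x⁻¹ * (b * h) ^ 3 * x ∈ St c := by
    have := pow_mem h1 3
    have e : (x⁻¹ * (b * h) * x) ^ 3 = x⁻¹ * (b * h) ^ 3 * x := by
      rw [p3, p3]; group
    rwa [e] at this
  have h3 : (b * h) ^ 3 = b * (h * b * h⁻¹) * (h * (h * b * h⁻¹) * h⁻¹) * h ^ 3 := by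
    rw [p3, p3]; group
  have h4 := D.KN D.hK D.hc hb
  have h5 := D.KN D.hK D.hc h4
  have h6 : (b * h) ^ 3 = 1 := by
    refine D.free' hx hn ?_ h2
    rw [h3, D.h3, mul_one]
    exact mul_mem (mul_mem hb h4) h5
  have h7 := idA hb2 D.h3 h6
  refine ⟨h * b * h⁻¹ * x, mul_mem (D.B₀K h4) hx, fun h8 => hn ?_, ?_⟩
  · have := mul_mem (inv_mem (Un_St c (D.un h4))) h8
    rwa [inv_mul_cancel_left] at this
  · have e : (h * b * h⁻¹ * x)⁻¹ * h * (h * b * h⁻¹ * x) = x⁻¹ * ((h * b * h⁻¹)⁻¹ * h * (h * b * h⁻¹)) * x := by group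
    rw [e, h7]
    exact h1

/-- an element of `K` which swaps two `h`-invariant lines -/
theorem exists_swap [Finite W] : ∃ x ∈ K, x ∉ St c ∧ x * x ∈ St c ∧ x⁻¹ * h * x ∈ St c := by
  obtain ⟨x, hx, hn, hh⟩ := D.exists_line
  obtain ⟨b, hb, hs⟩ := D.lines hx hn (inv_mem hx) fun h1 => hn (by simpa using inv_mem h1)
  have hbS := Un_St c (D.un hb)
  rw [inv_inv] at hs
  refine ⟨x * b, mul_mem hx (D.B₀K hb), fun h8 => hn ?_, ?_, ?_⟩
  · have := mul_mem h8 (inv_mem hbS)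
    rwa [mul_inv_cancel_right] at this
  · have e : x * b * (x * b) = x * b * x * b := by group
    rw [e]
    exact mul_mem hs hbS
  · have e : (x * b)⁻¹ * h * (x * b) = b⁻¹ * (x⁻¹ * h * x) * b := by group
    rw [e]
    exact mul_mem (mul_mem (inv_mem hbS) hh) hbS

/-- `N_K(c)` induces a group of odd order on `c` -/
theorem odd_c [Finite W] {g : MulAut W} (hg : g ∈ K) (hs : g ∈ St c) (h2 : ∀ v ∈ c, g (g v) = v) :
    ∀ v ∈ c, g v = v := by
  obtain ⟨a, m, hm, e⟩ := Nat.exists_eq_two_pow_mul_odd (n := orderOf g) (orderOf_pos g).ne'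
  have h3 : (g ^ m) ^ (2 ^ a) = 1 := by
    rw [← pow_mul, mul_comm, ← e, pow_orderOf_eq_one]
  have hgm : g ^ m ∈ K := pow_mem hg m
  have hgs : g ^ m ∈ St c := pow_mem hs m
  have hp : IsPGroup 2 (zpowers (g ^ m)) := by
    rw [IsPGroup.iff_card]
    obtain ⟨k, -, hk⟩ := (Nat.dvd_prime_pow Nat.prime_two).1 (orderOf_dvd_of_pow_eq_one h3)
    exact ⟨k, by rw [Nat.card_zpowers, hk]⟩
  have hn : zpowers (g ^ m) ≤ normalizer (B₀ : Set (MulAut W)) := by
    have h5 : zpowers (g ^ m) ≤ K ⊓ St c := by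
      rw [zpowers_le]
      exact ⟨hgm, hgs⟩
    exact norm_of fun x hx y hy => D.KN (h5 hx).1 (h5 hx).2 hy
  have hp' : IsPGroup 2 (zpowers (g ^ m) ⊔ B₀ : Subgroup (MulAut W)) :=
    IsPGroup.to_sup_of_normal_right' hp (D.Un_p D.un) hn
  have h6 : g ^ m ∈ B₀ := D.sylK _ le_sup_right (sup_le (by rw [zpowers_le]; exact hgm) D.B₀K) hp'
    (mem_sup_left (mem_zpowers _))
  intro v hv
  have h7 := (D.un h6).1 v hv
  obtain ⟨k, rfl⟩ := hm
  have h8 : ∀ k : ℕ, (g ^ (2 * k + 1)) v = g v := by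
    intro k
    induction k with
    | zero => simp
    | succ k ih =>
      have e1 : g ^ (2 * (k + 1) + 1) = g * g * g ^ (2 * k + 1) := by
        rw [show 2 * (k + 1) + 1 = 2 + (2 * k + 1) by ring, pow_add, pow_two]
      rw [e1, MulAut.mul_apply, ih, MulAut.mul_apply, h2 _ ((hs v).2 hv)]
  rw [← h8 k]
  exact h7

theorem no_inv [Finite W] {g : MulAut W} (hg : g ∈ K) (hs : g ∈ St c) (hi : ∀ v ∈ c, g (h v) = h (h (g v))) :
    False := by
  have F := D.fpc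
  have hgc : ∀ v ∈ c, g v ∈ c := fun v hv => (hs v).2 hv
  have hz1 : ∀ v ∈ c, v ≠ 1 → h (g v) = h (h (g v)) → False := by
    intro v hv hv1 e
    exact F.ne_one (F.ne_one hv1 g) h (F.fix _ (F.mem _ (hgc v hv)) e.symm)
  have h1 : ∀ v ∈ c, (g * g) (h v) = h ((g * g) v) := by
    intro v hv
    show g (g (h v)) = h (g (g v))
    rw [hi v hv, hi _ (F.mem _ (hgc v hv)), hi _ (hgc v hv), F.three (F.mem _ (hgc _ (hgc v hv)))]
  rcases F.cent (g := g * g) (fun v hv => hgc _ (hgc v hv)) h1 with e | e | e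
  · have h2 := D.odd_c hg hs e
    have h3 := hi z D.zc
    rw [h2 z D.zc, h2 _ (F.mem z D.zc)] at h3
    exact F.ne_one D.z1 h (F.fix _ (F.mem z D.zc) h3.symm)
  · refine hz1 z D.zc D.z1 ?_
    rw [← hi z D.zc, ← e z D.zc]
    exact (e _ (hgc z D.zc)).symm
  · refine hz1 z D.zc D.z1 ?_
    have h4 : g (g (g z)) = h (h (g z)) := e _ (hgc z D.zc)
    have h5 : g (g (g z)) = g (h (h z)) := congrArg g (e z D.zc)
    rw [← h4, h5, hi _ (F.mem z D.zc), hi z D.zc, F.three (F.mem _ (hgc z D.zc))]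

theorem eps [Finite W] {x : MulAut W} (hx : x ∈ K) (hn : x ∉ St c) (hxx : x * x ∈ St c)
    (hh : x⁻¹ * h * x ∈ St c) : x * h = h * x ∨ x * h * x⁻¹ = h * h := by
  have F := D.fpc
  have hti := D.ti' hx hn
  have hh' : x * h * x⁻¹ ∈ St c := by
    have h1 := mul_mem (mul_mem hxx hh) (inv_mem hxx)
    have e : x * x * (x⁻¹ * h * x) * (x * x)⁻¹ = x * h * x⁻¹ := by group
    rwa [e] at h1
  have F1 : Fp c (x * h * x⁻¹) := ⟨D.sq, D.cc, fun v hv => (hh' v).2 hv, fun v hv e => by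
    have e1 : h (x⁻¹ v) = x⁻¹ v := by
      have h1 : x (h (x⁻¹ v)) = v := e
      have h2 := congrArg (x⁻¹ : MulAut W) h1
      rwa [MulAut.inv_apply_self] at h2
    have h3 : x⁻¹ v ∈ c := D.hq _ (by rw [e1, mul_inv_cancel]; exact one_mem _)
    have h4 := hti _ h3 (by rw [MulAut.apply_inv_self]; exact hv)
    have h5 := congrArg (x : MulAut W) h4
    rwa [MulAut.apply_inv_self, map_one] at h5⟩
  have F2 : Fp c (x⁻¹ * h * x) := ⟨D.sq, D.cc, fun v hv => (hh v).2 hv, fun v hv e => by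
    have e1 : h (x v) = x v := by
      have h1 : x⁻¹ (h (x v)) = v := e
      have h2 := congrArg (x : MulAut W) h1
      rwa [MulAut.apply_inv_self] at h2
    exact hti v hv (D.hq _ (by rw [e1, mul_inv_cancel]; exact one_mem _))⟩
  have hg : ∀ v, (x * x) ((x⁻¹ * h * x) v) = (x * h * x⁻¹) ((x * x) v) := by
    intro v
    show x (x (x⁻¹ (h (x v)))) = x (h (x⁻¹ (x (x v))))
    rw [MulAut.apply_inv_self, MulAut.inv_apply_self]
  have hgc : ∀ v ∈ c, (x * x) v ∈ c := fun v hv => (hxx v).2 hv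
  have hk : ∀ v, h (x v) = x ((x⁻¹ * h * x) v) := by
    intro v
    show h (x v) = x (x⁻¹ (h (x v)))
    rw [MulAut.apply_inv_self]
  rcases F.eq_or F1 with e1 | e1 <;> rcases F.eq_or F2 with e2 | e2
  · left
    ext w
    obtain ⟨a, ha, m, hm, rfl⟩ := D.dec hti w
    show x (h (a * x m)) = h (x (a * x m))
    rw [map_mul, map_mul, map_mul, map_mul, hk a, e2 a ha]
    congr 1
    have h1 := e1 _ (hgc m hm)
    have h2 : (x * h * x⁻¹) ((x * x) m) = x (h (x m)) := by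
      show x (h (x⁻¹ (x (x m)))) = _
      rw [MulAut.inv_apply_self]
    rw [h2] at h1
    exact h1
  · exfalso
    refine D.no_inv (mul_mem hx hx) hxx fun v hv => ?_
    have h1 := hg (h v)
    rw [e2 _ (F.mem v hv), F.three hv, e1 _ (hgc _ (F.mem v hv))] at h1
    rw [h1, F.three (hgc _ (F.mem v hv))]
  · exfalso
    refine D.no_inv (mul_mem hx hx) hxx fun v hv => ?_
    have h1 := hg v
    rwa [e2 v hv, e1 _ (hgc v hv)] at h1
  · right
    ext w
    obtain ⟨a, ha, m, hm, rfl⟩ := D.dec hti w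
    rw [map_mul, map_mul, e1 a ha]
    congr 1
    show x (h (x⁻¹ (x m))) = h (h (x m))
    rw [MulAut.inv_apply_self, hk m, hk, e2 m hm, e2 _ (F.mem _ (F.mem m hm)), F.three (F.mem m hm)]

theorem exists_y_of [Finite W] {x w : MulAut W} (hti : ∀ v ∈ c, x v ∈ c → v = 1) (hwY : w ∈ Y)
    (hwh : w * h = h * w) (hw2 : w * w ∈ St c) (hwx : w⁻¹ * x ∈ St c) :
    ∃ y ∈ Y, y * y = 1 ∧ y * h = h * y ∧ y ∉ St c := by
  have F := D.fpc
  have hwn : w ∉ St c := by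
    intro h1
    have h2 := mul_mem h1 hwx
    rw [mul_inv_cancel_left] at h2
    exact D.z1 (hti z D.zc ((h2 z).2 D.zc))
  have hc : ∀ v, w (h v) = h (w v) := fun v => by
    have := congrArg (fun g : MulAut W => g v) hwh
    exact this
  have h3 : ∀ v ∈ c, (w * w) ((w * w) ((w * w) v)) = v := by
    intro v hv
    refine F.cent_three (g := w * w) (fun v hv => (hw2 v).2 hv) (fun v hv => ?_) hv
    show w (w (h v)) = h (w (w v))
    rw [hc, hc]
  refine ⟨w * w * w, mul_mem (mul_mem hwY hwY) hwY, ?_, ?_, fun h1 => hwn ?_⟩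
  · ext v
    obtain ⟨a, ha, m, hm, rfl⟩ := D.dec hti v
    have e1 : w * w * w * (w * w * w) = w * w * (w * w) * (w * w) := by group
    rw [e1, map_mul]
    have e2 : x m = w ((w⁻¹ * x) m) := by
      show x m = w (w⁻¹ (x m))
      rw [MulAut.apply_inv_self]
    rw [MulAut.one_apply]
    congr 1
    · exact h3 a ha
    · rw [e2]
      have h4 := h3 _ ((hwx m).2 hm)
      show w (w (w (w (w (w (w ((w⁻¹ * x) m))))))) = w ((w⁻¹ * x) m)
      have h5 : w (w (w (w (w (w ((w⁻¹ * x) m)))))) = (w⁻¹ * x) m := h4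
      rw [h5]
  · rw [mul_assoc, hwh, ← mul_assoc, mul_assoc w w h, hwh, ← mul_assoc, hwh]
    group
  · have := mul_mem (inv_mem hw2) h1
    rwa [inv_mul_cancel_left] at this

theorem t_q [Finite W] : ∃ v, t v * v⁻¹ ∉ c := by
  by_contra hcon
  push Not at hcon
  have key : ∀ v, v ∉ c → ∃ b ∈ B₀, b v = v * z ∧ ∀ w, t (b w) = b (t w) := by
    intro v hv
    obtain ⟨b, hb, hbe⟩ := D.orb hv D.zc
    have h1 := D.BB D.tB hb
    have h3 : (t * b * t⁻¹) v = b v := by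
      have e1 : (t * b * t⁻¹) (t v) = t v * z := by
        show t (b (t⁻¹ (t v))) = _
        rw [MulAut.inv_apply_self, hbe, map_mul, D.tz]
      have e2 : (t * b * t⁻¹) (t v * v⁻¹) = t v * v⁻¹ := (D.un h1).1 _ (hcon v)
      rw [map_mul, e1, map_inv, mul_assoc] at e2
      have e3 := mul_left_cancel e2
      rw [mul_inv_eq_iff_eq_mul, eq_inv_mul_iff_mul_eq] at e3
      rw [hbe, e3]
    have h4 : b⁻¹ * (t * b * t⁻¹) = 1 := by
      refine D.free _ (mul_mem (inv_mem hb) h1) v hv ?_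
      rw [MulAut.mul_apply, h3, MulAut.inv_apply_self]
    have h5 : t * b * t⁻¹ = b := (inv_mul_eq_one.1 h4).symm
    refine ⟨b, hb, hbe, fun w => ?_⟩
    have h6 : t * b = b * t := by rw [mul_inv_eq_iff_eq_mul] at h5; exact h5
    exact congrArg (fun g : MulAut W => g w) h6
  obtain ⟨x, hx, hn⟩ := D.mv
  have hti := D.ti' hx hn
  have F := D.fpc
  have hv : x z ∉ c := fun h1 => D.z1 (hti z D.zc h1)
  have hv' : x (h z) ∉ c := fun h1 => F.ne_one D.z1 h (hti _ (F.mem z D.zc) h1)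
  have hvv : x z * x (h z) ∉ c := by
    rw [← map_mul]
    intro h1
    have h2 := hti _ (mul_mem D.zc (F.mem z D.zc)) h1
    have h3 := eq_inv_of_mul_eq_one_right h2
    rw [inv_eq D.sq] at h3
    exact D.z1 (F.fix z D.zc h3)
  obtain ⟨b, hb, hbe, -⟩ := key _ hv
  obtain ⟨b', hb', hbe', hbt'⟩ := key _ hv'
  have hac := (D.un hb').2 (x z)
  have hz : ∀ v : W, v * z ≠ v := fun v e => D.z1 (by simpa using e)
  have ha1 : b' (x z) * (x z)⁻¹ ≠ 1 := by
    intro e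
    have h1 := D.free b' hb' _ hv (mul_inv_eq_one.1 e)
    rw [h1] at hbe'
    exact hz _ hbe'.symm
  have haz : z ≠ b' (x z) * (x z)⁻¹ := by
    intro e
    rw [eq_mul_inv_iff_mul_eq, mul_comm, ← hbe] at e
    have h1 : b'⁻¹ * b = 1 := by
      refine D.free _ (mul_mem (inv_mem hb') hb) _ hv ?_
      rw [MulAut.mul_apply, e, MulAut.inv_apply_self]
    have h2 : b' = b := inv_mul_eq_one.1 h1
    subst h2
    have h3 : b' (x z * x (h z)) = x z * x (h z) := by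
      rw [map_mul, hbe, hbe', mul_mul_mul_comm, D.sq z, mul_one]
    have h4 := D.free b' hb' _ hvv h3
    rw [h4] at hbe'
    exact hz _ hbe'.symm
  have hta : t (b' (x z) * (x z)⁻¹) = b' (x z) * (x z)⁻¹ := by
    have h1 := (D.un hb').1 _ (hcon (x z))
    rw [map_mul, map_inv, mul_inv_eq_iff_eq_mul] at h1
    have e : ∀ p q r : W, p * q * r * p⁻¹ = r * q := fun p q r => by
      rw [mul_comm p q, mul_assoc q p r, mul_comm p r, mul_assoc q, mul_assoc r, mul_inv_cancel, mul_one, mul_comm]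
    rw [map_mul, map_inv, hbt', h1, e]
  obtain ⟨v, hv, hne⟩ := D.tn
  apply hne
  rcases four D.cc D.sq D.zc hac D.z1 ha1 haz hv with rfl | rfl | rfl | rfl
  · rw [map_one]
  · exact D.tz
  · exact hta
  · rw [map_mul, D.tz, hta]

/-- `h` acts fixed point freely on `W / c` -/
theorem fpq [Finite W] : Fp (⊤ : Subgroup (W ⧸ c)) (quo h D.hc) where
  sq := fun v => by
    induction v using QuotientGroup.induction_on with
    | H v => rw [← QuotientGroup.mk_mul, D.sq]; rfl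
  card := by
    rw [Subgroup.card_top]
    have h1 := Subgroup.card_eq_card_quotient_mul_card_subgroup c
    rw [D.cW, D.cc] at h1
    omega
  mem := fun _ _ => mem_top _
  fix := fun v _ e => by
    induction v using QuotientGroup.induction_on with
    | H v =>
      rw [quo_mk, mk_eq] at e
      exact (QuotientGroup.eq_one_iff v).2 (D.hq v e)

/-- an element of `B` which inverts `h` -/
theorem exists_t [Finite W] : ∃ t' ∈ B, t' * h * t'⁻¹ = h⁻¹ := by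
  have tS := D.Bc D.tB
  have F := D.fpc
  have ei : h⁻¹ = h * h := by
    have h1 : h * h * h = 1 := by rw [← p3]; exact D.h3
    exact (eq_inv_of_mul_eq_one_left h1).symm
  have hthS : t * h * t⁻¹ ∈ St c := mul_mem (mul_mem tS D.hc) (inv_mem tS)
  have F1 : Fp c (t * h * t⁻¹) := ⟨D.sq, D.cc, fun v hv => (hthS v).2 hv, fun v hv e => by
    have e1 : h (t⁻¹ v) = t⁻¹ v := by
      have h1 : t (h (t⁻¹ v)) = v := e
      have h2 := congrArg (t⁻¹ : MulAut W) h1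
      rwa [MulAut.inv_apply_self] at h2
    have h4 := D.hf _ ((inv_mem tS v).2 hv) e1
    have h5 := congrArg (t : MulAut W) h4
    rwa [MulAut.apply_inv_self, map_one] at h5⟩
  have e1 := F.of_t F1 tS ⟨z, D.zc, D.z1, D.tz⟩ D.tn
  -- the quotient
  have FQ := D.fpq
  have hmul : ∀ v : W ⧸ c, quo (t * h * t⁻¹) hthS v = (quo t tS * quo h D.hc * (quo t tS)⁻¹) v := by
    intro v
    have h1 : quo (t * h * t⁻¹) hthS * quo t tS = quo t tS * quo h D.hc := by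
      ext w
      induction w using QuotientGroup.induction_on with
      | H w =>
        show (QuotientGroup.mk (t (h (t⁻¹ (t w)))) : W ⧸ c) = QuotientGroup.mk (t (h w))
        rw [MulAut.inv_apply_self]
    rw [← h1, mul_inv_cancel_right]
  have F2 : Fp (⊤ : Subgroup (W ⧸ c)) (quo t tS * quo h D.hc * (quo t tS)⁻¹) := by
    refine ⟨FQ.sq, FQ.card, fun _ _ => mem_top _, fun v hv e => ?_⟩
    have e2 : quo h D.hc ((quo t tS)⁻¹ v) = (quo t tS)⁻¹ v := by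
      have h1 : quo t tS (quo h D.hc ((quo t tS)⁻¹ v)) = v := e
      have h2 := congrArg ((quo t tS)⁻¹ : MulAut (W ⧸ c)) h1
      rwa [MulAut.inv_apply_self] at h2
    have h4 := FQ.fix _ (mem_top _) e2
    have h5 := congrArg (quo t tS : MulAut (W ⧸ c)) h4
    rwa [MulAut.apply_inv_self, map_one] at h5
  have hfix : ∃ v ∈ (⊤ : Subgroup (W ⧸ c)), v ≠ 1 ∧ quo t tS v = v := by
    obtain ⟨k, hk⟩ := D.pB ⟨t, D.tB⟩
    have hk' : t ^ (2 ^ k) = 1 := congrArg Subtype.val hk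
    obtain ⟨x, hx, hn⟩ := D.mv
    obtain ⟨v, hv, hv2⟩ := exists_fix D.sq hk' ⟨x z, fun h1 => D.z1 (D.ti' hx hn z D.zc h1)⟩
    exact ⟨QuotientGroup.mk v, mem_top _, fun e => hv ((QuotientGroup.eq_one_iff v).1 e), by
      rw [quo_mk, mk_eq]; exact hv2⟩
  have hne : ∃ v ∈ (⊤ : Subgroup (W ⧸ c)), quo t tS v ≠ v := by
    obtain ⟨v, hv⟩ := D.t_q
    exact ⟨QuotientGroup.mk v, mem_top _, fun e => hv (by rwa [quo_mk, mk_eq] at e)⟩
  have e2 := FQ.of_t F2 (fun v => ⟨fun _ => mem_top _, fun _ => mem_top _⟩) hfix hne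
  -- `g`
  have hgU : t * h * t⁻¹ * h ∈ Un c := by
    refine ⟨fun v hv => ?_, fun v => ?_⟩
    · show (t * h * t⁻¹) (h v) = v
      rw [e1 _ (F.mem v hv), F.three hv]
    · have h1 := e2 (QuotientGroup.mk (h v)) (mem_top _)
      rw [← hmul, quo_mk, quo_mk, quo_mk, mk_eq] at h1
      have h2 : h (h (h v)) = v := by
        have := congrArg (fun g : MulAut W => g v) D.h3
        simp only [p3] at this
        exact this
      rwa [h2] at h1
  have hthK : t * h * t⁻¹ ∈ K := D.BK t D.tB h D.hK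
  have hgB : t * h * t⁻¹ * h ∈ B₀ := D.KUn (mul_mem hthK D.hK) hgU
  set g := t * h * t⁻¹ * h with hg
  have eg : t * h * t⁻¹ = g * h⁻¹ := by rw [hg]; group
  have h3i : (h⁻¹) ^ 3 = 1 := by rw [inv_pow, D.h3, inv_one]
  have h3g : (g * h⁻¹) ^ 3 = 1 := by
    rw [← eg]
    have : (t * h * t⁻¹) ^ 3 = t * h ^ 3 * t⁻¹ := by rw [p3, p3]; group
    rw [this, D.h3]; group
  have h4 := idA (Un_sq D.sq hgU) h3i h3g
  have h5 : h⁻¹ * g * h⁻¹⁻¹ ∈ B₀ := D.KN (inv_mem D.hK) (inv_mem D.hc) hgB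
  refine ⟨h⁻¹ * g * h⁻¹⁻¹ * t, mul_mem (D.B₀B h5) D.tB, ?_⟩
  have e3 : h⁻¹ * g * h⁻¹⁻¹ * t * h * (h⁻¹ * g * h⁻¹⁻¹ * t)⁻¹ =
      h⁻¹ * g * h⁻¹⁻¹ * (t * h * t⁻¹) * (h⁻¹ * g * h⁻¹⁻¹)⁻¹ := by
    rw [mul_inv_rev]; simp only [mul_assoc]
  rw [e3, eg, ← h4]
  generalize h⁻¹ * g * h⁻¹⁻¹ = w
  group

theorem exists_y [Finite W] : ∃ y ∈ Y, y * y = 1 ∧ y * h = h * y ∧ y ∉ St c := by
  obtain ⟨x, hx, hn, hxx, hh⟩ := D.exists_swap
  have hti := D.ti' hx hn
  rcases D.eps hx hn hxx hh with e | e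
  · exact D.exists_y_of hti (D.KY hx) e hxx (by rw [inv_mul_cancel]; exact one_mem _)
  have e4 : h * h * (h * h) = h := by
    have h1 : h * h * h = 1 := by rw [← p3]; exact D.h3
    rw [← mul_assoc, h1, one_mul]
  by_cases hb : ∃ b ∈ B₀, b ≠ 1 ∧ b * h = h * b
  · obtain ⟨b, hb, hb1, hbh⟩ := hb
    have hxi : x⁻¹ ∉ St c := fun h1 => hn (by simpa using inv_mem h1)
    refine ⟨x * b * x⁻¹, D.KY (mul_mem (mul_mem hx (D.B₀K hb)) (inv_mem hx)), ?_, ?_, fun h1 => hb1 ?_⟩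
    · have e1 : x * b * x⁻¹ * (x * b * x⁻¹) = x * (b * b) * x⁻¹ := by group
      rw [e1, Un_sq D.sq (D.un hb)]; group
    · have e1 : x * (h * h) * x⁻¹ = h := by
        have e5 : x * (h * h) * x⁻¹ = x * h * x⁻¹ * (x * h * x⁻¹) := by group
        rw [e5, e, e4]
      have e6 : x * b * x⁻¹ * (x * (h * h) * x⁻¹) = x * (h * h) * x⁻¹ * (x * b * x⁻¹) := by
        have e7 : b * (h * h) = h * h * b := by rw [← mul_assoc, hbh, mul_assoc, hbh, ← mul_assoc]
        have e8 : x * b * x⁻¹ * (x * (h * h) * x⁻¹) = x * (b * (h * h)) * x⁻¹ := by group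
        rw [e8, e7]; group
      rwa [e1] at e6
    · exact D.free' (x := x⁻¹) (inv_mem hx) hxi hb (by rwa [inv_inv])
  · push Not at hb
    obtain ⟨t', ht', hth⟩ := D.exists_t
    have htS := D.Bc ht'
    have hxx' : t' * x * t'⁻¹ ∈ K := D.BK t' ht' x hx
    have hxn' : t' * x * t'⁻¹ ∉ St c := by
      intro h1
      apply hn
      have h2 := mul_mem (mul_mem (inv_mem htS) h1) htS
      have e1 : t'⁻¹ * (t' * x * t'⁻¹) * t' = x := by group
      rwa [e1] at h2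
    obtain ⟨b, hbB, hbs⟩ := D.lines hx hn hxx' hxn'
    have hm : x⁻¹ * (t'⁻¹ * b) * x ∈ St c := by
      have h2 := mul_mem (inv_mem htS) hbs
      have e1 : t'⁻¹ * ((t' * x * t'⁻¹)⁻¹ * b * x) = x⁻¹ * (t'⁻¹ * b) * x := by group
      rwa [e1] at h2
    have hb1 : b⁻¹ * (h * b * h⁻¹) = 1 := by
      refine D.free' hx hn (mul_mem (inv_mem hbB) (D.KN D.hK D.hc hbB)) ?_
      have h2 : x⁻¹ * (b⁻¹ * h * b) * x ∈ St c := by
        have h3 := mul_mem (mul_mem (inv_mem hm) (inv_mem hh)) hm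
        have e1 : (x⁻¹ * (t'⁻¹ * b) * x)⁻¹ * (x⁻¹ * h * x)⁻¹ * (x⁻¹ * (t'⁻¹ * b) * x) =
            x⁻¹ * (b⁻¹ * (t' * h * t'⁻¹)⁻¹ * b) * x := by group
        rwa [e1, hth, inv_inv] at h3
      have h3 := mul_mem h2 (inv_mem hh)
      have e1 : x⁻¹ * (b⁻¹ * h * b) * x * (x⁻¹ * h * x)⁻¹ = x⁻¹ * (b⁻¹ * (h * b * h⁻¹)) * x := by group
      rwa [e1] at h3
    have hbe : b = 1 := by
      by_contra hne
      refine hb b hbB hne ?_
      rw [inv_mul_eq_one, eq_mul_inv_iff_mul_eq] at hb1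
      exact hb1
    rw [hbe, mul_one] at hm
    have hm' : x⁻¹ * t' * x ∈ St c := by
      have h2 := inv_mem hm
      have e1 : (x⁻¹ * t'⁻¹ * x)⁻¹ = x⁻¹ * t' * x := by group
      rwa [e1] at h2
    refine D.exists_y_of (w := x * t') hti (mul_mem (D.KY hx) (D.BY ht')) ?_ ?_ ?_
    · have e1 : t' * h = h⁻¹ * t' := by rw [← hth]; group
      have e2 : x * h⁻¹ = h * x := by
        have e3 : x * h⁻¹ * x⁻¹ = h := by
          have e5 : x * h⁻¹ * x⁻¹ = (x * h * x⁻¹)⁻¹ := by group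
          rw [e5, e]
          exact inv_eq_of_mul_eq_one_left (by rw [← mul_assoc, ← p3]; exact D.h3)
        rw [mul_inv_eq_iff_eq_mul] at e3
        exact e3
      rw [mul_assoc, e1, ← mul_assoc, e2, mul_assoc]
    · have e1 : x * t' * (x * t') = x * x * (x⁻¹ * t' * x) * t' := by group
      rw [e1]
      exact mul_mem (mul_mem hxx hm') htS
    · have e1 : (x * t')⁻¹ * x = t'⁻¹ := by group
      rw [e1]
      exact inv_mem htS

theorem fixc [Finite W] {u : MulAut W} (hu : u ∈ Un c) (hh : u * h = h * u) (hu1 : u ≠ 1) {v : W} (hv : u v = v) :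
    v ∈ c := by
  by_contra hn
  apply hu1
  have hc : ∀ v, u (h v) = h (u v) := fun v => congrArg (fun g : MulAut W => g v) hh
  have key : ∀ m w : W, u m = m → (QuotientGroup.mk w : W ⧸ c) = QuotientGroup.mk m → u w = w := by
    intro m w hm e
    rw [mk_eq] at e
    have h1 := hu.1 _ e
    rw [map_mul, map_inv, hm] at h1
    exact mul_right_cancel h1
  ext w
  rw [MulAut.one_apply]
  have hv' : (QuotientGroup.mk v : W ⧸ c) ≠ 1 := fun e => hn ((QuotientGroup.eq_one_iff v).1 e)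
  rcases D.fpq.cases (mem_top _) hv' (mem_top (QuotientGroup.mk w)) with e | e | e | e
  · exact hu.1 w ((QuotientGroup.eq_one_iff w).1 e)
  · exact key v w hv e
  · exact key (h v) w (by rw [hc, hv]) e
  · exact key (v * h v) w (by rw [map_mul, hc, hv]) e

theorem main_h [Finite W] {u : MulAut W} (hu : u ∈ Un c) (hh : u * h = h * u) (huY : ∀ y ∈ Y, u * y * u⁻¹ ∈ Y) :
    u ∈ Y := by
  by_cases hu1 : u = 1
  · rw [hu1]; exact one_mem _
  have F := D.fpc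
  obtain ⟨y, hy, hy2, hyh, hyn⟩ := D.exists_y
  have hu2 := Un_sq D.sq hu
  have eu : u⁻¹ = u := (eq_inv_of_mul_eq_one_left hu2).symm
  have ey : y⁻¹ = y := (eq_inv_of_mul_eq_one_left hy2).symm
  have hyc' : ∀ v, y (h v) = h (y v) := fun v => congrArg (fun g : MulAut W => g v) hyh
  have hyy : ∀ v, y (y v) = v := fun v => congrArg (fun g : MulAut W => g v) hy2
  have hyc : ∀ v ∈ c, y v ∈ c → v = 1 := by
    intro v hv hyv
    by_contra hv1
    apply hyn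
    have h1 : ∀ w ∈ c, y w ∈ c := by
      intro w hw
      rcases F.cases hv hv1 hw with rfl | rfl | rfl | rfl
      · rw [map_one]; exact one_mem _
      · exact hyv
      · rw [hyc']; exact F.mem _ hyv
      · rw [map_mul, hyc']; exact mul_mem hyv (F.mem _ hyv)
    intro w
    refine ⟨fun h2 => ?_, h1 w⟩
    have h3 := h1 _ h2
    rwa [hyy] at h3
  have euy : (u * y)⁻¹ = y * u := by rw [mul_inv_rev, eu, ey]
  have hodd : Odd (orderOf (u * y)) := by
    by_contra hev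
    rw [Nat.not_odd_iff_even] at hev
    obtain ⟨m, hm⟩ := hev
    have hpos : 0 < orderOf (u * y) := orderOf_pos _
    obtain ⟨w, hw⟩ : ∃ w, w = (u * y) ^ m := ⟨_, rfl⟩
    have hw1 : w ≠ 1 := by
      intro e
      rw [hw] at e
      have h1 := Nat.le_of_dvd (by omega) (orderOf_dvd_of_pow_eq_one e)
      omega
    have hw2 : w * w = 1 := by rw [hw, ← pow_add, ← hm, pow_orderOf_eq_one]
    have ew : w⁻¹ = w := (eq_inv_of_mul_eq_one_left hw2).symm
    have hwu : u * w * u⁻¹ = w := by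
      have h1 : u * (u * y) * u⁻¹ = (u * y)⁻¹ := by rw [euy, ← mul_assoc, hu2, one_mul, eu]
      have h2 : u * w * u⁻¹ = (u * (u * y) * u⁻¹) ^ m := by rw [hw, conj_pow]
      rw [h2, h1, inv_pow, ← hw, ew]
    have hwy : y * w * y⁻¹ = w := by
      have h1 : y * (u * y) * y⁻¹ = (u * y)⁻¹ := by rw [euy]; group
      have h2 : y * w * y⁻¹ = (y * (u * y) * y⁻¹) ^ m := by rw [hw, conj_pow]
      rw [h2, h1, inv_pow, ← hw, ew]
    have hwh : h * w * h⁻¹ = w := by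
      have h1 : h * (u * y) * h⁻¹ = u * y := by
        rw [← mul_assoc, ← hh, mul_assoc u h y, ← hyh]; group
      have h2 : h * w * h⁻¹ = (h * (u * y) * h⁻¹) ^ m := by rw [hw, conj_pow]
      rw [h2, h1, ← hw]
    rw [mul_inv_eq_iff_eq_mul] at hwu hwy hwh
    have hwu' : ∀ v, u (w v) = w (u v) := fun v => congrArg (fun g : MulAut W => g v) hwu
    have hwy' : ∀ v, y (w v) = w (y v) := fun v => congrArg (fun g : MulAut W => g v) hwy
    have hwh' : ∀ v, h (w v) = w (h v) := fun v => congrArg (fun g : MulAut W => g v) hwh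
    have hww : ∀ v, w (w v) = v := fun v => congrArg (fun g : MulAut W => g v) hw2
    have hwc : ∀ v ∈ c, w v ∈ c := fun v hv => D.fixc hu hh hu1 (by rw [hwu', hu.1 v hv])
    have hwt : ∀ v ∈ c, w v = v := fun v hv =>
      F.cent_two hwc (fun v _ => (hwh' v).symm) (fun v _ => hww v) hv
    apply hw1
    ext v
    obtain ⟨a, ha, m', hm', rfl⟩ := D.dec hyc v
    rw [MulAut.one_apply, map_mul, hwt a ha, ← hwy', hwt m' hm']
  obtain ⟨k, hk⟩ := hodd
  have h1 : (u * y) * (u * y) ∈ Y := by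
    have e1 : (u * y) * (u * y) = u * y * u⁻¹ * y := by rw [eu]; group
    rw [e1]
    exact mul_mem (huY y hy) hy
  have h2 : u * y ∈ Y := by
    have h3 := pow_mem h1 (k + 1)
    have e1 : (u * y * (u * y)) ^ (k + 1) = u * y := by
      rw [← pow_two, ← pow_mul, show 2 * (k + 1) = (2 * k + 1) + 1 by ring, pow_succ, ← hk, pow_orderOf_eq_one,
        one_mul]
    rwa [e1] at h3
  have h3 := mul_mem h2 (inv_mem hy)
  rwa [mul_inv_cancel_right] at h3

/-- an element which is trivial on `c` -/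
theorem main_un [Finite W] {s : MulAut W} (hs : s ∈ St c) (hc : ∀ v ∈ c, s v = v)
    (hsY : ∀ y ∈ Y, s * y * s⁻¹ ∈ Y) {n : ℕ} (hn : s ^ (2 ^ n) = 1) : s ∈ B₀ := by
  have hBY : B₀ ≤ Y := D.B₀K.trans D.KY
  have hsB : ∀ b ∈ B₀, s * b * s⁻¹ ∈ B₀ := fun b hb => D.YUn (hsY b (hBY hb)) (Un_norm hs (D.un hb))
  obtain ⟨x, hx, hxn⟩ := D.mv
  obtain ⟨m, hm, hm2⟩ := exists_fix D.sq hn ⟨x z, fun h1 => D.z1 (D.ti' hx hxn z D.zc h1)⟩
  have hcomm : ∀ b ∈ B₀, s * b * s⁻¹ = b := by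
    intro b hb
    have h1 := hsB b hb
    have e1 : (s * b * s⁻¹) (s m) = b m * m⁻¹ * s m := by
      show s (b (s⁻¹ (s m))) = _
      rw [MulAut.inv_apply_self]
      have h2 := hc _ ((D.un hb).2 m)
      rw [map_mul, map_inv, mul_inv_eq_iff_eq_mul] at h2
      exact h2
    have e2 : (s * b * s⁻¹) (s m * m⁻¹) = s m * m⁻¹ := (D.un h1).1 _ hm2
    rw [map_mul, e1, map_inv, mul_inv_eq_iff_eq_mul, mul_comm (b m * m⁻¹)] at e2
    have e3 : (s * b * s⁻¹) m = b m := by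
      have e4 : s m * (b m * m⁻¹) = s m * (m⁻¹ * (s * b * s⁻¹) m) := by rw [e2, mul_assoc]
      have e5 := mul_left_cancel e4
      rw [mul_comm (b m)] at e5
      exact (mul_left_cancel e5).symm
    have h4 : b⁻¹ * (s * b * s⁻¹) = 1 := by
      refine D.free _ (mul_mem (inv_mem hb) h1) m hm ?_
      rw [MulAut.mul_apply, e3, MulAut.inv_apply_self]
    exact (inv_mul_eq_one.1 h4).symm
  have hsU : s ∈ Un c := by
    refine ⟨hc, fun v => ?_⟩
    obtain ⟨b, hb, hbe⟩ := D.orb hm D.zc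
    have hb1 : b ≠ 1 := by
      rintro rfl
      rw [MulAut.one_apply] at hbe
      exact D.z1 (by simpa using hbe.symm)
    by_contra hv
    apply hb1
    refine D.free b hb _ hv ?_
    have h1 := hcomm b hb
    rw [mul_inv_eq_iff_eq_mul] at h1
    have h2 : s (b v) = b (s v) := congrArg (fun g : MulAut W => g v) h1
    have h3 := hc _ ((D.un hb).2 v)
    rw [map_mul, map_inv, h2, mul_inv_eq_iff_eq_mul] at h3
    rw [map_mul, map_inv, h3, mul_comm (b v * v⁻¹), mul_assoc, mul_assoc, mul_comm v⁻¹, ← mul_assoc (b v),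
      mul_inv_cancel, one_mul]
  -- `[s, h]`
  have hg : s * h * s⁻¹ * h⁻¹ ∈ B₀ := by
    refine D.YUn (mul_mem (hsY h (D.KY D.hK)) (inv_mem (D.KY D.hK))) ?_
    have e : s * h * s⁻¹ * h⁻¹ = s * (h * s⁻¹ * h⁻¹) := by group
    rw [e]
    exact mul_mem hsU (Un_norm D.hc (inv_mem hsU))
  obtain ⟨g, hgd⟩ : ∃ g, g = s * h * s⁻¹ * h⁻¹ := ⟨_, rfl⟩
  rw [← hgd] at hg
  have eg : g * h = s * h * s⁻¹ := by rw [hgd]; group
  have h3g : (g * h) ^ 3 = 1 := by
    rw [eg]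
    have : (s * h * s⁻¹) ^ 3 = s * h ^ 3 * s⁻¹ := by rw [p3, p3]; group
    rw [this, D.h3]; group
  have h4 := idA (Un_sq D.sq (D.un hg)) D.h3 h3g
  have h5 := D.KN D.hK D.hc hg
  obtain ⟨b, hbd⟩ : ∃ b, b = h * g * h⁻¹ := ⟨_, rfl⟩
  rw [← hbd] at h4 h5
  have hbY : b ∈ Y := hBY h5
  have hu : b * s ∈ Un c := mul_mem (D.un h5) hsU
  have hcm : b * s * h = h * (b * s) := by
    have e1 : b * (s * h * s⁻¹) = h * b := by
      rw [← eg, ← h4]; group
    calc b * s * h = b * (s * h * s⁻¹) * s := by group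
      _ = h * (b * s) := by rw [e1, mul_assoc]
  have h6 : b * s ∈ Y := D.main_h hu hcm fun y hy => by
    have e1 : b * s * y * (b * s)⁻¹ = b * (s * y * s⁻¹) * b⁻¹ := by group
    rw [e1]
    exact mul_mem (mul_mem hbY (hsY y hy)) (inv_mem hbY)
  have h7 := D.YUn h6 hu
  have h8 := mul_mem (inv_mem h5) h7
  rwa [inv_mul_cancel_left] at h8

/-- **(Sig)** = LEMMA U. -/
theorem main [Finite W] {s : MulAut W} (hs : s ∈ St c) (sz : s z = z)
    (hsY : ∀ y ∈ Y, s * y * s⁻¹ ∈ Y) (hp : IsPGroup 2 (B ⊔ zpowers s : Subgroup (MulAut W))) : s ∈ B := by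
  have key : ∀ g : MulAut W, g ∈ (B ⊔ zpowers s : Subgroup (MulAut W)) → ∃ n : ℕ, g ^ (2 ^ n) = 1 := by
    intro g hg
    obtain ⟨n, hn⟩ := hp ⟨g, hg⟩
    exact ⟨n, congrArg Subtype.val hn⟩
  by_cases hc : ∀ v ∈ c, s v = v
  · obtain ⟨n, hn⟩ := key s (mem_sup_right (mem_zpowers s))
    exact D.B₀B (D.main_un hs hc hsY hn)
  push Not at hc
  obtain ⟨a, ha, hne⟩ := hc
  have ha1 : a ≠ 1 := by
    rintro rfl
    exact hne (map_one _)
  have haz : z ≠ a := by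
    rintro rfl
    exact hne sz
  have tS := D.Bc D.tB
  have F := D.fpc
  -- both map `a` to `z a`
  have h1 : ∀ g : MulAut W, g ∈ St c → g z = z → g a ≠ a → g a = z * a := by
    intro g hg hgz hga
    rcases four D.cc D.sq D.zc ha D.z1 ha1 haz ((hg a).2 ha) with e | e | e | e
    · exact absurd e (F.ne_one ha1 g)
    · exfalso
      rw [← hgz] at e
      exact haz (g.injective e).symm
    · exact absurd e hga
    · exact e
  have hta : t a ≠ a := by
    intro e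
    obtain ⟨v, hv, hvne⟩ := D.tn
    apply hvne
    rcases four D.cc D.sq D.zc ha D.z1 ha1 haz hv with rfl | rfl | rfl | rfl
    · rw [map_one]
    · exact D.tz
    · exact e
    · rw [map_mul, D.tz, e]
  have e1 := h1 s hs sz hne
  have e2 := h1 t tS D.tz hta
  have e3 : ∀ v ∈ c, (t⁻¹ * s) v = v := by
    intro v hv
    have h2 : s v = t v := by
      rcases four D.cc D.sq D.zc ha D.z1 ha1 haz hv with rfl | rfl | rfl | rfl
      · rw [map_one, map_one]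
      · rw [sz, D.tz]
      · rw [e1, e2]
      · rw [map_mul, map_mul, sz, D.tz, e1, e2]
    rw [MulAut.mul_apply, h2, MulAut.inv_apply_self]
  have htY := D.BY D.tB
  obtain ⟨n, hn⟩ := key (t⁻¹ * s) (mul_mem (inv_mem (mem_sup_left D.tB)) (mem_sup_right (mem_zpowers s)))
  have h2 := D.main_un (mul_mem (inv_mem tS) hs) e3 (fun y hy => by
    have e4 : t⁻¹ * s * y * (t⁻¹ * s)⁻¹ = t⁻¹ * (s * y * s⁻¹) * t := by group
    rw [e4]
    exact mul_mem (mul_mem (inv_mem htY) (hsY y hy)) htY) hn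
  have h3 := mul_mem D.tB (D.B₀B h2)
  rwa [mul_inv_cancel_left] at h3

end Dt

end abs

end Cfsg.Agent.Omega.OM.Lev.Low.TorusK.SigU

end
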